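import Cfsg.Agent.TwoGroupsQ.UniqueInvolution
import Cfsg.Agent.SmallRankAut.Basic
import Cfsg.Agent.Inv54.QuaternionAut

/-!
# Odd automorphisms of 2-groups with one involution

An automorphism of odd prime order of a 2-group with a unique involution is trivial, unless the
group is `Q₈` and the prime is `3`; facts about the automorphisms of order `3` of `Q₈`.
-/

set_option autoImplicit false
set_option linter.style.haveILetI false

namespace CfsgLib.OddAutOneInvolution

open QuaternionGroup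

local notation "Q8" => QuaternionGroup 2

theorem q8_decide_auto : ∀ x y : QuaternionGroup 2, Inv54.IsBasis x y →
    (∀ q, Inv54.mkFun x y (Inv54.mkFun x y (Inv54.mkFun x y q)) = q) →
    (∃ q, Inv54.mkFun x y q ≠ q) → ∀ u : QuaternionGroup 2, u * u ≠ 1 →
      Inv54.mkFun x y u * u ≠ u * Inv54.mkFun x y u := by decide +kernel

theorem q8_decide_words : ∀ u v g : QuaternionGroup 2, u * v ≠ v * u →
    g = 1 ∨ g = u ∨ g = v ∨ g = u * u ∨ g = u * v ∨ g = v * u ∨ g = u * u * u ∨ g = v * v * v := by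
  decide +kernel

/-- An automorphism of order 3 of `Q₈` moves every element of order 4 out of its centralizer. -/
theorem q8_not_commute (ψ : MulAut Q8) (h3 : ψ ^ 3 = 1) (h1 : ψ ≠ 1) {u : Q8} (hu : u * u ≠ 1) :
    ψ u * u ≠ u * ψ u := by
  have hψ := Inv54.aut_eq_mkFun ψ
  rw [hψ u]
  refine q8_decide_auto _ _ (Inv54.isBasis_aut ψ) (fun q => ?_) ?_ u hu
  · rw [← hψ, ← hψ, ← hψ]
    have := MulEquiv.congr_fun h3 q
    simpa [pow_succ] using this
  · by_contra! h
    exact h1 (MulEquiv.ext fun q => (hψ q).trans (h q))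

theorem q8_eq_top (H : Subgroup Q8) {u v : Q8} (hu : u ∈ H) (hv : v ∈ H)
    (h : u * v ≠ v * u) : H = ⊤ := by
  refine (Subgroup.eq_top_iff' H).2 fun g => ?_
  rcases q8_decide_words u v g h with e | e | e | e | e | e | e | e <;> rw [e]
  exacts [H.one_mem, hu, hv, mul_mem hu hu, mul_mem hu hv, mul_mem hv hu,
    mul_mem (mul_mem hu hu) hu, mul_mem (mul_mem hv hv) hv]

theorem card_mulAut_q8 : Nat.card (MulAut Q8) = 24 := by
  let B := {xy : Q8 × Q8 // Inv54.IsBasis xy.1 xy.2}
  let f : MulAut Q8 → B := fun σ => ⟨(σ (a 1), σ (xa 0)), Inv54.isBasis_aut σ⟩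
  have hf : Function.Bijective f := by
    constructor
    · intro σ τ h
      have h' := congrArg Subtype.val h
      refine MulEquiv.ext fun q => ?_
      rw [Inv54.aut_eq_mkFun σ q, Inv54.aut_eq_mkFun τ q]
      simp only [f, Prod.mk.injEq] at h'
      rw [h'.1, h'.2]
    · rintro ⟨⟨x, y⟩, hxy⟩
      obtain ⟨hmul, hinj⟩ := Inv54.mkFun_isHom x y hxy
      refine ⟨MulEquiv.ofBijective (MonoidHom.mk' (Inv54.mkFun x y) hmul)
        (Finite.injective_iff_bijective.mp hinj), Subtype.ext ?_⟩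
      have hx : ∀ x y : Q8, Inv54.mkFun x y (a 1) = x ∧ Inv54.mkFun x y (xa 0) = y := by
        decide +kernel
      exact Prod.ext (hx x y).1 (hx x y).2
  rw [Nat.card_eq_of_bijective f hf, Nat.card_eq_fintype_card]
  decide +kernel

theorem card_le_three (P : Subgroup (MulAut Q8)) (hP : IsPGroup 3 ↥P) : Nat.card P ≤ 3 := by
  haveI : Fact (Nat.Prime 3) := ⟨Nat.prime_three⟩
  obtain ⟨k, hk⟩ := hP.exists_card_eq
  have hd := P.card_subgroup_dvd_card
  rw [card_mulAut_q8, hk] at hd
  rw [hk]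
  rcases k with _ | _ | k
  · norm_num
  · norm_num
  · exfalso
    have : 3 ^ 2 ∣ 24 := (pow_dvd_pow 3 (by omega)).trans hd
    norm_num at this

theorem a_pow {n : ℕ} (i : ZMod (2 * n)) (k : ℕ) : (a i : QuaternionGroup n) ^ k = a ((k : ZMod (2 * n)) * i) := by
  induction k with
  | zero => rw [pow_zero, Nat.cast_zero, zero_mul, a_zero]
  | succ k ih => rw [pow_succ, ih, a_mul_a, Nat.cast_succ]; ring_nf

/-- An automorphism of order 3 of a generalised quaternion group of order at least 16 is trivial. -/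
theorem quaternion_aut_three {m : ℕ} (hm : 2 ≤ m) (ψ : MulAut (QuaternionGroup (2 ^ m)))
    (h3 : ψ ^ 3 = 1) : ψ = 1 := by
  have h4 : 4 ≤ 2 ^ m := le_trans (by norm_num) (pow_le_pow_right₀ (by norm_num : 1 ≤ 2) hm)
  have hoo : orderOf (ψ (a 1)) = 2 * 2 ^ m := by
    rw [MulEquiv.orderOf_eq, orderOf_a_one]
  obtain ⟨i, hi⟩ : ∃ i, ψ (a 1) = a i := by
    rcases hq : ψ (a 1) with i | i
    · exact ⟨i, rfl⟩
    · rw [hq, orderOf_xa] at hoo
      omega
  have hpow : ∀ x, ψ (ψ (ψ x)) = x := fun x => by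
    simpa [pow_succ] using MulEquiv.congr_fun h3 x
  have ha : ∀ j, ψ (a j) = a (i * j) := by
    intro j
    haveI : NeZero (2 * 2 ^ m) := ⟨by positivity⟩
    conv_lhs => rw [← ZMod.natCast_zmod_val j, ← a_one_pow, map_pow, hi, a_pow,
      ZMod.natCast_zmod_val, mul_comm]
  have hi3 : i ^ 3 = 1 := by
    have h := hpow (a 1)
    rw [ha, ha, ha] at h
    have h' : i * (i * (i * 1)) = 1 := by injection h
    rw [← h']; ring
  have hN : (2 * 2 ^ m) = 2 ^ (m + 1) := by rw [pow_succ']
  have hi1 : i = 1 := by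
    haveI : NeZero (2 * 2 ^ m) := ⟨by positivity⟩
    let u : (ZMod (2 * 2 ^ m))ˣ := Units.ofPowEqOne i 3 hi3 (by norm_num)
    have hu3 : u ^ 3 = 1 := Units.ext (by simpa [u] using hi3)
    have huφ : u ^ (2 ^ m) = 1 := by
      have := ZMod.pow_totient u
      have htot : Nat.totient (2 * 2 ^ m) = 2 ^ m := by
        rw [hN, Nat.totient_prime_pow_succ Nat.prime_two]; ring
      rwa [htot] at this
    have hu1 : u = 1 := by
      have hcop : Nat.Coprime 3 (2 ^ m) := Nat.Coprime.pow_right m (by norm_num)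
      have h' := pow_gcd_eq_one.2 ⟨hu3, huφ⟩
      rw [hcop] at h'
      simpa using h'
    exact congrArg Units.val hu1
  obtain ⟨k, hk⟩ : ∃ k, ψ (xa 0) = xa k := by
    rcases hq : ψ (xa 0) with j | j
    · exfalso
      have : ψ (a j) = ψ (xa 0) := by rw [ha, hi1, one_mul, hq]
      cases ψ.injective this
    · exact ⟨j, rfl⟩
  have hxa : ∀ j, ψ (xa j) = xa (k + j) := by
    intro j
    rw [show (xa j : QuaternionGroup (2 ^ m)) = xa 0 * a j by rw [xa_mul_a, zero_add], map_mul, hk,
      ha, hi1, one_mul, xa_mul_a]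
  have hk3 : k + (k + (k + 0)) = 0 := by
    have h := hpow (xa 0)
    rw [hxa, hxa, hxa] at h
    injection h
  have hk0 : k = 0 := by
    have h' : ((3 : ℕ) : ZMod (2 * 2 ^ m)) * k = 0 := by
      rw [← hk3]; push_cast; ring
    have hu : IsUnit ((3 : ℕ) : ZMod (2 * 2 ^ m)) := by
      rw [ZMod.isUnit_iff_coprime, hN]
      exact Nat.Coprime.pow_right _ (by norm_num)
    exact hu.mul_right_eq_zero.1 h'
  refine MulEquiv.ext fun q => ?_
  rcases q with j | j
  · rw [ha, hi1, one_mul]; rfl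
  · rw [hxa, hk0, zero_add]; rfl

/-- An automorphism of odd prime order of a 2-group with one involution is trivial, apart from
`Q₈` and the prime `3`. -/
theorem eq_one_or_q8 {Q : Type*} [Group Q] [Finite Q] (hQ : IsPGroup 2 Q)
    (hu : TwoGroupsQ.HasUniqueOrderP Q 2) {p : ℕ} [hp : Fact p.Prime] (hp2 : p ≠ 2) (ψ : MulAut Q)
    (hψ : ψ ^ p = 1) : ψ = 1 ∨ (p = 3 ∧ Nonempty (Q ≃* QuaternionGroup 2)) := by
  classical
  haveI : Fact (Nat.Prime 2) := ⟨Nat.prime_two⟩
  have hp' := hp.out.two_le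
  rcases TwoGroupsQ.isCyclic_or_quaternion hQ hu with hc | ⟨-, m, hm, ⟨e⟩⟩
  · obtain ⟨g, hg⟩ := hc.exists_generator
    refine Or.inl (SmallRankAut.eq_one_of_prime_pow_eq_one (d := 1) hQ ψ {g} ?_ (by simp) hp2 hψ
      (fun i h1 h2 => ?_))
    · rw [Finset.coe_singleton, ← Subgroup.zpowers_eq_closure]
      exact (Subgroup.eq_top_iff' _).2 hg
    · obtain rfl : i = 1 := by omega
      exact fun h => hp.out.not_dvd_one (by simpa using h)
  by_cases h3 : p = 3
  · by_cases hm1 : m = 1
    · subst hm1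
      exact Or.inr ⟨h3, ⟨e⟩⟩
    subst h3
    refine Or.inl ?_
    have h : MulAut.congr e ψ = 1 := quaternion_aut_three (by omega) _ (by
      rw [← map_pow, hψ, map_one])
    exact (MulAut.congr e).injective (h.trans (map_one _).symm)
  · refine Or.inl (SmallRankAut.eq_one_of_prime_pow_eq_one (d := 2) hQ ψ
      {e.symm (a 1), e.symm (xa 0)} ?_ (Finset.card_le_two) hp2 hψ (fun i h1 h2 hd => ?_))
    · refine (Subgroup.eq_top_iff' _).2 fun q => ?_
      rw [← e.symm_apply_apply q]
      have hx : ∀ j, e.symm (a j) ∈ Subgroup.closure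
          (({e.symm (a 1), e.symm (xa 0)} : Finset Q) : Set Q) := fun j => by
        rw [← ZMod.natCast_zmod_val j, ← a_one_pow, map_pow]
        exact pow_mem (Subgroup.subset_closure (by simp)) _
      rcases e q with j | j
      · exact hx j
      · rw [show (xa j : QuaternionGroup (2 ^ m)) = xa 0 * a j by rw [xa_mul_a, zero_add], map_mul]
        exact mul_mem (Subgroup.subset_closure (by simp)) (hx j)
    · interval_cases i
      · exact hp.out.not_dvd_one (by simpa using hd)
      · exact h3 ((Nat.prime_dvd_prime_iff_eq hp.out Nat.prime_three).1 (by simpa using hd))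

end CfsgLib.OddAutOneInvolution
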