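import Cfsg.Agent.AutAlt.Basic
import Mathlib

/-!
# Automorphisms of 3-power order of alternating groups come from the symmetric group
-/

set_option autoImplicit false

namespace CfsgLib.AltOddAut

open Equiv Equiv.Perm

/-- Representatives of the elements of order three of `A₆`. -/
def c₀ : alternatingGroup (Fin 6) :=
  ⟨swap 0 1 * swap 1 2, by rw [Perm.mem_alternatingGroup]; decide +kernel⟩

/-- Representatives of the elements of order three of `A₆`. -/
def d₀ : alternatingGroup (Fin 6) :=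
  ⟨swap 0 1 * swap 1 2 * (swap 3 4 * swap 4 5), by rw [Perm.mem_alternatingGroup]; decide +kernel⟩

theorem classes : ∀ a : alternatingGroup (Fin 6), a ^ 3 = 1 → a ≠ 1 →
    ((a : Perm (Fin 6)).support.card = 3 → ∃ g, g * c₀ * g⁻¹ = a) ∧
    ((a : Perm (Fin 6)).support.card ≠ 3 → ∃ g, g * d₀ * g⁻¹ = a) := by
  decide +kernel

theorem supp_c₀ : (c₀ : Perm (Fin 6)).support.card = 3 := by decide +kernel

theorem supp_d₀ : (d₀ : Perm (Fin 6)).support.card ≠ 3 := by decide +kernel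

theorem supp_conj (g a : alternatingGroup (Fin 6)) :
    ((g * a * g⁻¹ : alternatingGroup (Fin 6)) : Perm (Fin 6)).support.card =
      (a : Perm (Fin 6)).support.card := by
  rw [Subgroup.coe_mul, Subgroup.coe_mul, Subgroup.coe_inv, Perm.card_support_conj]

theorem isThreeCycle_map_six (φ : MulAut (alternatingGroup (Fin 6))) {k : ℕ} (hk : φ ^ 3 ^ k = 1)
    (g : alternatingGroup (Fin 6)) (hg : (g : Perm (Fin 6)).IsThreeCycle) :
    ((φ g : alternatingGroup (Fin 6)) : Perm (Fin 6)).IsThreeCycle := by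
  have three : ∀ a : alternatingGroup (Fin 6), (∃ h, h * c₀ * h⁻¹ = a) ∨ (∃ h, h * d₀ * h⁻¹ = a) →
      a ^ 3 = 1 ∧ a ≠ 1 := by
    have hc : c₀ ^ 3 = 1 ∧ c₀ ≠ 1 ∧ d₀ ^ 3 = 1 ∧ d₀ ≠ 1 := by decide +kernel
    rintro a (⟨h, rfl⟩ | ⟨h, rfl⟩) <;> refine ⟨?_, fun e => ?_⟩
    · rw [conj_pow, hc.1]; group
    · exact hc.2.1 (conj_eq_one_iff.1 e)
    · rw [conj_pow, hc.2.2.1]; group
    · exact hc.2.2.2 (conj_eq_one_iff.1 e)
  -- whether an element lies in the class of `c₀`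
  let P : alternatingGroup (Fin 6) → Prop := fun a => (a : Perm (Fin 6)).support.card = 3
  have hPc : ∀ h, P (h * c₀ * h⁻¹) := fun h => (supp_conj h c₀).trans supp_c₀
  have hPd : ∀ h, ¬ P (h * d₀ * h⁻¹) := fun h e => supp_d₀ ((supp_conj h d₀).symm.trans e)
  have hord : ∀ a : alternatingGroup (Fin 6), a ^ 3 = 1 ∧ a ≠ 1 → (φ a) ^ 3 = 1 ∧ φ a ≠ 1 := fun a ha =>
    ⟨by rw [← map_pow, ha.1, map_one], fun e => ha.2 (φ.injective (e.trans φ.map_one.symm))⟩
  have hstep : ∀ a b : alternatingGroup (Fin 6), a ^ 3 = 1 ∧ a ≠ 1 → b ^ 3 = 1 ∧ b ≠ 1 →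
      ((P (φ a) ↔ P (φ b)) ↔ (P a ↔ P b)) := by
    intro a b ha hb
    have conjP : ∀ a h, P (φ (h * a * h⁻¹)) ↔ P (φ a) := fun a h => by
      rw [map_mul, map_mul, map_inv]; show _ = 3 ↔ _ = 3; rw [supp_conj]
    have red : ∀ u, u ^ 3 = 1 ∧ u ≠ 1 →
        ((P (φ u) ↔ P (φ c₀)) ∧ P u) ∨ ((P (φ u) ↔ P (φ d₀)) ∧ ¬ P u) := fun u hu => by
      by_cases h : P u
      · obtain ⟨w, rfl⟩ := (classes u hu.1 hu.2).1 h
        exact Or.inl ⟨conjP c₀ w, h⟩
      · obtain ⟨w, rfl⟩ := (classes u hu.1 hu.2).2 h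
        exact Or.inr ⟨conjP d₀ w, h⟩
    have hne : ¬ (P (φ c₀) ↔ P (φ d₀)) := by
      intro hiff
      have hc3 := hord c₀ (three c₀ (Or.inl ⟨1, by group⟩))
      have hd3 := hord d₀ (three d₀ (Or.inr ⟨1, by group⟩))
      have : ∃ w, w * φ c₀ * w⁻¹ = φ d₀ := by
        by_cases h : P (φ c₀)
        · obtain ⟨u, hu⟩ := (classes _ hc3.1 hc3.2).1 h
          obtain ⟨v, hv⟩ := (classes _ hd3.1 hd3.2).1 (hiff.1 h)
          exact ⟨v * u⁻¹, by rw [← hu, ← hv]; group⟩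
        · obtain ⟨u, hu⟩ := (classes _ hc3.1 hc3.2).2 h
          obtain ⟨v, hv⟩ := (classes _ hd3.1 hd3.2).2 (fun h' => h (hiff.2 h'))
          exact ⟨v * u⁻¹, by rw [← hu, ← hv]; group⟩
      obtain ⟨w, hw⟩ := this
      have hcd : φ.symm w * c₀ * (φ.symm w)⁻¹ = d₀ := φ.injective (by
        rw [map_mul, map_mul, map_inv, φ.apply_symm_apply, hw])
      exact supp_d₀ (hcd ▸ hPc _)
    rcases red a ha with ⟨h1, h2⟩ | ⟨h1, h2⟩ <;> rcases red b hb with ⟨h3, h4⟩ | ⟨h3, h4⟩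
    · exact ⟨fun _ => iff_of_true h2 h4, fun _ => h1.trans h3.symm⟩
    · exact ⟨fun h => absurd (h1.symm.trans (h.trans h3)) hne, fun h => absurd (h.1 h2) h4⟩
    · exact ⟨fun h => absurd (h3.symm.trans (h.symm.trans h1)) hne, fun h => absurd (h.2 h4) h2⟩
    · exact ⟨fun _ => iff_of_false h2 h4, fun _ => h1.trans h3.symm⟩
  have hbase : P g := card_support_eq_three_iff.2 hg
  have hg3 : g ^ 3 = 1 ∧ g ≠ 1 := by
    obtain ⟨w, rfl⟩ := (classes g (Subtype.ext (by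
      rw [Subgroup.coe_pow, ← hg.orderOf, pow_orderOf_eq_one]; rfl))
      (fun e => by rw [e] at hbase; exact absurd hbase (by decide +kernel))).1 hbase
    exact three _ (Or.inl ⟨w, rfl⟩)
  by_contra hnot
  have hn : ¬ P (φ g) := fun h => hnot (card_support_eq_three_iff.1 h)
  have key : ∀ j : ℕ, ((φ ^ j) g ^ 3 = 1 ∧ (φ ^ j) g ≠ 1) ∧ (P ((φ ^ j) g) ↔ Even j) := by
    intro j
    induction j with
    | zero => exact ⟨by simpa using hg3, by simpa using hbase⟩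
    | succ j ih =>
      rw [show φ ^ (j + 1) = φ * φ ^ j from pow_succ' φ j, MulAut.mul_apply]
      refine ⟨hord _ ih.1, ?_⟩
      have h1 := hstep _ g ih.1 hg3
      have h2 := ih.2
      rw [Nat.even_add_one]
      exact ⟨fun hp he => hn ((h1.2 (iff_of_true (h2.2 he) hbase)).1 hp),
        fun he => by_contra fun hp => he (h2.1 ((h1.1 (iff_of_false hp hn)).2 hbase))⟩
  have h2 := (key (3 ^ k)).2
  rw [hk, MulAut.one_apply] at h2
  exact Nat.not_even_iff_odd.2 (Odd.pow (by decide)) (h2.1 hbase)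

/-- An automorphism of `Aₙ` of 3-power order is induced by a permutation. -/
theorem exists_conjNormal {n : ℕ} (hn : 4 ≤ n) (φ : MulAut (alternatingGroup (Fin n))) {k : ℕ}
    (hk : φ ^ 3 ^ k = 1) : ∃ σ : Perm (Fin n), MulAut.conjNormal σ = φ := by
  by_cases h6 : n = 6
  · subst h6
    obtain ⟨σ, hσ⟩ := AutAlt.exists_conj_of_preserves φ (by simp) (isThreeCycle_map_six φ hk)
    exact ⟨σ, MulEquiv.ext fun a => Subtype.ext (by rw [MulAut.conjNormal_apply]; exact (hσ a).symm)⟩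
  · exact (AutAlt.conjNormal_bijective (α := Fin n) (by simpa using hn) (by simpa using h6)).2 φ

end CfsgLib.AltOddAut
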