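import Cfsg.Agent.LocalEven49.SixtyFourModel
import Cfsg.Agent.SmallRankAut.Basic
import Cfsg.Agent.FpfThree.SixtyFour

/-!
# 2-groups with a central fours group as centraliser of an involutory automorphism

A commuting automorphism of order 3 acts fixed point freely on the fours group.
-/

set_option autoImplicit false
set_option linter.style.haveILetI false
set_option linter.unusedSectionVars false

namespace CfsgLib.FoursCenter

open scoped commutatorElement
open SixtyFourModel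

universe u

/-- An involutory automorphism of a 2-group fixes a non-trivial element of each non-trivial
invariant subgroup. -/
theorem exists_fixed {T : Type*} [Group T] [Finite T] (hT : IsPGroup 2 T) (τ : MulAut T)
    (hτ : ∀ x, τ (τ x) = x) (H : Subgroup T) (hH : ∀ x ∈ H, τ x ∈ H) (hne : H ≠ ⊥) :
    ∃ x ∈ H, x ≠ 1 ∧ τ x = x := by
  haveI : Fact (Nat.Prime 2) := ⟨Nat.prime_two⟩
  let π : Equiv.Perm H :=
    ⟨fun a => ⟨τ a, hH a a.2⟩, fun a => ⟨τ a, hH a a.2⟩, fun a => Subtype.ext (hτ a),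
      fun a => Subtype.ext (hτ a)⟩
  have hm := SmallRankAut.card_fixed_modEq (q := 2) π (Equiv.ext fun a => Subtype.ext (by
    simp [pow_two, π, hτ]))
  by_contra! h
  have h1 : Nat.card {a : H // π a = a} = 1 :=
    Nat.card_eq_one_iff_unique.2 ⟨⟨fun a b => by
      have key : ∀ a : {a : H // π a = a}, ((a : H) : T) = 1 := fun a => by
        by_contra ha
        exact h _ a.1.2 ha (congrArg Subtype.val a.2)
      exact Subtype.ext (Subtype.ext ((key a).trans (key b).symm))⟩,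
      ⟨⟨1, Subtype.ext (map_one τ)⟩⟩⟩
  rw [h1] at hm
  haveI := (Subgroup.nontrivial_iff_ne_bot H).2 hne
  obtain ⟨n, hn0, hn⟩ := (hT.to_subgroup H).nontrivial_iff_card.1 inferInstance
  rw [hn, Nat.ModEq, Nat.pow_mod, Nat.mod_self, zero_pow hn0.ne'] at hm
  norm_num at hm

/-- The hypotheses. -/
structure Hyp {T : Type u} [Group T] (σ τ : MulAut T) (V : Subgroup T) : Prop where
  two : IsPGroup 2 T
  hV : V ≤ Subgroup.center T
  card : Nat.card V = 4
  exp : ∀ v ∈ V, v * v = 1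
  hσ3 : ∀ x, σ (σ (σ x)) = x
  hτ2 : ∀ x, τ (τ x) = x
  comm : ∀ x, σ (τ x) = τ (σ x)
  fix : ∀ x, τ x = x ↔ x ∈ V
  fpV : ∀ v ∈ V, σ v = v → v = 1

variable {T : Type u} [Group T] [Finite T] {σ τ : MulAut T} {V : Subgroup T}

/-- The preimage of the fixed points of `τ` modulo `V`. -/
def fixMod (τ : MulAut T) (V : Subgroup T) (hV : V ≤ Subgroup.center T) : Subgroup T where
  carrier := {x | x⁻¹ * τ x ∈ V}
  one_mem' := by simp
  mul_mem' {x y} hx hy := by
    show (x * y)⁻¹ * τ (x * y) ∈ V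
    rw [map_mul, show (x * y)⁻¹ * (τ x * τ y) = y⁻¹ * (x⁻¹ * τ x) * τ y by group,
      Subgroup.mem_center_iff.1 (hV hx) y⁻¹, mul_assoc]
    exact mul_mem hx hy
  inv_mem' {x} hx := by
    show x⁻¹⁻¹ * τ x⁻¹ ∈ V
    rw [map_inv, show x⁻¹⁻¹ * (τ x)⁻¹ = x * (x⁻¹ * τ x)⁻¹ * x⁻¹ by group,
      Subgroup.mem_center_iff.1 (hV (inv_mem hx)) x, mul_inv_cancel_right]
    exact inv_mem hx

theorem mem_fixMod {hV : V ≤ Subgroup.center T} {x : T} :
    x ∈ fixMod τ V hV ↔ x⁻¹ * τ x ∈ V := Iff.rfl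

namespace Hyp

theorem cen (h : Hyp σ τ V) {v : T} (hv : v ∈ V) (a : T) : v * a = a * v :=
  (Subgroup.mem_center_iff.1 (h.hV hv) a).symm

theorem inv_eq (h : Hyp σ τ V) {v : T} (hv : v ∈ V) : v⁻¹ = v :=
  inv_eq_of_mul_eq_one_right (h.exp v hv)

theorem map_σ (h : Hyp σ τ V) {v : T} (hv : v ∈ V) : σ v ∈ V := by
  rw [← h.fix, ← h.comm, (h.fix v).2 hv]

theorem map_τ (h : Hyp σ τ V) {v : T} (hv : v ∈ V) : τ v ∈ V := by
  rw [(h.fix v).2 hv]; exact hv

theorem fp (h : Hyp σ τ V) (x : T) (hx : σ x = x) : x = 1 := by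
  by_contra hx1
  obtain ⟨a, ha, ha1, hτa⟩ := exists_fixed h.two τ h.hτ2 (Cfsg.fixedSubgroup σ) (fun y hy => by
    show σ (τ y) = τ y
    rw [h.comm, show σ y = y from hy]) (fun e => hx1 (Subgroup.mem_bot.1 (e ▸ (hx : x ∈ Cfsg.fixedSubgroup σ))))
  exact ha1 (h.fpV a ((h.fix a).1 hτa) ha)

theorem norm (h : Hyp σ τ V) (x : T) : x * σ x * σ (σ x) = 1 ∧ Commute x (σ x) :=
  FpfThree.norm_eq_one σ h.hσ3 h.fp x

theorem σσ (h : Hyp σ τ V) (x : T) : σ (σ x) = (x * σ x)⁻¹ :=
  eq_inv_of_mul_eq_one_right (h.norm x).1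

theorem le_of_mem (h : Hyp σ τ V) {H : Subgroup T} (hH : ∀ x ∈ H, σ x ∈ H) {v : T} (hv : v ∈ V)
    (hv1 : v ≠ 1) (hvH : v ∈ H) : V ≤ H := by
  have hle : H ⊓ V = V := by
    refine Subgroup.eq_of_le_of_card_ge inf_le_right ?_
    have h3 := FpfThree.card_mod_three σ h.hσ3 h.fp (H ⊓ V)
      (fun x hx => ⟨hH x hx.1, h.map_σ hx.2⟩)
    have hd : Nat.card ↥(H ⊓ V) ∣ 4 := h.card ▸ Subgroup.card_dvd_of_le inf_le_right
    have h1 : Nat.card ↥(H ⊓ V) ≠ 1 := fun e => by
      rw [Subgroup.card_eq_one] at e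
      exact hv1 (Subgroup.mem_bot.1 (e ▸ (⟨hvH, hv⟩ : v ∈ H ⊓ V)))
    rw [h.card]
    have := Nat.le_of_dvd (by norm_num) hd
    interval_cases hk : Nat.card ↥(H ⊓ V) <;> simp_all
  exact hle ▸ inf_le_left

theorem cases (h : Hyp σ τ V) {v : T} (hv : v ∈ V) (hv1 : v ≠ 1) {u : T} (hu : u ∈ V) :
    u = 1 ∨ u = v ∨ u = σ v ∨ u = v * σ v := by
  classical
  have hσv1 : σ v ≠ 1 := fun e => hv1 (σ.injective (e.trans (map_one σ).symm))
  have hne : σ v ≠ v := fun e => hv1 (h.fpV v hv e)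
  have hm : v * σ v ≠ 1 := fun e => hne ((eq_inv_of_mul_eq_one_right e).trans (h.inv_eq hv))
  by_contra! hcon
  obtain ⟨h1, h2, h3, h4⟩ := hcon
  haveI : Fintype V := Fintype.ofFinite _
  have hs : ({1, v, σ v, v * σ v, u} : Finset T) ⊆ (V : Set T).toFinset := by
    intro a ha
    simp only [Finset.mem_insert, Finset.mem_singleton] at ha
    rw [Set.mem_toFinset]
    rcases ha with rfl | rfl | rfl | rfl | rfl
    exacts [one_mem _, hv, h.map_σ hv, mul_mem hv (h.map_σ hv), hu]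
  have hle := Finset.card_le_card hs
  rw [Set.toFinset_card, ← Nat.card_eq_fintype_card] at hle
  change _ ≤ Nat.card V at hle
  rw [h.card, Finset.card_insert_of_notMem, Finset.card_insert_of_notMem,
    Finset.card_insert_of_notMem, Finset.card_insert_of_notMem, Finset.card_singleton] at hle
  · omega
  all_goals simp [hv1.symm, hσv1.symm, hne.symm, Ne.symm hm, h1.symm, h2.symm, h3.symm, h4.symm]
  · simpa [mul_eq_left] using hσv1
  · exact hv1

section Fix

variable (h : Hyp σ τ V)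

theorem fixMod_σ {x : T} (hx : x ∈ fixMod τ V h.hV) : σ x ∈ fixMod τ V h.hV := by
  rw [mem_fixMod] at hx ⊢
  have := h.map_σ hx
  rwa [map_mul, map_inv, h.comm] at this

theorem le_fixMod : V ≤ fixMod τ V h.hV := fun v hv => by
  rw [mem_fixMod, (h.fix v).2 hv, inv_mul_cancel]
  exact one_mem _

theorem sq_mem {x : T} (hx : x ∈ fixMod τ V h.hV) : x * x ∈ V := by
  rw [← h.fix]
  obtain ⟨v, hv, hxv⟩ : ∃ v ∈ V, τ x = x * v := ⟨_, hx, (mul_inv_cancel_left x (τ x)).symm⟩
  rw [map_mul, hxv, mul_assoc, ← mul_assoc v x v, h.cen hv x, mul_assoc x v v, h.exp v hv, mul_one]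

theorem card_fixMod_le : Nat.card (fixMod τ V h.hV) ∣ 16 := by
  let φ : fixMod τ V h.hV →* V :=
    MonoidHom.mk' (fun x => ⟨(x : T)⁻¹ * τ x, x.2⟩) fun x y => Subtype.ext (by
      show ((x : T) * y)⁻¹ * τ ((x : T) * y) = (x : T)⁻¹ * τ x * ((y : T)⁻¹ * τ y)
      rw [map_mul, show ((x : T) * y)⁻¹ * (τ x * τ y) = (y : T)⁻¹ * ((x : T)⁻¹ * τ x) * τ y by group,
        ← h.cen x.2 (y : T)⁻¹, mul_assoc])
  have hker : φ.ker = V.subgroupOf (fixMod τ V h.hV) := by
    ext x
    rw [MonoidHom.mem_ker, Subgroup.mem_subgroupOf, ← h.fix]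
    constructor
    · intro e
      exact (inv_mul_eq_one.1 (congrArg Subtype.val e)).symm
    · intro e
      exact Subtype.ext (by show (x : T)⁻¹ * τ x = 1; rw [e, inv_mul_cancel])
  have hk : Nat.card φ.ker = 4 := by
    rw [hker, Nat.card_congr (Subgroup.subgroupOfEquivOfLe h.le_fixMod).toEquiv, h.card]
  rw [← Subgroup.card_mul_index φ.ker, hk, Subgroup.index_ker]
  exact (mul_dvd_mul_left 4 (h.card ▸ φ.range.card_subgroup_dvd_card)).trans dvd_rfl

theorem card_fixMod (hne : V ≠ ⊤) : Nat.card (fixMod τ V h.hV) = 16 := by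
  have hlt : V < fixMod τ V h.hV := by
    refine lt_of_le_of_ne h.le_fixMod fun e => ?_
    haveI hn : V.Normal := ⟨fun v hv g => by rwa [← h.cen hv, mul_inv_cancel_right]⟩
    have hmap : V.map (τ : T →* T) = V := by
      ext x
      exact ⟨by rintro ⟨y, hy, rfl⟩; exact h.map_τ hy, fun hx => ⟨x, hx, (h.fix x).2 hx⟩⟩
    let τ' : MulAut (T ⧸ V) := QuotientGroup.congr V V τ hmap
    obtain ⟨c, -, hc1, hc⟩ := exists_fixed (h.two.to_quotient V) τ' (fun c => by
        induction c using QuotientGroup.induction_on with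
        | H x => exact congrArg QuotientGroup.mk (h.hτ2 x))
      ⊤ (fun _ _ => Subgroup.mem_top _) (fun hb => hne ((Subgroup.eq_top_iff' _).2 fun x =>
        (QuotientGroup.eq_one_iff x).1 (Subgroup.mem_bot.1 (hb ▸ Subgroup.mem_top (x : T ⧸ V)))))
    obtain ⟨x, rfl⟩ := QuotientGroup.mk_surjective c
    have hxW : x ∈ fixMod τ V h.hV := QuotientGroup.eq.1 (hc.symm : (x : T ⧸ V) = τ' x)
    exact hc1 ((QuotientGroup.eq_one_iff x).2 (e.ge hxW))
  have h3 := FpfThree.card_mod_three σ h.hσ3 h.fp _ fun x hx => h.fixMod_σ hx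
  have h4 : 4 < Nat.card (fixMod τ V h.hV) := by
    by_contra hc
    exact hlt.ne (Subgroup.eq_of_le_of_card_ge h.le_fixMod (by rw [h.card]; exact not_lt.1 hc))
  obtain ⟨k, hk, hk'⟩ := (Nat.dvd_prime_pow Nat.prime_two).1
    (show Nat.card (fixMod τ V h.hV) ∣ 2 ^ 4 from h.card_fixMod_le)
  rw [hk'] at h3 h4 ⊢
  interval_cases k <;> simp_all

end Fix

/-- Commutators in a group of class at most three with all elements commuting with their
conjugates. -/
theorem levi {W : Subgroup T} (hV2 : ∀ v ∈ V, v * v = 1) (hVc : ∀ v ∈ V, ∀ a : T, v * a = a * v)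
    (hconj : ∀ x g : T, Commute x (g * x * g⁻¹))
    (hW : ∀ a b : T, ⁅a, b⁆ ∈ W) (hWT : ∀ w ∈ W, ∀ a : T, ⁅w, a⁆ ∈ V) (x y z : T) :
    ⁅⁅x, y⁆, z⁆ = 1 := by
  have hinv : ∀ v ∈ V, v⁻¹ = v := fun v hv => inv_eq_of_mul_eq_one_right (hV2 v hv)
  have hmulL : ∀ g k c : T, ⁅k, c⁆ ∈ V → ⁅g * k, c⁆ = ⁅g, c⁆ * ⁅k, c⁆ := by
    intro g k c hk
    rw [show ⁅g * k, c⁆ = g * ⁅k, c⁆ * g⁻¹ * ⁅g, c⁆ by
      simp only [commutatorElement_def]; group, ← hVc _ hk g, mul_inv_cancel_right, hVc _ hk]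
  have hL : ∀ a b c : T, ⁅⁅a, b⁆, c⁆ ∈ V := fun a b c => hWT _ (hW a b) c
  have hinvL : ∀ g ∈ W, ∀ c : T, ⁅g⁻¹, c⁆ = ⁅g, c⁆ := by
    intro g hg c
    have e := hmulL g⁻¹ g c (hWT g hg c)
    rw [inv_mul_cancel, commutatorElement_one_left] at e
    rw [eq_inv_of_mul_eq_one_left e.symm, hinv _ (hWT g hg c)]
  have hswap : ∀ a b c : T, ⁅⁅b, a⁆, c⁆ = ⁅⁅a, b⁆, c⁆ := fun a b c => by
    rw [← commutatorElement_inv a b, hinvL _ (hW a b)]
  have hfirst : ∀ a b y c : T, ⁅⁅a * b, y⁆, c⁆ = ⁅⁅a, y⁆, c⁆ * ⁅⁅b, y⁆, c⁆ := by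
    intro a b y c
    have hv : ⁅a, ⁅b, y⁆⁆ ∈ V := by
      rw [← commutatorElement_inv, hinv _ (hWT _ (hW b y) a)]
      exact hWT _ (hW b y) a
    rw [show ⁅a * b, y⁆ = ⁅a, ⁅b, y⁆⁆ * (⁅b, y⁆ * ⁅a, y⁆) by
      simp only [commutatorElement_def]; group, hmulL _ _ _ (hWT _ (mul_mem (hW b y) (hW a y)) c),
      hmulL _ _ _ (hL a y c)]
    rw [show ⁅⁅a, ⁅b, y⁆⁆, c⁆ = 1 from
      commutatorElement_eq_one_iff_mul_comm.2 (hVc _ hv c), one_mul, hVc _ (hL b y c)]
  have hthird : ∀ g ∈ W, ∀ c d : T, ⁅g, c * d⁆ = ⁅g, c⁆ * ⁅g, d⁆ := by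
    intro g hg c d
    rw [show ⁅g, c * d⁆ = ⁅g, c⁆ * (c * ⁅g, d⁆ * c⁻¹) by
      simp only [commutatorElement_def]; group, ← hVc _ (hWT g hg d) c, mul_inv_cancel_right]
  have hengel : ∀ a b : T, ⁅⁅a, b⁆, a⁆ = 1 := by
    intro a b
    rw [commutatorElement_eq_one_iff_mul_comm]
    have e : Commute a (b * a⁻¹ * b⁻¹) := by
      rw [← conj_inv]
      exact (hconj a b).inv_right
    have : Commute a ⁅a, b⁆ := by
      rw [show ⁅a, b⁆ = a * (b * a⁻¹ * b⁻¹) by simp only [commutatorElement_def]; group]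
      exact (Commute.refl a).mul_right e
    exact this.eq.symm
  have houter : ∀ a b c : T, ⁅⁅c, b⁆, a⁆ = ⁅⁅a, b⁆, c⁆ := by
    intro a b c
    have e := hengel (a * c) b
    rw [hfirst, hthird _ (hW a b), hthird _ (hW c b), hengel, hengel, one_mul, mul_one] at e
    rw [eq_inv_of_mul_eq_one_right e, hinv _ (hL a b c)]
  have hmid : ∀ a b c : T, ⁅⁅a, b⁻¹⁆, c⁆ = ⁅⁅a, b⁆, c⁆ := by
    intro a b c
    rw [← hswap a b⁻¹ c, ← hswap a b c]
    have e := hfirst b⁻¹ b a c
    rw [inv_mul_cancel, commutatorElement_one_left, commutatorElement_one_left] at e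
    rw [eq_inv_of_mul_eq_one_left e.symm, hinv _ (hL b a c)]
  have hHW : y * ⁅⁅x, y⁻¹⁆⁻¹, z⁆ * y⁻¹ * (z * ⁅⁅y, z⁻¹⁆⁻¹, x⁆ * z⁻¹) *
      (x * ⁅⁅z, x⁻¹⁆⁻¹, y⁆ * x⁻¹) = 1 := by
    simp only [commutatorElement_def]; group
  rw [hinvL _ (hW _ _), hinvL _ (hW _ _), hinvL _ (hW _ _), hmid, hmid, hmid,
    ← hVc _ (hL x y z) y, ← hVc _ (hL y z x) z, ← hVc _ (hL z x y) x, mul_inv_cancel_right,
    mul_inv_cancel_right, mul_inv_cancel_right] at hHW
  have e1 : ⁅⁅y, z⁆, x⁆ = ⁅⁅x, y⁆, z⁆ := by rw [← hswap y z x, houter]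
  have e2 : ⁅⁅z, x⁆, y⁆ = ⁅⁅x, y⁆, z⁆ := by rw [← hswap z x y, houter, e1]
  rwa [e1, e2, mul_assoc, hV2 _ (hL x y z), mul_one] at hHW

theorem commute_conj (h : Hyp σ τ V) (x g : T) : Commute x (g * x * g⁻¹) := by
  have key : ∀ (f : MulAut T), (∀ y, f y = y → y = 1) → (∀ y, Commute y (f y)) →
      ∀ a b, Commute a (b * f a * b⁻¹) := by
    intro f hf hcomm a b
    obtain ⟨s, hs⟩ : ∃ s, s⁻¹ * f s = b := by
      refine Finite.surjective_of_injective (f := fun s => s⁻¹ * f s) (fun s r e => ?_) b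
      have h1 : f (r * s⁻¹) = r * s⁻¹ := by
        change s⁻¹ * f s = r⁻¹ * f r at e
        rw [map_mul, map_inv]
        calc f r * (f s)⁻¹ = r * (r⁻¹ * f r) * (f s)⁻¹ := by group
          _ = r * (s⁻¹ * f s) * (f s)⁻¹ := by rw [e]
          _ = r * s⁻¹ := by group
      exact (mul_inv_eq_one.1 (hf _ h1)).symm
    have hc := hcomm (s * a * s⁻¹)
    rw [map_mul, map_mul, map_inv] at hc
    have h' := (Commute.map hc (MulAut.conj s⁻¹).toMonoidHom)
    simp only [MulEquiv.coe_toMonoidHom, MulAut.conj_apply, inv_inv] at h'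
    rw [← hs]
    convert h' using 1 <;> group
  have h1 := key σ h.fp (fun y => (h.norm y).2) x g
  have hfp2 : ∀ y, σ (σ y) = y → y = 1 := fun y hy => h.fp y (by
    conv_rhs => rw [← h.hσ3 y]
    exact congrArg σ hy.symm)
  have h2 := key (σ * σ) hfp2 (fun y => by
    show Commute y (σ (σ y))
    rw [h.σσ]
    exact ((Commute.refl y).mul_right (h.norm y).2).inv_right) x g
  have h3 := (h1.mul_right h2).inv_right
  rw [show (g * σ x * g⁻¹ * (g * (σ * σ) x * g⁻¹))⁻¹ = g * (σ x * σ (σ x))⁻¹ * g⁻¹ by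
    rw [MulAut.mul_apply]; group] at h3
  rwa [show (σ x * σ (σ x))⁻¹ = x by
    rw [inv_eq_iff_eq_inv, eq_comm, inv_eq_iff_mul_eq_one, ← mul_assoc, (h.norm x).1]] at h3

/-- The order 64 case. -/
theorem exists_data (h : Hyp σ τ V) (hcard : Nat.card T = 64) (hsq : ∀ a : T, a * a ∈ V)
    (hcom : ∀ a b : T, ⁅a, b⁆ ∈ V) :
    (Data (0, 0) T ∨ Data (0, 1) T) ∧
      ∃ x w v : T, v ∈ V ∧ τ x = x * w ∧ τ w = w * v ∧ x * w ≠ w * x := by
  have hne : V ≠ ⊤ := fun e => by
    have := h.card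
    rw [e, Subgroup.card_top, hcard] at this
    norm_num at this
  have hWc := h.card_fixMod hne
  have hleft : ∀ a b c : T, ⁅a * b, c⁆ = ⁅a, c⁆ * ⁅b, c⁆ := fun a b c => by
    rw [show ⁅a * b, c⁆ = a * ⁅b, c⁆ * a⁻¹ * ⁅a, c⁆ by simp only [commutatorElement_def]; group,
      ← h.cen (hcom b c) a, mul_inv_cancel_right, h.cen (hcom b c)]
  have hsymm : ∀ a b : T, ⁅b, a⁆ = ⁅a, b⁆ := fun a b => by
    rw [← commutatorElement_inv a b, h.inv_eq (hcom a b)]
  have hinvl : ∀ a b : T, ⁅a⁻¹, b⁆ = ⁅a, b⁆ := fun a b => by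
    have e := hleft a⁻¹ a b
    rw [inv_mul_cancel, commutatorElement_one_left] at e
    rw [eq_inv_of_mul_eq_one_left e.symm, h.inv_eq (hcom a b)]
  have hcs : ∀ y : T, ⁅y, σ y⁆ = 1 := fun y =>
    commutatorElement_eq_one_iff_mul_comm.2 (h.norm y).2.eq
  have hswap : ∀ a b : T, b * a = a * b * ⁅b, a⁆ := fun a b => by
    rw [← h.cen (hcom b a), commutatorElement_def]; group
  have hex : ∀ x : T, x ∉ fixMod τ V h.hV → ∃ w, w ∈ fixMod τ V h.hV ∧ w ∉ V ∧ τ x = x * w ∧
      w * w ≠ 1 ∧ τ w = w * (w * w) ∧ ⁅w, x⁆ = w * w ∧ ⁅σ w, x⁆ = w * w * σ (w * w) ∧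
      ⁅w, σ x⁆ = w * w * σ (w * w) := by
    intro x hx
    set w := x⁻¹ * τ x with hw
    have hτx : τ x = x * w := (mul_inv_cancel_left x (τ x)).symm
    have hτw : τ w = w⁻¹ := by rw [hw, map_mul, map_inv, h.hτ2, mul_inv_rev, inv_inv]
    have hg4 : w * (w * (w * w)) = 1 := by rw [← mul_assoc]; exact h.exp _ (hsq w)
    have hτw' : τ w = w * (w * w) := hτw.trans (inv_eq_of_mul_eq_one_right hg4)
    have hwW : w ∈ fixMod τ V h.hV := by
      rw [mem_fixMod, hτw', inv_mul_cancel_left]; exact hsq w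
    have hwV : w ∉ V := hx
    have hw1 : w * w ≠ 1 := fun e => hwV ((h.fix w).1 (by rw [hτw', e, mul_one]))
    have hwx : ⁅w, x⁆ = w * w := by
      have e := (h.fix (x * x)).2 (hsq x)
      rw [map_mul, hτx] at e
      have e2 : x * x * (⁅w, x⁆ * (w * w)) = x * x := by
        refine Eq.trans ?_ e
        calc x * x * (⁅w, x⁆ * (w * w)) = x * (x * ⁅w, x⁆) * (w * w) := by simp only [mul_assoc]
          _ = x * (x * ⁅w, x⁆ * w) * w := by simp only [mul_assoc]
          _ = x * (x * w * ⁅w, x⁆) * w := by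
            rw [mul_assoc x ⁅w, x⁆ w, h.cen (hcom w x) w, ← mul_assoc x w]
          _ = x * (w * x) * w := by rw [← hswap x w]
          _ = x * w * (x * w) := by simp only [mul_assoc]
      rw [eq_inv_of_mul_eq_one_left (mul_eq_left.1 e2), h.inv_eq (hsq w)]
    set γ := w * w with hγ
    set δ := ⁅σ w, x⁆ with hδ
    have hδ' : ⁅w, σ x⁆ = δ := by
      have e := hcs (x * w)
      rw [map_mul, hleft, hsymm (σ x * σ w) x, hsymm (σ x * σ w) w, hleft, hleft,
        hsymm x (σ x), hsymm w (σ w), hcs, hcs, one_mul, mul_one, hsymm w (σ x)] at e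
      rw [eq_inv_of_mul_eq_one_right e, h.inv_eq (hcom _ _)]
    have h1 : σ δ = δ * σ γ := by
      conv_lhs => rw [← hδ', map_commutatorElement, h.σσ]
      rw [hsymm (x * σ x)⁻¹ (σ w), hinvl, hleft, hsymm (σ w) x, hsymm (σ w) (σ x),
        ← map_commutatorElement σ, hwx]
    have hgV : γ ∈ V := hsq w
    have hgσ : σ γ ∈ V := h.map_σ hgV
    have hδV : δ ∈ V := hcom _ _
    have h2 : σ (σ δ) = δ * γ := by
      rw [h1, map_mul, h1, mul_assoc, h.σσ, mul_inv_rev, h.inv_eq hgV, ← mul_assoc (σ γ),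
        h.inv_eq hgσ, h.exp _ hgσ, one_mul]
    have h3 := (h.norm δ).1
    rw [h2, h1] at h3
    have h4 : δ = γ * σ γ := by
      have e : δ * (δ * σ γ) * (δ * γ) = δ * (γ * σ γ) := by
        rw [← mul_assoc δ δ, h.exp δ hδV, one_mul, ← mul_assoc, ← h.cen hδV, mul_assoc,
          ← h.cen hgV]
      rw [e] at h3
      rw [eq_inv_of_mul_eq_one_left h3, mul_inv_rev, h.inv_eq hgσ, h.inv_eq hgV, h.cen hgσ]
    exact ⟨w, hwW, hwV, hτx, hw1, hτw', hwx, h4, hδ'.trans h4⟩
  obtain ⟨x₀, hx₀⟩ : ∃ x, x ∉ fixMod τ V h.hV := by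
    by_contra! hh
    rw [show fixMod τ V h.hV = ⊤ from (Subgroup.eq_top_iff' _).2 hh, Subgroup.card_top, hcard] at hWc
    norm_num at hWc
  obtain ⟨x, hxW, c, hc01, hxc⟩ : ∃ x, x ∉ fixMod τ V h.hV ∧
      ∃ c : K, (c = (0, 0) ∨ c = (0, 1)) ∧
        x * x = s ((x⁻¹ * τ x) * (x⁻¹ * τ x)) (σ ((x⁻¹ * τ x) * (x⁻¹ * τ x))) c := by
    obtain ⟨w, hwW, hwV, hτx, hw1, hτw, hwx, hswx, hwsx⟩ := hex x₀ hx₀
    have hw : x₀⁻¹ * τ x₀ = w := by rw [hτx, inv_mul_cancel_left]
    set γ := w * w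
    have hgV : γ ∈ V := hsq w
    set u := σ w
    have huW : u ∈ fixMod τ V h.hV := h.fixMod_σ hwW
    have hx1W : x₀ * u ∉ fixMod τ V h.hV := fun e => hx₀ ((Subgroup.mul_mem_cancel_right _ huW).1 e)
    have hw1sq : ((x₀ * u)⁻¹ * τ (x₀ * u)) * ((x₀ * u)⁻¹ * τ (x₀ * u)) = γ := by
      have hτu : τ u = u * σ γ := by
        rw [show τ u = σ (τ w) from (h.comm w).symm, hτw, map_mul]
      rw [map_mul, hτx, hτu, show (x₀ * u)⁻¹ * (x₀ * w * (u * σ γ)) = u⁻¹ * w * u * σ γ by group,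
        show u⁻¹ * w * u = w by
          rw [mul_assoc, (show w * u = u * w from (h.norm w).2.eq), inv_mul_cancel_left],
        mul_assoc, ← mul_assoc (σ γ) w, h.cen (h.map_σ hgV) w, mul_assoc w (σ γ) (σ γ),
        h.exp _ (h.map_σ hgV), mul_one]
    have hsq1 : (x₀ * u) * (x₀ * u) = x₀ * x₀ * γ := by
      have hu2 : u * u = σ γ := (map_mul σ w w).symm
      calc x₀ * u * (x₀ * u) = x₀ * (u * x₀) * u := by simp only [mul_assoc]
        _ = x₀ * (x₀ * u * (γ * σ γ)) * u := by rw [hswap x₀ u, hswx]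
        _ = x₀ * x₀ * (u * ((γ * σ γ) * u)) := by simp only [mul_assoc]
        _ = x₀ * x₀ * ((u * u) * (γ * σ γ)) := by
          rw [h.cen (mul_mem hgV (h.map_σ hgV)) u, ← mul_assoc u u]
        _ = x₀ * x₀ * γ := by
          rw [hu2, h.cen hgV (σ γ), ← mul_assoc (σ γ) (σ γ), h.exp _ (h.map_σ hgV), one_mul]
    rcases h.cases hgV hw1 (hsq x₀) with e | e | e | e
    · exact ⟨x₀, hx₀, (0, 0), Or.inl rfl, by rw [e]; simp [s]⟩
    · exact ⟨x₀ * u, hx1W, (0, 0), Or.inl rfl, by rw [hsq1, e, h.exp _ hgV]; simp [s]⟩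
    · exact ⟨x₀, hx₀, (0, 1), Or.inr rfl, by rw [hw, e]; simp [s, ZMod.val_one]; exact map_mul σ w w⟩
    · exact ⟨x₀ * u, hx1W, (0, 1), Or.inr rfl, by
        rw [hsq1, hw1sq, e, ← h.cen hgV, ← mul_assoc, h.exp _ hgV, one_mul]
        simp [s, ZMod.val_one]⟩
  obtain ⟨w, hwW, hwV, hτx, hw1, hτw, hwx, hswx, hwsx⟩ := hex x hxW
  rw [show x⁻¹ * τ x = w by rw [hτx, inv_mul_cancel_left]] at hxc
  set γ := w * w with hγ
  have hgV : γ ∈ V := hsq w
  have hne' : x * w ≠ w * x := fun e => hw1 (by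
    rw [← hwx]; exact commutatorElement_eq_one_iff_mul_comm.2 e.symm)
  refine ⟨?_, x, w, γ, hgV, hτx, hτw, hne'⟩
  have hgσ : σ γ ∈ V := h.map_σ hgV
  have hσσγ : σ (σ γ) = γ * σ γ := by
    rw [h.σσ, h.inv_eq (mul_mem hgV hgσ)]
  have R : Rel c x (σ x) w (σ w) γ (σ γ) :=
    { cg := h.cen hgV
      cg' := h.cen hgσ
      gg := h.exp _ hgV
      gg' := h.exp _ hgσ
      xx := hxc
      xx' := by
        rw [← map_mul, hxc]
        rcases hc01 with rfl | rfl
        · simp [s, om]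
        · simp [s, om, ZMod.val_one, hσσγ]
      ww := rfl
      ww' := (map_mul σ w w).symm
      cx := (h.norm x).2.eq
      cw := (h.norm w).2.eq
      wx := by rw [hswap x w, hwx]
      w'x := by rw [hswap x (σ w), hswx]
      wx' := by rw [hswap (σ x) w, hwsx]
      w'x' := by rw [hswap (σ x) (σ w), ← map_commutatorElement σ, hwx] }
  have hbij : Function.Bijective (param x (σ x) w (σ w) γ (σ γ)) := by
    refine (Nat.bijective_iff_surjective_and_card _).2 ⟨?_, by
      rw [hcard, Nat.card_eq_fintype_card]; rfl⟩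
    let S : Submonoid T :=
      { carrier := Set.range (param x (σ x) w (σ w) γ (σ γ))
        one_mem' := ⟨0, by simp [param, s]⟩
        mul_mem' := by
          rintro _ _ ⟨a, rfl⟩ ⟨b, rfl⟩
          exact ⟨_, (R.param_mul a b).symm⟩ }
    set A := Subgroup.closure ({x, σ x, w, σ w, γ, σ γ} : Set T) with hA
    have hAS : (A : Set T) ⊆ S := by
      rw [hA]
      have := Subgroup.closure_toSubmonoid_of_finite (s := ({x, σ x, w, σ w, γ, σ γ} : Set T))
      intro a ha
      have ha' : a ∈ Submonoid.closure ({x, σ x, w, σ w, γ, σ γ} : Set T) := this ▸ ha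
      refine Submonoid.closure_le.2 ?_ ha'
      rintro b (rfl | rfl | rfl | rfl | rfl | rfl)
      exacts [⟨((1, 0), 0, 0), by simp [param, s, ZMod.val_one]⟩,
        ⟨((0, 1), 0, 0), by simp [param, s, ZMod.val_one]⟩,
        ⟨(0, (1, 0), 0), by simp [param, s, ZMod.val_one]⟩,
        ⟨(0, (0, 1), 0), by simp [param, s, ZMod.val_one]⟩,
        ⟨(0, 0, (1, 0)), by simp [param, s, ZMod.val_one]⟩,
        ⟨(0, 0, (0, 1)), by simp [param, s, ZMod.val_one]⟩]
    have hgen : ∀ a ∈ ({x, σ x, w, σ w, γ, σ γ} : Set T), σ a ∈ A := by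
      have hm : ∀ {a}, a ∈ ({x, σ x, w, σ w, γ, σ γ} : Set T) → a ∈ A := fun ha =>
        Subgroup.subset_closure ha
      rintro a (rfl | rfl | rfl | rfl | rfl | rfl)
      · exact hm (by simp)
      · rw [h.σσ]; exact inv_mem (mul_mem (hm (by simp)) (hm (by simp)))
      · exact hm (by simp)
      · rw [h.σσ]; exact inv_mem (mul_mem (hm (by simp)) (hm (by simp)))
      · exact hm (by simp)
      · rw [h.σσ]; exact inv_mem (mul_mem (hm (by simp)) (hm (by simp)))
    have hAσ : ∀ a ∈ A, σ a ∈ A := fun a ha =>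
      ((Subgroup.closure_le (K := A.comap σ.toMonoidHom)).2 hgen) ha
    have hVA : V ≤ A := h.le_of_mem hAσ hgV hw1 (Subgroup.subset_closure (by simp))
    have hWA : fixMod τ V h.hV ≤ A := by
      have hcut : fixMod τ V h.hV ⊓ A = fixMod τ V h.hV := by
        refine Subgroup.eq_of_le_of_card_ge inf_le_left ?_
        have h3 := FpfThree.card_mod_three σ h.hσ3 h.fp (fixMod τ V h.hV ⊓ A)
          fun a ha => ⟨h.fixMod_σ ha.1, hAσ a ha.2⟩
        have hd := Subgroup.card_dvd_of_le (inf_le_left : fixMod τ V h.hV ⊓ A ≤ _)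
        rw [hWc] at hd ⊢
        have h4 : 4 < Nat.card ↥(fixMod τ V h.hV ⊓ A) := by
          by_contra hc
          have := Subgroup.eq_of_le_of_card_ge (le_inf h.le_fixMod hVA) (by
            rw [h.card]; exact not_lt.1 hc)
          exact hwV (this.ge ⟨hwW, Subgroup.subset_closure (by simp)⟩)
        obtain ⟨k, hk, hk'⟩ := (Nat.dvd_prime_pow Nat.prime_two).1 (show _ ∣ 2 ^ 4 from hd)
        rw [hk'] at h3 h4 ⊢
        all_goals (revert h3 h4; interval_cases k <;> norm_num)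
      exact hcut ▸ inf_le_right
    have htop : A = ⊤ := by
      refine Subgroup.eq_top_of_card_eq A ?_
      have h3 := FpfThree.card_mod_three σ h.hσ3 h.fp A hAσ
      have hd := A.card_subgroup_dvd_card
      rw [hcard] at hd ⊢
      have h16 : 16 < Nat.card A := by
        by_contra hc
        have := Subgroup.eq_of_le_of_card_ge hWA (by rw [hWc]; exact not_lt.1 hc)
        exact hxW (this.ge (Subgroup.subset_closure (by simp)))
      obtain ⟨k, hk, hk'⟩ := (Nat.dvd_prime_pow Nat.prime_two).1 (show _ ∣ 2 ^ 6 from hd)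
      rw [hk'] at h3 h16 ⊢
      revert h3 h16
      interval_cases k <;> norm_num
    intro a
    exact hAS (htop ▸ Subgroup.mem_top a)
  rcases hc01 with rfl | rfl
  · exact Or.inl ⟨_, _, _, _, _, _, R, hbij⟩
  · exact Or.inr ⟨_, _, _, _, _, _, R, hbij⟩

/-- A cyclic group of given order as `ZMod`. -/
noncomputable def cyclicEquiv {n : ℕ} {G : Type*} [Group G] (h : IsCyclic G) (hG : Nat.card G = n) :
    G ≃* Multiplicative (ZMod n) :=
  hG ▸ (zmodCyclicMulEquiv h).symm

theorem mul_comm_of_two {G : Type*} [Group G] (h : ∀ a : G, a * a = 1) (a b : G) :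
    a * b = b * a := by
  have e : ∀ c : G, c⁻¹ = c := fun c => inv_eq_of_mul_eq_one_right (h c)
  rw [← e (a * b), mul_inv_rev, e, e]

/-- The classification, in the form used for the induction. -/
theorem classify (n : ℕ) : ∀ {T : Type u} [Group T] [Finite T] {σ τ : MulAut T} {V : Subgroup T},
    Hyp σ τ V → Nat.card T = n →
    ((∀ a b : T, a * b = b * a) ∧ ∃ x : T, Subgroup.closure {x, σ x} = ⊤) ∨
    (Nat.card T = 16 ∧ ∀ a : T, a * a = 1) ∨
    (Nat.card T = 64 ∧ (Data (0, 0) T ∨ Data (0, 1) T) ∧ (∀ a b : T, ⁅a, b⁆ ∈ V) ∧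
      ∃ x w v : T, v ∈ V ∧ τ x = x * w ∧ τ w = w * v ∧ x * w ≠ w * x) := by
  induction n using Nat.strong_induction_on with
  | _ n ih =>
  intro T _ _ σ τ V h hn
  haveI : Fact (Nat.Prime 2) := ⟨Nat.prime_two⟩
  by_cases htop : V = ⊤
  · refine Or.inl ⟨fun a b => h.cen (htop ▸ Subgroup.mem_top a) b, ?_⟩
    haveI : Nontrivial V := Finite.one_lt_card_iff_nontrivial.1 (by rw [h.card]; norm_num)
    obtain ⟨⟨v, hv⟩, hv1⟩ := exists_ne (1 : V)
    refine ⟨v, top_unique (htop ▸ h.le_of_mem (v := v) ?_ hv (fun e => hv1 (Subtype.ext e))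
      (Subgroup.subset_closure (by simp)))⟩
    intro a ha
    refine ((Subgroup.closure_le (K := (Subgroup.closure {v, σ v}).comap σ.toMonoidHom)).2 ?_) ha
    rintro b (rfl | rfl)
    · exact Subgroup.subset_closure (by simp)
    · show σ (σ v) ∈ Subgroup.closure {v, σ v}
      rw [h.σσ]
      exact inv_mem (mul_mem (Subgroup.subset_closure (by simp)) (Subgroup.subset_closure (by simp)))
  set W := fixMod τ V h.hV with hWdef
  have hWc : Nat.card W = 16 := h.card_fixMod htop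
  haveI hVn : V.Normal := ⟨fun v hv g => by rwa [← h.cen hv, mul_inv_cancel_right]⟩
  have hmapσ : V.map (σ : T →* T) = V := by
    refine Subgroup.eq_of_le_of_card_ge (by rintro _ ⟨a, ha, rfl⟩; exact h.map_σ ha) ?_
    rw [Subgroup.card_map_of_injective (f := (σ : T →* T)) σ.injective]
  have hmapτ : V.map (τ : T →* T) = V := by
    ext x
    exact ⟨by rintro ⟨y, hy, rfl⟩; exact h.map_τ hy, fun hx => ⟨x, hx, (h.fix x).2 hx⟩⟩
  let σ' : MulAut (T ⧸ V) := QuotientGroup.congr V V σ hmapσ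
  let τ' : MulAut (T ⧸ V) := QuotientGroup.congr V V τ hmapτ
  set W' := W.map (QuotientGroup.mk' V) with hW'def
  have hW'mem : ∀ x : T, (x : T ⧸ V) ∈ W' ↔ x ∈ W := by
    intro x
    constructor
    · rintro ⟨y, hy, hyx⟩
      have h1 : y⁻¹ * x ∈ W := h.le_fixMod (QuotientGroup.eq.1 hyx)
      have h2 := W.mul_mem hy h1
      rwa [mul_inv_cancel_left] at h2
    · exact fun hx => ⟨x, hx, rfl⟩
  have hW'fix : ∀ c, τ' c = c ↔ c ∈ W' := by
    intro c
    induction c using QuotientGroup.induction_on with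
    | H x =>
      rw [hW'mem]
      exact ⟨fun e => QuotientGroup.eq.1 e.symm, fun e => (QuotientGroup.eq.2 e).symm⟩
  have hcard' : Nat.card W' = 4 := by
    have hdvd := Subgroup.card_mul_index (V.subgroupOf W)
    rw [Nat.card_congr (Subgroup.subgroupOfEquivOfLe h.le_fixMod).toEquiv, h.card, hWc] at hdvd
    let φ : W →* T ⧸ V := (QuotientGroup.mk' V).comp W.subtype
    have hker : φ.ker = V.subgroupOf W := by
      ext a
      rw [MonoidHom.mem_ker, Subgroup.mem_subgroupOf]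
      exact QuotientGroup.eq_one_iff (a : T)
    have hrange : φ.range = W' := by
      rw [MonoidHom.range_comp, Subgroup.range_subtype]
    rw [← hrange, ← Subgroup.index_ker, hker]
    omega
  have hfp' : ∀ c, σ' c = c → c = 1 := by
    intro c hc
    induction c using QuotientGroup.induction_on with
    | H x =>
      have hv : x⁻¹ * σ x ∈ V := QuotientGroup.eq.1 hc.symm
      obtain ⟨⟨u, hu⟩, hu'⟩ := Finite.surjective_of_injective
        (f := fun u : V => (⟨(u : T)⁻¹ * σ u, mul_mem (inv_mem u.2) (h.map_σ u.2)⟩ : V))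
        (fun a b e => Subtype.ext (by
          have e' : (a : T)⁻¹ * σ a = (b : T)⁻¹ * σ b := congrArg Subtype.val e
          have hb : σ ((b : T) * (a : T)⁻¹) = (b : T) * (a : T)⁻¹ := by
            rw [map_mul, map_inv]
            calc σ (b : T) * (σ (a : T))⁻¹ = (b : T) * ((b : T)⁻¹ * σ b) * (σ (a : T))⁻¹ := by group
              _ = (b : T) * ((a : T)⁻¹ * σ a) * (σ (a : T))⁻¹ := by rw [e']
              _ = (b : T) * (a : T)⁻¹ := by group
          exact (mul_inv_eq_one.1 (h.fp _ hb)).symm)) ⟨_, hv⟩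
      have hu'' : u⁻¹ * σ u = x⁻¹ * σ x := congrArg Subtype.val hu'
      have hfix : σ (x * u⁻¹) = x * u⁻¹ := by
        rw [map_mul, map_inv]
        calc σ x * (σ u)⁻¹ = x * (x⁻¹ * σ x) * (σ u)⁻¹ := by group
          _ = x * (u⁻¹ * σ u) * (σ u)⁻¹ := by rw [hu'']
          _ = x * u⁻¹ := by group
      rw [QuotientGroup.eq_one_iff, mul_inv_eq_one.1 (h.fp _ hfix)]
      exact hu
  have hnt : (⊤ : Subgroup (T ⧸ V)) ≠ ⊥ := fun hb => htop ((Subgroup.eq_top_iff' _).2 fun x =>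
    (QuotientGroup.eq_one_iff x).1 (Subgroup.mem_bot.1 (hb ▸ Subgroup.mem_top (x : T ⧸ V))))
  have hτ'2 : ∀ c, τ' (τ' c) = c := fun c => by
    induction c using QuotientGroup.induction_on with
    | H x => exact congrArg QuotientGroup.mk (h.hτ2 x)
  have hσ'3 : ∀ c, σ' (σ' (σ' c)) = c := fun c => by
    induction c using QuotientGroup.induction_on with
    | H x => exact congrArg QuotientGroup.mk (h.hσ3 x)
  have hW'cen : W' ≤ Subgroup.center (T ⧸ V) := by
    haveI : Nontrivial (T ⧸ V) := by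
      by_contra hc
      rw [not_nontrivial_iff_subsingleton] at hc
      exact hnt (Subsingleton.elim _ _)
    haveI := (h.two.to_quotient V).center_nontrivial
    have hchar : ∀ f : MulAut (T ⧸ V), ∀ c ∈ Subgroup.center (T ⧸ V),
        f c ∈ Subgroup.center (T ⧸ V) := fun f c hc =>
      (Subgroup.characteristic_iff_le_comap.1 inferInstance f) hc
    obtain ⟨c, hc, hc1, hcf⟩ := exists_fixed (h.two.to_quotient V) τ' hτ'2 _ (hchar τ')
      ((Subgroup.nontrivial_iff_ne_bot _).1 inferInstance)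
    have hcW := (hW'fix c).1 hcf
    have hle : W' ⊓ Subgroup.center (T ⧸ V) = W' := by
      refine Subgroup.eq_of_le_of_card_ge inf_le_left ?_
      have h3 := FpfThree.card_mod_three σ' hσ'3 hfp' (W' ⊓ Subgroup.center (T ⧸ V)) (by
        intro a ha
        refine ⟨?_, hchar σ' a ha.2⟩
        obtain ⟨⟨y, hy, rfl⟩, -⟩ := ha
        exact (hW'mem (σ y)).2 (h.fixMod_σ hy))
      have hd : Nat.card ↥(W' ⊓ Subgroup.center (T ⧸ V)) ∣ 4 :=
        hcard' ▸ Subgroup.card_dvd_of_le inf_le_left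
      have h1 : Nat.card ↥(W' ⊓ Subgroup.center (T ⧸ V)) ≠ 1 := fun e => by
        rw [Subgroup.card_eq_one] at e
        exact hc1 (Subgroup.mem_bot.1 (e ▸ (⟨hcW, hc⟩ : c ∈ W' ⊓ Subgroup.center (T ⧸ V))))
      rw [hcard']
      have := Nat.le_of_dvd (by norm_num) hd
      interval_cases hk : Nat.card ↥(W' ⊓ Subgroup.center (T ⧸ V)) <;> simp_all
    exact hle ▸ inf_le_right
  have h' : Hyp σ' τ' W' :=
    { two := h.two.to_quotient V
      hV := hW'cen
      card := hcard'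
      exp := by
        rintro _ ⟨y, hy, rfl⟩
        exact (QuotientGroup.eq_one_iff (y * y)).2 (h.sq_mem hy)
      hσ3 := hσ'3
      hτ2 := hτ'2
      comm := fun c => by
        induction c using QuotientGroup.induction_on with
        | H x => exact congrArg QuotientGroup.mk (h.comm x)
      fix := hW'fix
      fpV := fun c _ hc => hfp' c hc }
  have hlt : Nat.card (T ⧸ V) < n := by
    rw [← hn, Subgroup.card_eq_card_quotient_mul_card_subgroup V, h.card]
    have : 0 < Nat.card (T ⧸ V) := Nat.card_pos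
    omega
  rcases ih _ hlt h' rfl with ⟨-, xb, hxb⟩ | ⟨hc16, he2⟩ | ⟨-, -, hcomb, xb, ub, vb, hvb, hτxb, hτub, hneb⟩
  · -- generated by `x`, `σ x` and `V`
    obtain ⟨x, rfl⟩ := QuotientGroup.mk_surjective xb
    set D := Subgroup.closure {x, σ x} with hD
    have hDV : D ⊔ V = ⊤ := by
      refine top_unique fun a _ => ?_
      have hle : Subgroup.closure {(x : T ⧸ V), σ' x} ≤ D.map (QuotientGroup.mk' V) := by
        rw [hD, MonoidHom.map_closure, Set.image_insert_eq, Set.image_singleton]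
        exact le_rfl
      obtain ⟨d, hd, hda⟩ := hle (hxb ▸ Subgroup.mem_top (a : T ⧸ V))
      rw [show a = d * (d⁻¹ * a) by group]
      exact mul_mem (Subgroup.mem_sup_left hd) (Subgroup.mem_sup_right (QuotientGroup.eq.1 hda))
    have hDσ : ∀ a ∈ D, σ a ∈ D := fun a ha =>
      ((Subgroup.closure_le (K := D.comap σ.toMonoidHom)).2 (by
        rintro b (rfl | rfl)
        · exact Subgroup.subset_closure (by simp)
        · show σ (σ x) ∈ D
          rw [h.σσ]
          exact inv_mem (mul_mem (Subgroup.subset_closure (by simp))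
            (Subgroup.subset_closure (by simp))))) ha
    have hab : ∀ a b : T, a * b = b * a := by
      have hDc : D ≤ Subgroup.centralizer ((D : Set T)) := by
        haveI : IsMulCommutative D := Subgroup.isMulCommutative_closure (by
          rintro a (rfl | rfl) b (rfl | rfl)
          exacts [rfl, (h.norm _).2.eq, (h.norm _).2.eq.symm, rfl])
        exact Subgroup.le_centralizer D
      have hall : D ⊔ V ≤ Subgroup.center T := by
        refine sup_le (fun a ha => ?_) h.hV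
        rw [Subgroup.mem_center_iff]
        intro b
        have hb : D ⊔ V ≤ Subgroup.centralizer ({a} : Set T) := sup_le
          (hDc.trans (Subgroup.centralizer_le (by simpa using ha)))
          fun v hv => Subgroup.mem_centralizer_singleton_iff.2 (h.cen hv a)
        exact Subgroup.mem_centralizer_singleton_iff.1 (hb (hDV ▸ Subgroup.mem_top b))
      intro a b
      exact (Subgroup.mem_center_iff.1 (hall (hDV ▸ Subgroup.mem_top a)) b).symm
    by_cases hDV1 : D ⊓ V = ⊥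
    · refine Or.inr (Or.inl ?_)
      let Sq : T →* T := MonoidHom.mk' (fun a => a * a) fun a b => by
        simp only [mul_assoc]; rw [← mul_assoc b a b, hab b a, mul_assoc]
      have hSqD : Sq.range ≤ D := by
        rintro _ ⟨a, rfl⟩
        have : D ⊔ V ≤ D.comap Sq := sup_le (fun d hd => mul_mem hd hd) fun v hv => by
          show v * v ∈ D
          rw [h.exp v hv]; exact one_mem _
        exact this (hDV ▸ Subgroup.mem_top a)
      have he : ∀ a : T, a * a = 1 := by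
        by_contra! hc
        obtain ⟨a, ha⟩ := hc
        obtain ⟨v, hv, hv1, hvf⟩ := exists_fixed h.two τ h.hτ2 Sq.range
          (by rintro _ ⟨b, rfl⟩; exact ⟨τ b, (map_mul τ b b).symm⟩)
          (fun hb => ha (Subgroup.mem_bot.1 (hb ▸ (⟨a, rfl⟩ : a * a ∈ Sq.range))))
        exact hv1 (Subgroup.mem_bot.1 (hDV1 ▸ (⟨hSqD hv, (h.fix v).1 hvf⟩ : v ∈ D ⊓ V)))
      refine ⟨?_, he⟩
      have hWtop : ∀ a : T, a ∈ W := fun a => by
        rw [hWdef, mem_fixMod, ← h.fix, map_mul, map_inv, h.hτ2]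
        have hsame : ∀ b : T, b⁻¹ = b := fun b => inv_eq_of_mul_eq_one_right (he b)
        rw [hsame, hsame, hab]
      rw [← Subgroup.card_top, ← (Subgroup.eq_top_iff' W).2 hWtop, hWc]
    · refine Or.inl ⟨hab, x, ?_⟩
      obtain ⟨⟨v, hv⟩, hv1⟩ := Subgroup.ne_bot_iff_exists_ne_one.1 hDV1
      have hVD : V ≤ D := h.le_of_mem hDσ hv.2 (fun e => hv1 (Subtype.ext e)) hv.1
      rw [← hDV, sup_of_le_left hVD]
  · -- elementary quotient of order 16
    have hsq : ∀ a : T, a * a ∈ V := fun a => (QuotientGroup.eq_one_iff (a * a)).1 (he2 a)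
    have hcom : ∀ a b : T, ⁅a, b⁆ ∈ V := fun a b => by
      refine (QuotientGroup.eq_one_iff ⁅a, b⁆).1 ?_
      have hc := mul_comm_of_two (G := T ⧸ V) he2 (a : T ⧸ V) b
      exact (map_commutatorElement (QuotientGroup.mk' V) a b).trans
        (commutatorElement_eq_one_iff_mul_comm.2 hc)
    have hcard : Nat.card T = 64 := by
      rw [Subgroup.card_eq_card_quotient_mul_card_subgroup V, h.card, hc16]
    exact Or.inr (Or.inr ⟨hcard, (h.exists_data hcard hsq hcom).1, hcom, (h.exists_data hcard hsq hcom).2⟩)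
  · -- the quotient cannot be non-abelian
    exfalso
    obtain ⟨x, rfl⟩ := QuotientGroup.mk_surjective xb
    obtain ⟨u, rfl⟩ := QuotientGroup.mk_surjective ub
    obtain ⟨v, hvW, rfl⟩ := hvb
    have hWcomm : ∀ a b : T, ⁅a, b⁆ ∈ W := fun a b => by
      rw [← hW'mem]
      show QuotientGroup.mk' V ⁅a, b⁆ ∈ W'
      rw [map_commutatorElement]
      exact hcomb _ _
    have hWT : ∀ a ∈ W, ∀ b : T, ⁅a, b⁆ ∈ V := fun a ha b => by
      rw [← QuotientGroup.eq_one_iff]
      exact (map_commutatorElement (QuotientGroup.mk' V) a b).trans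
        (commutatorElement_eq_one_iff_mul_comm.2
          (Subgroup.mem_center_iff.1 (hW'cen ((hW'mem a).2 ha)) b).symm)
    have hL := fun a b c => levi h.exp (fun v hv a => h.cen hv a) h.commute_conj hWcomm hWT a b c
    set g := ⁅x, u⁆ with hg
    have hgV : g ∉ V := fun hgv => hneb (commutatorElement_eq_one_iff_mul_comm.1
      ((map_commutatorElement (QuotientGroup.mk' V) x u).symm.trans
        ((QuotientGroup.eq_one_iff _).2 hgv)))
    have hgc : g ∈ Subgroup.center T := Subgroup.mem_center_iff.2 fun b =>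
      (commutatorElement_eq_one_iff_mul_comm.1 (hL x u b)).symm
    have hWc' : W ≤ Subgroup.center T := by
      have hle : W ⊓ Subgroup.center T = W := by
        refine Subgroup.eq_of_le_of_card_ge inf_le_left ?_
        have h3 := FpfThree.card_mod_three σ h.hσ3 h.fp (W ⊓ Subgroup.center T)
          fun a ha => ⟨h.fixMod_σ ha.1, (Subgroup.characteristic_iff_le_comap.1 inferInstance σ) ha.2⟩
        have hd := Subgroup.card_dvd_of_le (inf_le_left : W ⊓ Subgroup.center T ≤ W)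
        rw [hWc] at hd ⊢
        have h4 : 4 < Nat.card ↥(W ⊓ Subgroup.center T) := by
          by_contra hc
          have := Subgroup.eq_of_le_of_card_ge (le_inf h.le_fixMod h.hV) (by
            rw [h.card]; exact not_lt.1 hc)
          exact hgV (this.ge ⟨hWcomm x u, hgc⟩)
        obtain ⟨k, hk, hk'⟩ := (Nat.dvd_prime_pow Nat.prime_two).1 (show _ ∣ 2 ^ 4 from hd)
        rw [hk'] at h3 h4 ⊢
        interval_cases k <;> simp_all
      exact hle ▸ inf_le_right
    have hv1 : (x * u)⁻¹ * τ x ∈ V := QuotientGroup.eq.1 (hτxb.symm)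
    have hw1 : u⁻¹ * τ u ∈ W := by
      have h1 : (u * v)⁻¹ * τ u ∈ V := QuotientGroup.eq.1 (hτub.symm)
      rw [show u⁻¹ * τ u = v * ((u * v)⁻¹ * τ u) by group]
      exact mul_mem hvW (h.le_fixMod h1)
    refine hgV ((h.fix g).1 ?_)
    have hcc : ∀ a b z : T, z ∈ Subgroup.center T → ⁅a * z, b⁆ = ⁅a, b⁆ ∧ ⁅a, b * z⁆ = ⁅a, b⁆ := by
      intro a b z hz
      have hz' := Subgroup.mem_center_iff.1 hz
      constructor
      · rw [commutatorElement_def, commutatorElement_def, mul_assoc a z b, ← hz' b, mul_inv_rev,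
          ← mul_assoc a b z, show a * b * z * (z⁻¹ * a⁻¹) = a * b * a⁻¹ by group]
      · rw [commutatorElement_def, commutatorElement_def, mul_inv_rev, ← mul_assoc a b z,
          mul_assoc (a * b) z a⁻¹, ← hz' a⁻¹]
        group
    rw [hg, map_commutatorElement, show τ x = x * u * ((x * u)⁻¹ * τ x) by group,
      show τ u = u * (u⁻¹ * τ u) by group, (hcc _ _ _ (h.hV hv1)).1, (hcc _ _ _ (hWc' hw1)).2]
    simp only [commutatorElement_def]; group

/-- The statement. -/
theorem main (h : Hyp σ τ V) :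
    (Nat.card T = 16 ∧ ∀ a : T, a * a = 1) ∨
    (∃ n : ℕ, 1 ≤ n ∧
      Nonempty (T ≃* Multiplicative (ZMod (2 ^ n)) × Multiplicative (ZMod (2 ^ n)))) ∨
    Data (0, 0) T ∨ Data (0, 1) T := by
  haveI : Fact (Nat.Prime 2) := ⟨Nat.prime_two⟩
  rcases classify _ h rfl with ⟨hab, x, hx⟩ | h16 | ⟨-, hd, -⟩
  · refine Or.inr (Or.inl ?_)
    letI : CommGroup T := { (inferInstance : Group T) with mul_comm := hab }
    obtain ⟨n, hn⟩ := IsPGroup.iff_orderOf.1 h.two x
    have hx1 : x ≠ 1 := by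
      rintro rfl
      rw [map_one, Set.pair_eq_singleton, Subgroup.closure_singleton_one] at hx
      have h1 : V = ⊥ := le_bot_iff.1 (hx.symm ▸ le_top)
      have h2 := h.card
      rw [h1, Subgroup.card_bot] at h2
      norm_num at h2
    have hn1 : 1 ≤ n := Nat.one_le_iff_ne_zero.2 fun e => hx1 (orderOf_eq_one_iff.1 (by rw [hn, e, pow_zero]))
    have hσn : orderOf (σ x) = 2 ^ n := by rw [MulEquiv.orderOf_eq, hn]
    have hdisj : Subgroup.zpowers x ⊓ Subgroup.zpowers (σ x) = ⊥ := by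
      by_contra hne
      haveI := (Subgroup.nontrivial_iff_ne_bot _).2 hne
      obtain ⟨k, hk0, hk⟩ := (h.two.to_subgroup (Subgroup.zpowers x ⊓ Subgroup.zpowers (σ x))).nontrivial_iff_card.1 inferInstance
      obtain ⟨⟨y, hyx, hyσ⟩, hy⟩ := exists_prime_orderOf_dvd_card'
        (G := ↥(Subgroup.zpowers x ⊓ Subgroup.zpowers (σ x))) 2 (hk ▸ dvd_pow_self 2 hk0.ne')
      replace hy : orderOf y = 2 := (Subgroup.orderOf_coe _).trans hy
      obtain ⟨i, hi⟩ := Subgroup.mem_zpowers_iff.1 hyx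
      -- the involution of a cyclic group is unique
      have huniq : ∀ a : T, ∀ b ∈ Subgroup.zpowers a, ∀ c ∈ Subgroup.zpowers a,
          orderOf b = 2 → orderOf c = 2 → b = c := by
        intro a b hb c hc hb2 hc2
        classical
        rw [(isOfFinOrder_of_finite a).mem_zpowers_iff_mem_range_orderOf, Finset.mem_image] at hb hc
        obtain ⟨i, hi, rfl⟩ := hb
        obtain ⟨j, hj, rfl⟩ := hc
        rw [Finset.mem_range] at hi hj
        have key : ∀ k, k < orderOf a → orderOf (a ^ k) = 2 → k * 2 = orderOf a := by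
          intro k hk h2
          have hd : orderOf a ∣ k * 2 := by
            rw [orderOf_dvd_iff_pow_eq_one, pow_mul, ← h2]
            exact pow_orderOf_eq_one _
          have hk0 : k ≠ 0 := by
            rintro rfl
            rw [pow_zero, orderOf_one] at h2
            norm_num at h2
          obtain ⟨m, hm⟩ := hd
          have hm1 : m = 1 := by
            by_contra hne
            rcases Nat.lt_or_gt_of_ne hne with hlt | hgt
            · obtain rfl : m = 0 := by omega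
              omega
            · have : orderOf a * 2 ≤ orderOf a * m := Nat.mul_le_mul_left _ hgt
              omega
          rw [hm, hm1, mul_one]
        have h1 := key i hi hb2
        have h2 := key j hj hc2
        rw [show i = j by omega]
      have hσy : σ y ∈ Subgroup.zpowers (σ x) := by
        rw [← hi, map_zpow]; exact zpow_mem (Subgroup.mem_zpowers _) i
      have := huniq (σ x) y hyσ (σ y) hσy hy (by rw [MulEquiv.orderOf_eq, hy])
      rw [h.fp y this.symm, orderOf_one] at hy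
      norm_num at hy
    let φ : Subgroup.zpowers x × Subgroup.zpowers (σ x) →* T :=
      (Subgroup.zpowers x).subtype.coprod (Subgroup.zpowers (σ x)).subtype
    have hφ : Function.Bijective φ := by
      constructor
      · rw [injective_iff_map_eq_one]
        rintro ⟨a, b⟩ hab'
        have e : (a : T) * b = 1 := hab'
        have ha : (a : T) ∈ Subgroup.zpowers x ⊓ Subgroup.zpowers (σ x) :=
          ⟨a.2, by rw [eq_inv_of_mul_eq_one_left e]; exact Subgroup.inv_mem _ b.2⟩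
        rw [hdisj, Subgroup.mem_bot] at ha
        rw [ha, one_mul] at e
        exact Prod.ext (Subtype.ext ha) (Subtype.ext e)
      · rw [← MonoidHom.range_eq_top, eq_top_iff, ← hx, Subgroup.closure_le]
        rintro a (rfl | rfl)
        · exact ⟨(⟨_, Subgroup.mem_zpowers _⟩, 1), by simp [φ]⟩
        · exact ⟨(1, ⟨_, Subgroup.mem_zpowers _⟩), by simp [φ]⟩
    refine ⟨n, hn1, ⟨(MulEquiv.ofBijective φ hφ).symm.trans (MulEquiv.prodCongr ?_ ?_)⟩⟩
    · exact cyclicEquiv inferInstance (by rw [Nat.card_zpowers, hn])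
    · exact cyclicEquiv inferInstance (by rw [Nat.card_zpowers, hσn])
  · exact Or.inl h16
  · exact hd.elim (fun d => Or.inr (Or.inr (Or.inl d))) (fun d => Or.inr (Or.inr (Or.inr d)))

end Hyp

end CfsgLib.FoursCenter
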