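import Mathlib

/-!
# Common odd-product neighbours of two involutions: basic notions

For involutive permutations `x`, `y` and an invariant set `U`, `Sol x y U` says that some involution
`z` supported on `U`, with as many fixed points on `U` as `x`, makes both `x * z` and `y * z` act on
`U` with odd periods.
-/

set_option autoImplicit false

namespace CfsgLib.OddProductInv

open Equiv Function

variable {α : Type*}

/-- An odd period. -/
def OddPer (f : α → α) (a : α) : Prop := ∃ N, Odd N ∧ f^[N] a = a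

theorem OddPer.iterate {f : α → α} {a : α} (h : OddPer f a) (k : ℕ) : OddPer f (f^[k] a) := by
  obtain ⟨N, hN, h⟩ := h
  exact ⟨N, hN, by rw [← iterate_add_apply, Nat.add_comm, iterate_add_apply, h]⟩

theorem OddPer.apply {f : α → α} {a : α} (h : OddPer f a) : OddPer f (f a) := h.iterate 1

theorem OddPer.of_fixed {f : α → α} {a : α} (h : f a = a) : OddPer f a := ⟨1, odd_one, h⟩

theorem OddPer.congr {f g : α → α} {S : Finset α} (hfg : ∀ a ∈ S, f a = g a)
    (hS : ∀ a ∈ S, g a ∈ S) {a : α} (ha : a ∈ S) (h : OddPer g a) : OddPer f a := by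
  obtain ⟨N, hN, hper⟩ := h
  refine ⟨N, hN, ?_⟩
  have : ∀ k, f^[k] a = g^[k] a ∧ g^[k] a ∈ S := by
    intro k
    induction k with
    | zero => exact ⟨rfl, ha⟩
    | succ k ih =>
      rw [iterate_succ_apply', iterate_succ_apply', ih.1]
      exact ⟨hfg _ ih.2, hS _ ih.2⟩
  rw [(this N).1, hper]

theorem odd_orderOf [Finite α] (σ : Perm α) (h : ∀ a, OddPer σ a) : Odd (orderOf σ) := by
  classical
  haveI := Fintype.ofFinite α
  choose N hN hper using h
  have hodd : Odd (∏ a, N a) := by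
    refine Finset.prod_induction _ Odd (fun a b => Odd.mul) odd_one fun a _ => hN a
  refine Odd.of_dvd_nat hodd (orderOf_dvd_of_pow_eq_one (Equiv.ext fun a => ?_))
  obtain ⟨c, hc⟩ := Finset.dvd_prod_of_mem N (Finset.mem_univ a)
  rw [Perm.coe_pow, hc]
  exact (IsPeriodicPt.mul_const (hper a) c)

variable [DecidableEq α]

/-- The number of fixed points of `f` in `U`. -/
def nFix (f : α → α) (U : Finset α) : ℕ := (U.filter fun a => f a = a).card

theorem nFix_union (f : α → α) {U V : Finset α} (h : Disjoint U V) :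
    nFix f (U ∪ V) = nFix f U + nFix f V := by
  rw [nFix, Finset.filter_union, Finset.card_union_of_disjoint (Finset.disjoint_filter_filter h)]
  rfl

theorem nFix_congr {f g : α → α} {U : Finset α} (h : ∀ a ∈ U, f a = g a) : nFix f U = nFix g U := by
  unfold nFix
  rw [Finset.filter_congr fun a ha => by rw [h a ha]]

theorem nFix_lt_card {f : α → α} {U : Finset α} {a : α} (ha : a ∈ U) (hf : f a ≠ a) :
    nFix f U < U.card :=
  Finset.card_lt_card (Finset.filter_ssubset.2 ⟨a, ha, hf⟩)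

theorem exists_moved_of_lt {f : α → α} {U : Finset α} (h : nFix f U < U.card) :
    ∃ a ∈ U, f a ≠ a := by
  by_contra! hall
  rw [nFix, Finset.filter_true_of_mem hall] at h
  omega

/-- A solution of the common neighbour problem on `U`. -/
def Sol (x y : Perm α) (U : Finset α) : Prop :=
  ∃ z : Perm α, (∀ a, z (z a) = a) ∧ (∀ a ∉ U, z a = a) ∧ nFix z U = nFix x U ∧
    ∀ a ∈ U, OddPer (fun t => x (z t)) a ∧ OddPer (fun t => y (z t)) a

theorem mem_of_supported {z : Perm α} {U : Finset α} (hz : ∀ a ∉ U, z a = a) {a : α} (ha : a ∈ U) :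
    z a ∈ U := by
  by_contra h
  exact h (by rwa [z.injective (hz _ h)])

theorem sol_union {x y : Perm α} {U V : Finset α} (hd : Disjoint U V)
    (hxU : ∀ a ∈ U, x a ∈ U) (hyU : ∀ a ∈ U, y a ∈ U) (hxV : ∀ a ∈ V, x a ∈ V) (hyV : ∀ a ∈ V, y a ∈ V)
    (hU : Sol x y U) (hV : Sol x y V) : Sol x y (U ∪ V) := by
  obtain ⟨z₁, h1, h1', h1c, h1o⟩ := hU
  obtain ⟨z₂, h2, h2', h2c, h2o⟩ := hV
  have e1 : ∀ a ∈ U, (z₁ * z₂) a = z₁ a := fun a ha => by
    rw [Perm.mul_apply, h2' a (Finset.disjoint_left.1 hd ha)]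
  have e2 : ∀ a ∈ V, (z₁ * z₂) a = z₂ a := fun a ha => by
    rw [Perm.mul_apply, h1' _ (Finset.disjoint_right.1 hd (mem_of_supported h2' ha))]
  refine ⟨z₁ * z₂, fun a => ?_, fun a ha => ?_, ?_, fun a ha => ?_⟩
  · by_cases haU : a ∈ U
    · rw [e1 a haU, e1 _ (mem_of_supported h1' haU), h1]
    by_cases haV : a ∈ V
    · rw [e2 a haV, e2 _ (mem_of_supported h2' haV), h2]
    have : (z₁ * z₂) a = a := by rw [Perm.mul_apply, h2' a haV, h1' a haU]
    rw [this, this]
  · rw [Finset.mem_union, not_or] at ha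
    rw [Perm.mul_apply, h2' a ha.2, h1' a ha.1]
  · rw [nFix_union _ hd, nFix_union _ hd, nFix_congr e1, nFix_congr e2, h1c, h2c]
  · rcases Finset.mem_union.1 ha with ha | ha
    · exact ⟨OddPer.congr (fun t ht => by rw [e1 t ht])
        (fun t ht => hxU _ (mem_of_supported h1' ht)) ha (h1o a ha).1,
        OddPer.congr (fun t ht => by rw [e1 t ht])
        (fun t ht => hyU _ (mem_of_supported h1' ht)) ha (h1o a ha).2⟩
    · exact ⟨OddPer.congr (fun t ht => by rw [e2 t ht])
        (fun t ht => hxV _ (mem_of_supported h2' ht)) ha (h2o a ha).1,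
        OddPer.congr (fun t ht => by rw [e2 t ht])
        (fun t ht => hyV _ (mem_of_supported h2' ht)) ha (h2o a ha).2⟩

theorem sol_of_fixed {x y : Perm α} {U : Finset α} (hx : ∀ a ∈ U, x a = a) (hy : ∀ a ∈ U, y a = a) :
    Sol x y U :=
  ⟨1, fun _ => rfl, fun _ _ => rfl, nFix_congr fun a ha => (hx a ha).symm, fun a ha =>
    ⟨OddPer.of_fixed (hx a ha), OddPer.of_fixed (hy a ha)⟩⟩

/-- Solutions given as conjugates of `x`. -/
theorem sol_of_conj {x y : Perm α} {U : Finset α} (hx : ∀ a, x (x a) = a) (hxU : ∀ a ∈ U, x a ∈ U)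
    (g : Perm α) (hg : ∀ a ∉ U, g a = a)
    (hfx : ∀ z : Perm α, (∀ v ∈ U, z (g v) = g (x v)) → ∀ a ∈ U,
      OddPer (fun t => x (z t)) a ∧ OddPer (fun t => y (z t)) a) : Sol x y U := by
  have hgU : ∀ {a}, a ∈ U → g a ∈ U := fun ha => mem_of_supported hg ha
  have hgU' : ∀ {a}, a ∈ U → g.symm a ∈ U := fun {a} ha => by
    refine mem_of_supported (z := g.symm) (fun b hb => ?_) ha
    rw [Equiv.symm_apply_eq, hg b hb]
  let f : α → α := fun a => if a ∈ U then g (x (g.symm a)) else a
  have hf : Function.Involutive f := fun a => by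
    by_cases ha : a ∈ U
    · simp only [f, if_pos ha, if_pos (hgU (hxU _ (hgU' ha))), Equiv.symm_apply_apply, hx,
        Equiv.apply_symm_apply]
    · simp only [f, if_neg ha]
  refine ⟨hf.toPerm, hf, fun a ha => if_neg ha, ?_, hfx _ fun v hv => ?_⟩
  · refine (Finset.card_bij (fun a _ => g a) (fun a ha => ?_) (fun a _ b _ h => g.injective h)
      fun b hb => ?_).symm
    · simp only [Finset.mem_filter] at ha ⊢
      refine ⟨hgU ha.1, ?_⟩
      show f (g a) = g a
      simp only [f, if_pos (hgU ha.1), Equiv.symm_apply_apply, ha.2]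
    · simp only [Finset.mem_filter] at hb
      have hb2 : f b = b := hb.2
      simp only [f, if_pos hb.1] at hb2
      exact ⟨g.symm b, Finset.mem_filter.2 ⟨hgU' hb.1, g.injective (by
        rw [hb2, Equiv.apply_symm_apply])⟩, g.apply_symm_apply b⟩
  · show f (g v) = _
    simp only [f, if_pos (hgU hv), Equiv.symm_apply_apply]

/-! ### The product `y * x` -/

variable {x y : Perm α}

theorem x_zpow (hx : ∀ a, x (x a) = a) (hy : ∀ a, y (y a) = a) (i : ℤ) (a : α) :
    x (((y * x) ^ i) a) = ((y * x) ^ (-i)) (x a) := by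
  have h : SemiconjBy x (y * x) (y * x)⁻¹ := by
    have hx' : x⁻¹ = x := Equiv.ext fun b => Perm.inv_eq_iff_eq.2 (hx b).symm
    have hy' : y⁻¹ = y := Equiv.ext fun b => Perm.inv_eq_iff_eq.2 (hy b).symm
    show x * (y * x) = (y * x)⁻¹ * x
    rw [mul_inv_rev, hx', hy', mul_assoc]
  have := congrArg (fun p : Perm α => p a) (h.zpow_right i).eq
  rw [zpow_neg, ← inv_zpow]; exact this

theorem y_zpow (hx : ∀ a, x (x a) = a) (hy : ∀ a, y (y a) = a) (i : ℤ) (a : α) :
    y (((y * x) ^ i) a) = ((y * x) ^ (-i)) (y a) := by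
  have h : SemiconjBy y (y * x) (y * x)⁻¹ := by
    have hx' : x⁻¹ = x := Equiv.ext fun b => Perm.inv_eq_iff_eq.2 (hx b).symm
    have hy' : y * y = 1 := Equiv.ext hy
    show y * (y * x) = (y * x)⁻¹ * y
    rw [mul_inv_rev, hx', ← mul_assoc, hy', one_mul, mul_assoc, inv_mul_cancel, mul_one]
  have := congrArg (fun p : Perm α => p a) (h.zpow_right i).eq
  rw [zpow_neg, ← inv_zpow]; exact this

/-- The period of `a` under `y * x`. -/
noncomputable def per (x y : Perm α) (a : α) : ℕ := minimalPeriod (fun b => (y * x) • b) a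

theorem per_pos [Finite α] (a : α) : 0 < per x y a :=
  minimalPeriod_pos_of_mem_periodicPts (Injective.mem_periodicPts (MulAction.injective (y * x)) a)

theorem zpow_eq_iff (a : α) (i j : ℤ) :
    ((y * x) ^ i) a = ((y * x) ^ j) a ↔ (per x y a : ℤ) ∣ i - j := by
  rw [per, ← MulAction.zpow_smul_eq_iff_minimalPeriod_dvd, Perm.smul_def]
  constructor
  · intro h
    rw [sub_eq_neg_add, zpow_add, Perm.mul_apply, h, ← Perm.mul_apply, ← zpow_add, neg_add_cancel,
      zpow_zero, Perm.one_apply]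
  · intro h
    have := congrArg (((y * x) ^ j : Perm α) : α → α) h
    rwa [← Perm.mul_apply, ← zpow_add, add_sub_cancel] at this

theorem oddPer_iff [Finite α] (a : α) : OddPer (⇑(y * x)) a ↔ Odd (per x y a) := by
  constructor
  · rintro ⟨N, hN, h⟩
    exact Odd.of_dvd_nat hN (IsPeriodicPt.minimalPeriod_dvd (show IsPeriodicPt (fun b => (y * x) • b) N a from h))
  · intro h
    exact ⟨_, h, isPeriodicPt_minimalPeriod (fun b => (y * x) • b) a⟩

theorem per_zpow (a : α) (i : ℤ) : per x y (((y * x) ^ i) a) = per x y a := by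
  have h : ∀ k : ℤ, (per x y (((y * x) ^ i) a) : ℤ) ∣ k ↔ (per x y a : ℤ) ∣ k := by
    intro k
    have h1 := zpow_eq_iff (x := x) (y := y) (((y * x) ^ i) a) k 0
    have h2 := zpow_eq_iff (x := x) (y := y) a k 0
    rw [sub_zero] at h1 h2
    rw [← h1, ← h2, zpow_zero, Perm.one_apply, Perm.one_apply, ← Perm.mul_apply, ← zpow_add,
      add_comm, zpow_add, Perm.mul_apply]
    exact ((y * x) ^ i).injective.eq_iff
  exact Nat.dvd_antisymm (Int.natCast_dvd_natCast.1 ((h _).2 dvd_rfl))
    (Int.natCast_dvd_natCast.1 ((h _).1 dvd_rfl))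

theorem exists_rep [Finite α] (a : α) (i : ℤ) :
    ∃ k : ℕ, k < per x y a ∧ ((y * x) ^ i) a = ((y * x) ^ (k : ℤ)) a := by
  have hpos : (0 : ℤ) < per x y a := by exact_mod_cast per_pos a
  refine ⟨(i % (per x y a : ℤ)).toNat, ?_, (zpow_eq_iff a _ _).2 ?_⟩
  · have := Int.emod_lt_of_pos i hpos
    have := Int.emod_nonneg i hpos.ne'
    omega
  · rw [Int.toNat_of_nonneg (Int.emod_nonneg i hpos.ne')]
    exact Int.dvd_self_sub_emod

/-- Following `y * x` along a stretch. -/
theorem iterate_chain {f : α → α} {a : α} {s e : ℕ}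
    (h : ∀ i : ℕ, s ≤ i → i < e → f (((y * x) ^ (i : ℤ)) a) = ((y * x) ^ ((i + 1 : ℕ) : ℤ)) a)
    (k : ℕ) (hk : s + k ≤ e) : f^[k] (((y * x) ^ (s : ℤ)) a) = ((y * x) ^ ((s + k : ℕ) : ℤ)) a := by
  induction k with
  | zero => rfl
  | succ k ih =>
    rw [iterate_succ_apply', ih (by omega), h (s + k) (by omega) (by omega), Nat.add_assoc]

end CfsgLib.OddProductInv
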