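import Cfsg.Agent.LocalEven49.OddProductBasic

/-!
# Common odd-product neighbours of two involutions: four-point orbits
-/

set_option autoImplicit false

namespace CfsgLib.OddProductInv

open Equiv Function

variable {α : Type*} [DecidableEq α] {x y : Perm α}

/-- `U` is a four-point orbit on which `x` and `y` commute without fixed points. -/
structure C4 (x y : Perm α) (U : Finset α) (a : α) : Prop where
  eq : U = {a, x a, y a, y (x a)}
  comm : x (y a) = y (x a)
  hxa : x a ≠ a
  hya : y a ≠ a
  hne : x a ≠ y a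

namespace C4

variable {U : Finset α} {a : α} (hx : ∀ b, x (x b) = b) (hy : ∀ b, y (y b) = b) (h : C4 x y U a)
include hx hy h

theorem ne4 : y (x a) ≠ a ∧ y (x a) ≠ x a ∧ y (x a) ≠ y a :=
  ⟨fun e => h.hne (by rw [← hy (x a), e]), fun e => h.hya (x.injective (by rw [h.comm, e])),
    fun e => h.hxa (y.injective e)⟩

theorem yx_x : y (y (x a)) = x a ∧ x (y (x a)) = y a :=
  ⟨hy _, by rw [← h.comm, hx]⟩

theorem mem : a ∈ U ∧ x a ∈ U ∧ y a ∈ U ∧ y (x a) ∈ U := by rw [h.eq]; simp

theorem cases {b : α} (hb : b ∈ U) : b = a ∨ b = x a ∨ b = y a ∨ b = y (x a) := by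
  rw [h.eq] at hb; simpa using hb

theorem closed {b : α} (hb : b ∈ U) : x b ∈ U ∧ y b ∈ U := by
  obtain ⟨m1, m2, m3, m4⟩ := h.mem hx hy
  rcases h.cases hx hy hb with rfl | rfl | rfl | rfl
  · exact ⟨m2, m3⟩
  · exact ⟨by rwa [hx], m4⟩
  · exact ⟨by rwa [h.comm], by rwa [hy]⟩
  · exact ⟨by rwa [(h.yx_x hx hy).2], by rwa [(h.yx_x hx hy).1]⟩

theorem nFix_eq_zero : nFix x U = 0 ∧ nFix y U = 0 := by
  obtain ⟨d1, d2, d3⟩ := h.ne4 hx hy
  obtain ⟨e1, e2⟩ := h.yx_x hx hy
  constructor <;> rw [nFix, Finset.card_eq_zero, Finset.filter_eq_empty_iff] <;> intro b hb <;>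
    rcases h.cases hx hy hb with rfl | rfl | rfl | rfl
  · exact h.hxa
  · rw [hx]; exact h.hxa.symm
  · rw [h.comm]; exact d3
  · rw [e2]; exact d3.symm
  · exact h.hya
  · exact d2
  · rw [hy]; exact h.hya.symm
  · rw [e1]; exact d2.symm

/-- Four points and a common fixed point. -/
theorem sol_point {p : α} (hp : p ∉ U) (hxp : x p = p) (hyp : y p = p) : Sol x y (insert p U) := by
  obtain ⟨m1, m2, m3, m4⟩ := h.mem hx hy
  obtain ⟨d1, d2, d3⟩ := h.ne4 hx hy
  obtain ⟨e1, e2⟩ := h.yx_x hx hy
  have hU : ∀ b ∈ insert p U, x b ∈ insert p U := fun b hb => by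
    rcases Finset.mem_insert.1 hb with rfl | hb
    · rw [hxp]; exact Finset.mem_insert_self _ _
    · exact Finset.mem_insert_of_mem (h.closed hx hy hb).1
  have pa : p ≠ a := fun e => hp (e ▸ m1)
  have pb : p ≠ x a := fun e => hp (e ▸ m2)
  have pc : p ≠ y a := fun e => hp (e ▸ m3)
  have pd : p ≠ y (x a) := fun e => hp (e ▸ m4)
  refine sol_of_conj hx hU (swap (y a) p) (fun b hb => ?_) fun z hz => ?_
  · rw [Finset.mem_insert, not_or] at hb
    exact swap_apply_of_ne_of_ne (fun e => hb.2 (e ▸ m3)) hb.1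
  have ga : swap (y a) p a = a := swap_apply_of_ne_of_ne h.hya.symm pa.symm
  have gb : swap (y a) p (x a) = x a := swap_apply_of_ne_of_ne h.hne pb.symm
  have gd : swap (y a) p (y (x a)) = y (x a) := swap_apply_of_ne_of_ne d3 pd.symm
  have za : z a = x a := by
    have := hz a (Finset.mem_insert_of_mem m1); rwa [ga, gb] at this
  have zb : z (x a) = a := by
    have := hz (x a) (Finset.mem_insert_of_mem m2); rwa [gb, hx, ga] at this
  have zp : z p = y (x a) := by
    have := hz (y a) (Finset.mem_insert_of_mem m3); rwa [swap_apply_left, h.comm, gd] at this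
  have zd : z (y (x a)) = p := by
    have := hz _ (Finset.mem_insert_of_mem m4); rwa [gd, e2, swap_apply_left] at this
  have zc : z (y a) = y a := by
    have := hz p (Finset.mem_insert_self _ _); rwa [swap_apply_right, hxp, swap_apply_right] at this
  intro b hb
  refine ⟨?_, ?_⟩
  · have hc : OddPer (fun t => x (z t)) p := ⟨3, by decide, by
      show x (z (x (z (x (z p))))) = p
      rw [zp, e2, zc, h.comm, zd, hxp]⟩
    rcases Finset.mem_insert.1 hb with rfl | hb
    · exact hc
    rcases h.cases hx hy hb with rfl | rfl | rfl | rfl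
    · exact OddPer.of_fixed (show x (z _) = _ by rw [za, hx])
    · exact OddPer.of_fixed (show x (z _) = _ by rw [zb])
    · have := hc.apply; simp only [zp, e2] at this; exact this
    · have := hc.apply.apply; simp only [zp, e2, zc, h.comm] at this; exact this
  · have hc : OddPer (fun t => y (z t)) p := ⟨5, by decide, by
      show y (z (y (z (y (z (y (z (y (z p))))))))) = p
      rw [zp, e1, zb, zc, hy, za, zd, hyp]⟩
    rcases Finset.mem_insert.1 hb with rfl | hb
    · exact hc
    rcases h.cases hx hy hb with rfl | rfl | rfl | rfl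
    · have := hc.apply.apply.apply; simp only [zp, e1, zb, zc, hy] at this; exact this
    · have := hc.apply; simp only [zp, e1] at this; exact this
    · have := hc.apply.apply; simp only [zp, e1, zb] at this; exact this
    · have := hc.apply.apply.apply.apply; simp only [zp, e1, zb, zc, hy, za] at this; exact this

/-- Two four-point orbits. -/
theorem sol_two {V : Finset α} {c : α} (k : C4 x y V c) (hd : Disjoint U V) : Sol x y (U ∪ V) := by
  obtain ⟨a1, a2, a3, a4⟩ := h.mem hx hy
  obtain ⟨c1, c2, c3, c4⟩ := k.mem hx hy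
  obtain ⟨d1, d2, d3⟩ := h.ne4 hx hy
  obtain ⟨f1, f2, f3⟩ := k.ne4 hx hy
  obtain ⟨e1, e2⟩ := h.yx_x hx hy
  obtain ⟨e3, e4⟩ := k.yx_x hx hy
  have ne : ∀ {u v : α}, u ∈ U → v ∈ V → u ≠ v := fun hu hv e => Finset.disjoint_left.1 hd hu (e ▸ hv)
  have hU : ∀ b ∈ U ∪ V, x b ∈ U ∪ V := fun b hb => by
    rcases Finset.mem_union.1 hb with hb | hb
    · exact Finset.mem_union_left _ (h.closed hx hy hb).1
    · exact Finset.mem_union_right _ (k.closed hx hy hb).1
  -- names: `a, x a, y (x a), y a` and `c, x c, y (x c), y c`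
  set g := swap a (x a) * swap (x a) (y (x a)) * swap (y a) (y (x c)) with hg
  have ga : g a = x a := by
    rw [hg, Perm.mul_apply, Perm.mul_apply, swap_apply_of_ne_of_ne h.hya.symm (ne a1 c4),
      swap_apply_of_ne_of_ne h.hxa.symm d1.symm, swap_apply_left]
  have gb : g (x a) = y (x a) := by
    rw [hg, Perm.mul_apply, Perm.mul_apply, swap_apply_of_ne_of_ne h.hne (ne a2 c4), swap_apply_left,
      swap_apply_of_ne_of_ne d1 d2]
  have gd : g (y (x a)) = a := by
    rw [hg, Perm.mul_apply, Perm.mul_apply, swap_apply_of_ne_of_ne d3 (ne a4 c4), swap_apply_right,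
      swap_apply_right]
  have gc : g (y a) = y (x c) := by
    rw [hg, Perm.mul_apply, Perm.mul_apply, swap_apply_left,
      swap_apply_of_ne_of_ne (ne a2 c4).symm (ne a4 c4).symm,
      swap_apply_of_ne_of_ne (ne a1 c4).symm (ne a2 c4).symm]
  have gk : g (y (x c)) = y a := by
    rw [hg, Perm.mul_apply, Perm.mul_apply, swap_apply_right,
      swap_apply_of_ne_of_ne h.hne.symm d3.symm, swap_apply_of_ne_of_ne h.hya h.hne.symm]
  have gfix : ∀ w, w ≠ a → w ≠ x a → w ≠ y a → w ≠ y (x a) → w ≠ y (x c) → g w = w :=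
    fun w w1 w2 w3 w4 w5 => by
      rw [hg, Perm.mul_apply, Perm.mul_apply, swap_apply_of_ne_of_ne w3 w5,
        swap_apply_of_ne_of_ne w2 w4, swap_apply_of_ne_of_ne w1 w2]
  have gV : ∀ w ∈ V, w ≠ y (x c) → g w = w := fun w hw w5 =>
    gfix w (ne a1 hw).symm (ne a2 hw).symm (ne a3 hw).symm (ne a4 hw).symm w5
  refine sol_of_conj hx hU g (fun b hb => ?_) fun z hz => ?_
  · rw [Finset.mem_union, not_or] at hb
    exact gfix b (fun e => hb.1 (e ▸ a1)) (fun e => hb.1 (e ▸ a2)) (fun e => hb.1 (e ▸ a3))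
      (fun e => hb.1 (e ▸ a4)) (fun e => hb.2 (e ▸ c4))
  have zxa : z (x a) = y (x a) := by
    have := hz a (Finset.mem_union_left _ a1); rwa [ga, gb] at this
  have zd : z (y (x a)) = x a := by
    have := hz (x a) (Finset.mem_union_left _ a2); rwa [gb, hx, ga] at this
  have za : z a = y (x c) := by
    have := hz _ (Finset.mem_union_left _ a4); rwa [gd, e2, gc] at this
  have zk : z (y (x c)) = a := by
    have := hz _ (Finset.mem_union_left _ a3); rwa [gc, h.comm, gd] at this
  have gyc : g (y c) = y c := gV _ c3 f3.symm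
  have gxc : g (x c) = x c := gV _ c2 f2.symm
  have gcc : g c = c := gV _ c1 f1.symm
  have zya : z (y a) = y c := by
    have := hz _ (Finset.mem_union_right _ c4); rwa [gk, e4, gyc] at this
  have zyc : z (y c) = y a := by
    have := hz _ (Finset.mem_union_right _ c3); rwa [gyc, k.comm, gk] at this
  have zc : z c = x c := by
    have := hz _ (Finset.mem_union_right _ c1); rwa [gcc, gxc] at this
  have zxc : z (x c) = c := by
    have := hz _ (Finset.mem_union_right _ c2); rwa [gxc, hx, gcc] at this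
  intro b hb
  refine ⟨?_, ?_⟩
  · have P : OddPer (fun t => x (z t)) a := ⟨3, by decide, by
      show x (z (x (z (x (z a))))) = a
      rw [za, e4, zyc, h.comm, zd, hx]⟩
    have Q : OddPer (fun t => x (z t)) (x a) := ⟨3, by decide, by
      show x (z (x (z (x (z (x a)))))) = x a
      rw [zxa, e2, zya, k.comm, zk]⟩
    rcases Finset.mem_union.1 hb with hb | hb
    · rcases h.cases hx hy hb with rfl | rfl | rfl | rfl
      · exact P
      · exact Q
      · have := Q.apply; simp only [zxa, e2] at this; exact this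
      · have := P.apply.apply; simp only [za, e4, zyc, h.comm] at this; exact this
    · rcases k.cases hx hy hb with rfl | rfl | rfl | rfl
      · exact OddPer.of_fixed (show x (z _) = _ by rw [zc, hx])
      · exact OddPer.of_fixed (show x (z _) = _ by rw [zxc])
      · have := P.apply; simp only [za, e4] at this; exact this
      · have := Q.apply.apply; simp only [zxa, e2, zya, k.comm] at this; exact this
  · have P : OddPer (fun t => y (z t)) a := ⟨3, by decide, by
      show y (z (y (z (y (z a))))) = a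
      rw [za, e3, zxc, zyc] at *
      rw [hy]⟩
    have Q : OddPer (fun t => y (z t)) (y a) := ⟨3, by decide, by
      show y (z (y (z (y (z (y a)))))) = y a
      rw [zya, hy, zc, zk]⟩
    rcases Finset.mem_union.1 hb with hb | hb
    · rcases h.cases hx hy hb with rfl | rfl | rfl | rfl
      · exact P
      · exact OddPer.of_fixed (show y (z _) = _ by rw [zxa, e1])
      · exact Q
      · exact OddPer.of_fixed (show y (z _) = _ by rw [zd])
    · rcases k.cases hx hy hb with rfl | rfl | rfl | rfl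
      · have := Q.apply; simp only [zya, hy] at this; exact this
      · have := P.apply; simp only [za, e3] at this; exact this
      · have := P.apply.apply; simp only [za, e3, zxc] at this; exact this
      · have := Q.apply.apply; simp only [zya, hy, zc] at this; exact this

/-- Inserting four points along an edge of a solution. -/
theorem sol_insert {V : Finset α} (hd : Disjoint U V) (hxV : ∀ b ∈ V, x b ∈ V) (hyV : ∀ b ∈ V, y b ∈ V)
    (hV : Sol x y V) (hmov : nFix x V < V.card) : Sol x y (U ∪ V) := by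
  obtain ⟨a1, a2, a3, a4⟩ := h.mem hx hy
  obtain ⟨d1, d2, d3⟩ := h.ne4 hx hy
  obtain ⟨e1, e2⟩ := h.yx_x hx hy
  obtain ⟨z, hz, hz', hzc, hzo⟩ := hV
  rw [← hzc] at hmov
  obtain ⟨s, hs, hst⟩ := exists_moved_of_lt hmov
  have ht : z s ∈ V := mem_of_supported hz' hs
  have ne : ∀ {u v : α}, u ∈ U → v ∈ V → u ≠ v := fun hu hv e => Finset.disjoint_left.1 hd hu (e ▸ hv)
  let f : α → α := fun w =>
    if w = a then s else if w = s then a else if w = y (x a) then z s else if w = z s then y (x a)
    else if w = x a then y a else if w = y a then x a else z w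
  have fa : f a = s := if_pos rfl
  have fs : f s = a := by simp only [f, if_neg (ne a1 hs).symm, if_pos rfl, if_true]
  have fd : f (y (x a)) = z s := by simp only [f, if_neg d1, if_neg (ne a4 hs), if_pos rfl, if_true]
  have ft : f (z s) = y (x a) := by
    simp only [f, if_neg (ne a1 ht).symm, if_neg hst, if_neg (ne a4 ht).symm, if_pos rfl, if_true]
  have fb : f (x a) = y a := by
    simp only [f, if_neg h.hxa, if_neg (ne a2 hs), if_neg d2.symm, if_neg (ne a2 ht), if_pos rfl, if_true]
  have fc : f (y a) = x a := by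
    simp only [f, if_neg h.hya, if_neg (ne a3 hs), if_neg d3.symm, if_neg (ne a3 ht), if_neg h.hne.symm,
      if_pos rfl, if_true]
  have fV : ∀ w ∈ V, w ≠ s → w ≠ z s → f w = z w := fun w hw w1 w2 => by
    simp only [f, if_neg (ne a1 hw).symm, if_neg w1, if_neg (ne a4 hw).symm, if_neg w2,
      if_neg (ne a2 hw).symm, if_neg (ne a3 hw).symm]
  have fO : ∀ w, w ∉ U → w ∉ V → f w = z w := fun w w1 w2 => by
    simp only [f, if_neg (fun e => w1 (e ▸ a1) : w ≠ a), if_neg (fun e => w2 (e ▸ hs) : w ≠ s),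
      if_neg (fun e => w1 (e ▸ a4) : w ≠ y (x a)), if_neg (fun e => w2 (e ▸ ht) : w ≠ z s),
      if_neg (fun e => w1 (e ▸ a2) : w ≠ x a), if_neg (fun e => w1 (e ▸ a3) : w ≠ y a)]
  have hf : Function.Involutive f := fun w => by
    by_cases hU : w ∈ U
    · rcases h.cases hx hy hU with rfl | rfl | rfl | rfl
      · rw [fa, fs]
      · rw [fb, fc]
      · rw [fc, fb]
      · rw [fd, ft]
    by_cases hwV : w ∈ V
    · by_cases w1 : w = s
      · rw [w1, fs, fa]
      by_cases w2 : w = z s
      · rw [w2, ft, fd]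
      rw [fV w hwV w1 w2, fV (z w) (mem_of_supported hz' hwV) (fun e => w2 (by rw [← e, hz]))
        (fun e => w1 (z.injective e)), hz]
    rw [fO w hU hwV, hz' w hwV, fO w hU hwV, hz' w hwV]
  refine ⟨hf.toPerm, hf, fun w hw => ?_, ?_, ?_⟩
  · rw [Finset.mem_union, not_or] at hw
    show f w = w
    rw [fO w hw.1 hw.2, hz' w hw.2]
  · rw [nFix_union _ hd, nFix_union _ hd, (h.nFix_eq_zero hx hy).1, ← hzc]
    have hU0 : nFix hf.toPerm U = 0 := by
      rw [nFix, Finset.card_eq_zero, Finset.filter_eq_empty_iff]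
      intro b hb
      show f b ≠ b
      rcases h.cases hx hy hb with rfl | rfl | rfl | rfl
      · rw [fa]; exact (ne a1 hs).symm
      · rw [fb]; exact h.hne.symm
      · rw [fc]; exact h.hne
      · rw [fd]; exact (ne a4 ht).symm
    have hV0 : nFix hf.toPerm V = nFix z V := by
      unfold nFix
      refine congrArg Finset.card (Finset.filter_congr fun w hw => ?_)
      show f w = w ↔ z w = w
      by_cases w1 : w = s
      · rw [w1, fs]; exact iff_of_false (ne a1 hs) hst
      by_cases w2 : w = z s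
      · rw [w2, ft, hz]; exact iff_of_false (ne a4 ht) hst.symm
      rw [fV w hw w1 w2]
    rw [hU0, hV0]
  -- both products are lengthened by two at each of two places
  have trans : ∀ (w : Perm α), (∀ b ∈ V, w b ∈ V) →
      (∃ p₁ p₂, w (f s) = p₁ ∧ w (f p₁) = p₂ ∧ w (f p₂) = w (z s)) →
      (∃ p₁ p₂, w (f (z s)) = p₁ ∧ w (f p₁) = p₂ ∧ w (f p₂) = w (z (z s))) →
      ∀ b ∈ V, OddPer (fun t => w (z t)) b → OddPer (fun t => w (f t)) b := by
    rintro w hwV ⟨p₁, p₂, q1, q2, q3⟩ ⟨r₁, r₂, u1, u2, u3⟩ b hb ⟨N, hN, hper⟩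
    have step : ∀ k, ∃ k', (k' % 2 = k % 2) ∧ (fun t => w (f t))^[k'] b = (fun t => w (z t))^[k] b ∧
        (fun t => w (z t))^[k] b ∈ V := by
      intro k
      induction k with
      | zero => exact ⟨0, rfl, rfl, hb⟩
      | succ k ih =>
        obtain ⟨k', h1, h2, h3⟩ := ih
        rw [iterate_succ_apply']
        set v := (fun t => w (z t))^[k] b
        have hv' : w (z v) ∈ V := hwV _ (mem_of_supported hz' h3)
        by_cases w1 : v = s
        · refine ⟨k' + 1 + 1 + 1, by omega, ?_, hv'⟩
          rw [iterate_succ_apply', iterate_succ_apply', iterate_succ_apply', h2, w1]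
          show w (f (w (f (w (f s))))) = _
          rw [q1, q2, q3]
        by_cases w2 : v = z s
        · refine ⟨k' + 1 + 1 + 1, by omega, ?_, hv'⟩
          rw [iterate_succ_apply', iterate_succ_apply', iterate_succ_apply', h2, w2]
          show w (f (w (f (w (f (z s)))))) = _
          rw [u1, u2, u3]
        refine ⟨k' + 1, by omega, ?_, hv'⟩
        rw [iterate_succ_apply', h2]
        show w (f v) = w (z v)
        rw [fV v h3 w1 w2]
    obtain ⟨k', h1, h2, -⟩ := step N
    exact ⟨k', by rw [Nat.odd_iff] at hN ⊢; omega, h2.trans hper⟩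
  have tx := trans x hxV ⟨x a, y (x a), by rw [fs], by rw [fb, h.comm], by rw [fd]⟩
    ⟨y a, a, by rw [ft, e2], by rw [fc, hx], by rw [fa, hz]⟩
  have ty := trans y hyV ⟨y a, y (x a), by rw [fs], by rw [fc], by rw [fd]⟩
    ⟨x a, a, by rw [ft, e1], by rw [fb, hy], by rw [fa, hz]⟩
  intro b hb
  rcases Finset.mem_union.1 hb with hb | hb
  swap
  · exact ⟨tx b hb (hzo b hb).1, ty b hb (hzo b hb).2⟩
  obtain ⟨sx, sy⟩ := hzo s hs
  obtain ⟨tx', ty'⟩ := hzo (z s) ht
  have X1 := (tx s hs sx).apply
  have X2 := X1.apply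
  have X3 := (tx _ ht tx').apply
  have X4 := X3.apply
  have Y1 := (ty s hs sy).apply
  have Y2 := Y1.apply
  have Y3 := (ty _ ht ty').apply
  have Y4 := Y3.apply
  simp only [fs, ft, fb, fc, h.comm, hx, hy, e2] at X1 X2 X3 X4 Y1 Y2 Y3 Y4
  rcases h.cases hx hy hb with rfl | rfl | rfl | rfl
  exacts [⟨X4, Y4⟩, ⟨X1, Y3⟩, ⟨X3, Y1⟩, ⟨X2, Y2⟩]

end C4

end CfsgLib.OddProductInv
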