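import Cfsg.Agent.LocalEven49.OddProductMain
import Mathlib

/-!
# The odd-product graph on a class of involutions of a symmetric group
-/

set_option autoImplicit false
set_option linter.style.haveILetI false

namespace CfsgLib.OddProductInv

open Equiv Function

variable {α : Type*} [Fintype α] [DecidableEq α]

theorem nFix_univ (x : Perm α) : nFix x Finset.univ + x.support.card = Fintype.card α := by
  have h := Finset.card_filter_add_card_filter_not (s := (Finset.univ : Finset α)) (fun a => x a = a)
  rw [Finset.card_univ] at h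
  exact h

theorem support_card_eq {x : Perm α} (hx : x * x = 1) :
    x.support.card = 2 * Multiset.card x.cycleType := by
  haveI : Fact (Nat.Prime 2) := ⟨Nat.prime_two⟩
  have h := Perm.cycleType_of_pow_prime_eq_one (σ := x) (p := 2) (by rw [pow_two, hx])
  rw [← Perm.sum_cycleType, h, Multiset.sum_replicate, Multiset.card_replicate, smul_eq_mul, Nat.mul_comm]

theorem isConj_of_nFix {x z : Perm α} (hx : x * x = 1) (hz : z * z = 1)
    (h : nFix z Finset.univ = nFix x Finset.univ) : IsConj x z := by
  haveI : Fact (Nat.Prime 2) := ⟨Nat.prime_two⟩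
  rw [Perm.isConj_iff_cycleType_eq, Perm.cycleType_of_pow_prime_eq_one (σ := x) (p := 2) (by rw [pow_two, hx]),
    Perm.cycleType_of_pow_prime_eq_one (σ := z) (p := 2) (by rw [pow_two, hz])]
  refine congrArg (fun k => Multiset.replicate k 2) ?_
  have h1 := nFix_univ x
  have h2 := nFix_univ z
  rw [support_card_eq hx] at h1
  rw [support_card_eq hz] at h2
  omega

theorem nFix_of_isConj {x z : Perm α} (h : IsConj x z) : nFix z Finset.univ = nFix x Finset.univ := by
  obtain ⟨g, rfl⟩ := isConj_iff.1 h
  have h1 := nFix_univ x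
  have h2 := nFix_univ (g * x * g⁻¹)
  rw [Perm.card_support_conj] at h2
  omega

/-- Some commuting conjugate of a non-trivial involution differs from it. -/
theorem exists_commuting_conj (h4 : 4 ≤ Fintype.card α) {t : Perm α} (ht : t * t = 1) (ht1 : t ≠ 1) :
    ∃ y : Perm α, IsConj t y ∧ y ≠ t ∧ (t * y) * (t * y) = 1 := by
  have ht' : ∀ a, t (t a) = a := fun a => congrArg (fun p : Perm α => p a) ht
  obtain ⟨a, ha⟩ : ∃ a, t a ≠ a := by
    by_contra! hall
    exact ht1 (Equiv.ext hall)
  by_cases h2 : ∃ c, c ≠ a ∧ c ≠ t a ∧ t c ≠ c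
  · obtain ⟨c, hca, hcb, hc⟩ := h2
    have d1 : t c ≠ a := fun e => hcb (by rw [← e, ht'])
    have d2 : t c ≠ t a := fun e => hca (t.injective e)
    refine ⟨swap (t a) c * t * (swap (t a) c)⁻¹, isConj_iff.2 ⟨swap (t a) c, rfl⟩, fun e => ?_, ?_⟩
    · have := congrArg (fun p : Perm α => p a) e
      simp only [Perm.mul_apply, Equiv.swap_inv, swap_apply_of_ne_of_ne ha.symm hca.symm, swap_apply_left] at this
      exact hcb this
    · refine Equiv.ext fun w => ?_
      simp only [Equiv.swap_inv, Perm.mul_apply, Perm.one_apply, swap_apply_def]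
      grind
  · push Not at h2
    obtain ⟨c, d, hca, hcb, hda, hdb, hcd⟩ : ∃ c d, c ≠ a ∧ c ≠ t a ∧ d ≠ a ∧ d ≠ t a ∧ c ≠ d := by
      have : 1 < (Finset.univ \ {a, t a} : Finset α).card := by
        rw [Finset.card_sdiff, Finset.inter_univ, Finset.card_univ]
        have := Finset.card_le_two (a := a) (b := t a)
        omega
      obtain ⟨c, hc, d, hd, hcd⟩ := Finset.one_lt_card.1 this
      simp at hc hd
      exact ⟨c, d, hc.1, hc.2, hd.1, hd.2, hcd⟩
    have htc := h2 c hca hcb
    have htd := h2 d hda hdb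
    set g := swap a c * swap (t a) d with hg
    have hts : t = swap a (t a) := Equiv.ext fun w => by
      by_cases w1 : w = a
      · rw [w1, swap_apply_left]
      by_cases w2 : w = t a
      · rw [w2, swap_apply_right, ht']
      rw [swap_apply_of_ne_of_ne w1 w2, h2 w w1 w2]
    have gy : g * t * g⁻¹ = swap c d := by
      conv_lhs => rw [hts]
      rw [mul_inv_eq_iff_eq_mul, Equiv.mul_swap_eq_swap_mul]
      congr 2
      · rw [hg, Perm.mul_apply, swap_apply_of_ne_of_ne ha.symm hda.symm, swap_apply_left]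
      · rw [hg, Perm.mul_apply, swap_apply_left, swap_apply_of_ne_of_ne hda hcd.symm]
    refine ⟨g * t * g⁻¹, isConj_iff.2 ⟨g, rfl⟩, fun e => ?_, ?_⟩
    · rw [gy] at e
      have := congrArg (fun p : Perm α => p a) e
      simp only [swap_apply_of_ne_of_ne hca.symm hda.symm] at this
      exact ha this.symm
    · rw [gy]
      have hcomm : Commute t (swap c d) := Perm.Disjoint.commute fun w => by
        by_cases w1 : w = c
        · left; rw [w1, htc]
        by_cases w2 : w = d
        · left; rw [w2, htd]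
        right; exact swap_apply_of_ne_of_ne w1 w2
      rw [mul_assoc, ← mul_assoc (swap c d), ← hcomm.eq, mul_assoc t, ← mul_assoc, ← mul_assoc, ht, one_mul,
        swap_mul_self]

/-- Connected, and of diameter two. -/
theorem connected_diam_two (h5 : 5 ≤ Fintype.card α) {t : Perm α} (ht : orderOf t = 2) :
    (SimpleGraph.fromRel fun x y : {x : Perm α // IsConj t x} => Odd (orderOf (x.1 * y.1))).Connected ∧
      (SimpleGraph.fromRel fun x y : {x : Perm α // IsConj t x} => Odd (orderOf (x.1 * y.1))).diam = 2 := by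
  set G := SimpleGraph.fromRel fun x y : {x : Perm α // IsConj t x} => Odd (orderOf (x.1 * y.1)) with hG
  have ht2 : t * t = 1 := by rw [← pow_two, ← ht, pow_orderOf_eq_one]
  have inv : ∀ x : {x : Perm α // IsConj t x}, x.1 * x.1 = 1 := fun x => by
    obtain ⟨g, hg⟩ := isConj_iff.1 x.2
    rw [← hg, show g * t * g⁻¹ * (g * t * g⁻¹) = g * (t * t) * g⁻¹ by group, ht2, mul_one, mul_inv_cancel]
  haveI : Nonempty {x : Perm α // IsConj t x} := ⟨⟨t, IsConj.refl t⟩⟩
  have adj : ∀ a b : {x : Perm α // IsConj t x}, a ≠ b → Odd (orderOf (a.1 * b.1)) → G.Adj a b :=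
    fun a b h1 h2 => (SimpleGraph.fromRel_adj _ _ _).2 ⟨h1, Or.inl h2⟩
  have hle : ∀ u v, G.edist u v ≤ 2 := by
    intro u v
    have hb : nFix u.1 Finset.univ = nFix v.1 Finset.univ := by
      rw [nFix_of_isConj u.2, nFix_of_isConj v.2]
    obtain ⟨z, hz, hzc, o1, o2⟩ := exists_common h5 (inv u) (inv v) hb
    let w : {x : Perm α // IsConj t x} := ⟨z, u.2.trans (isConj_of_nFix (inv u) hz hzc)⟩
    refine (G.edist_triangle (v := w)).trans ?_
    have one : ∀ a : {x : Perm α // IsConj t x}, Odd (orderOf (a.1 * z)) → G.edist a w ≤ 1 := by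
      intro a ha
      by_cases h : a = w
      · rw [h, SimpleGraph.edist_self]; exact zero_le_one
      · exact (SimpleGraph.edist_eq_one_iff_adj.2 (adj a w h ha)).le
    calc G.edist u w + G.edist w v ≤ 1 + 1 :=
          add_le_add (one u o1) (by rw [SimpleGraph.edist_comm]; exact one v o2)
      _ = 2 := one_add_one_eq_two
  obtain ⟨y, hy, hyt, hty⟩ := exists_commuting_conj (by omega) ht2 (fun e => by rw [e, orderOf_one] at ht; omega)
  have h2 : ∀ p : Perm α, p * p = 1 → p ≠ 1 → ¬ Odd (orderOf p) := fun p h1 h2 ho => by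
    have hd := orderOf_dvd_of_pow_eq_one (x := p) (n := 2) (by rw [pow_two, h1])
    rcases (Nat.dvd_prime Nat.prime_two).1 hd with h | h
    · exact h2 (orderOf_eq_one_iff.1 h)
    · rw [h] at ho; exact absurd ho (by decide)
  have hy2 : y * y = 1 := inv ⟨y, hy⟩
  have hne : t * y ≠ 1 := fun e => hyt (by
    rw [← one_mul y, ← ht2, mul_assoc, e, mul_one])
  set T : {x : Perm α // IsConj t x} := ⟨t, IsConj.refl t⟩
  set Y : {x : Perm α // IsConj t x} := ⟨y, hy⟩
  have hTY : T ≠ Y := fun e => hyt (congrArg Subtype.val e).symm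
  have hnadj : ¬ G.Adj T Y := by
    rw [hG, SimpleGraph.fromRel_adj]
    rintro ⟨-, h | h⟩
    · exact h2 _ hty hne h
    · refine h2 _ ?_ ?_ h
      · calc y * t * (y * t) = y * ((t * y) * (t * y)) * y⁻¹ := by group
          _ = 1 := by rw [hty, mul_one, mul_inv_cancel]
      · intro e
        exact hne (mul_eq_one_comm.1 e)
  have hed : G.ediam ≤ 2 := SimpleGraph.ediam_le_of_edist_le hle
  have hfin : G.ediam ≠ ⊤ := fun e => by rw [e] at hed; exact absurd hed (by decide)
  refine ⟨SimpleGraph.connected_of_ediam_ne_top hfin, ?_⟩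
  have hlow : 2 ≤ G.diam := by
    have h1 := G.dist_le_diam hfin (u := T) (v := Y)
    have h3 : G.dist T Y ≠ 0 := ((SimpleGraph.connected_of_ediam_ne_top hfin).pos_dist_of_ne hTY).ne'
    have h4 : G.dist T Y ≠ 1 := fun e => hnadj (SimpleGraph.dist_eq_one_iff_adj.1 e)
    omega
  have hhigh : G.diam ≤ 2 := by
    unfold SimpleGraph.diam
    have := ENat.toNat_le_toNat hed (by decide)
    simpa using this
  omega

end CfsgLib.OddProductInv
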