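import Cfsg.Agent.LocalEven49.OddProductUnits
import Cfsg.Agent.LocalEven49.OddProductFour
import Mathlib

/-!
# The odd-product graph on a class of involutions of a symmetric group has diameter two
-/

set_option autoImplicit false

namespace CfsgLib.OddProductInv

open Equiv Function

variable {α : Type*} [Fintype α] [DecidableEq α] {x y : Perm α}

theorem per_x (hx : ∀ a, x (x a) = a) (hy : ∀ a, y (y a) = a) (a : α) : per x y (x a) = per x y a := by
  have h : ∀ d : ℤ, (per x y (x a) : ℤ) ∣ d ↔ (per x y a : ℤ) ∣ d := by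
    intro d
    have e1 := zpow_eq_iff (x := x) (y := y) (x a) d 0
    have e2 := zpow_eq_iff (x := x) (y := y) a (-d) 0
    rw [sub_zero, zpow_zero, Perm.one_apply] at e1 e2
    rw [← e1, ← Int.dvd_neg, ← e2, show ((y * x) ^ d) (x a) = x (((y * x) ^ (-d)) a) by
      rw [x_zpow hx hy, neg_neg]]
    exact x.injective.eq_iff
  exact Nat.dvd_antisymm (Int.natCast_dvd_natCast.1 ((h _).2 dvd_rfl))
    (Int.natCast_dvd_natCast.1 ((h _).1 dvd_rfl))

theorem zpow_mem {U : Finset α} (hxU : ∀ a ∈ U, x a ∈ U) (hyU : ∀ a ∈ U, y a ∈ U) {a : α} (ha : a ∈ U)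
    (i : ℤ) : ((y * x) ^ i) a ∈ U := by
  obtain ⟨k, -, hk⟩ := exists_rep (x := x) (y := y) a i
  rw [hk, zpow_natCast]
  clear hk
  induction k with
  | zero => simpa using ha
  | succ k ih => rw [pow_succ', Perm.mul_apply, Perm.mul_apply]; exact hyU _ (hxU _ ih)

theorem orb_subset {U : Finset α} (hxU : ∀ a ∈ U, x a ∈ U) (hyU : ∀ a ∈ U, y a ∈ U) {a : α}
    (ha : a ∈ U) : orb x y a ⊆ U := by
  intro b hb
  obtain ⟨i, rfl⟩ := mem_orb.1 hb
  exact zpow_mem hxU hyU ha i

/-- Counting: a fixed point of `w` of even period needs one of `w'`. -/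
theorem exists_even_fixed {U : Finset α} (hxU : ∀ a ∈ U, x a ∈ U) (hyU : ∀ a ∈ U, y a ∈ U)
    {w w' : Perm α} (hbal : nFix w U = nFix w' U) (j : ℕ → ℕ)
    (hj : ∀ p, w' p = p → Odd (per x y p) →
      w (((y * x) ^ (j (per x y p) : ℤ)) p) = ((y * x) ^ (j (per x y p) : ℤ)) p)
    {q : α} (hqU : q ∈ U) (hq : w q = q) (hqe : Even (per x y q)) :
    ∃ p ∈ U, w' p = p ∧ Even (per x y p) := by
  by_contra! hall
  have hodd : ∀ p ∈ U, w' p = p → Odd (per x y p) := fun p hp hfix =>
    Nat.not_even_iff_odd.1 (hall p hp hfix)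
  have hle : (U.filter fun p => w' p = p).card ≤ ((U.filter fun p => w p = p).erase q).card := by
    refine Finset.card_le_card_of_injOn (fun p => ((y * x) ^ (j (per x y p) : ℤ)) p) ?_ ?_
    · intro p hp
      rw [Finset.mem_coe, Finset.mem_filter] at hp
      simp only [Finset.mem_coe, Finset.mem_erase, Finset.mem_filter]
      refine ⟨fun e => ?_, zpow_mem hxU hyU hp.1 _, hj p hp.2 (hodd p hp.1 hp.2)⟩
      have h1 := per_zpow (x := x) (y := y) p (j (per x y p) : ℤ)
      rw [e] at h1
      exact Nat.not_even_iff_odd.2 (hodd p hp.1 hp.2) (h1 ▸ hqe)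
    · intro p _ p' _ e
      simp only at e
      have h1 := per_zpow (x := x) (y := y) p (j (per x y p) : ℤ)
      rw [e, per_zpow] at h1
      rw [← h1] at e
      exact ((y * x) ^ (j (per x y p') : ℤ)).injective e
  have hmemq : q ∈ U.filter fun p => w p = p := Finset.mem_filter.2 ⟨hqU, hq⟩
  rw [Finset.card_erase_of_mem hmemq] at hle
  have hpos := Finset.card_pos.2 ⟨q, hmemq⟩
  unfold nFix at hbal
  omega

/-- The induction. -/
theorem sol_or_four (hx : ∀ a, x (x a) = a) (hy : ∀ a, y (y a) = a) (U : Finset α)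
    (hxU : ∀ a ∈ U, x a ∈ U) (hyU : ∀ a ∈ U, y a ∈ U) (hbal : nFix x U = nFix y U) :
    Sol x y U ∨ ∃ a, C4 x y U a := by
  induction U using Finset.strongInduction with
  | _ U IH =>
    -- the rest after removing a closed part
    have split : ∀ U₁ ⊆ U, U₁.Nonempty → (∀ a ∈ U₁, x a ∈ U₁ ∧ y a ∈ U₁) → nFix x U₁ = nFix y U₁ →
        (∀ a ∈ U \ U₁, x a ∈ U \ U₁) ∧ (∀ a ∈ U \ U₁, y a ∈ U \ U₁) ∧
          nFix x (U \ U₁) = nFix y (U \ U₁) ∧ (Sol x y (U \ U₁) ∨ ∃ a, C4 x y (U \ U₁) a) := by
      intro U₁ hsub hne hcl hb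
      have c1 : ∀ a ∈ U \ U₁, x a ∈ U \ U₁ := fun a ha => by
        rw [Finset.mem_sdiff] at ha ⊢
        exact ⟨hxU a ha.1, fun h => ha.2 (by rw [← hx a]; exact (hcl _ h).1)⟩
      have c2 : ∀ a ∈ U \ U₁, y a ∈ U \ U₁ := fun a ha => by
        rw [Finset.mem_sdiff] at ha ⊢
        exact ⟨hyU a ha.1, fun h => ha.2 (by rw [← hy a]; exact (hcl _ h).2)⟩
      have c3 : nFix x (U \ U₁) = nFix y (U \ U₁) := by
        have e : U₁ ∪ U \ U₁ = U := Finset.union_sdiff_of_subset hsub
        rw [← e, nFix_union _ Finset.disjoint_sdiff, nFix_union _ Finset.disjoint_sdiff] at hbal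
        omega
      exact ⟨c1, c2, c3, IH _ (Finset.sdiff_ssubset hsub hne) c1 c2 c3⟩
    -- gluing a solved part to the rest
    have glue : ∀ U₁ ⊆ U, U₁.Nonempty → (∀ a ∈ U₁, x a ∈ U₁ ∧ y a ∈ U₁) → nFix x U₁ = nFix y U₁ →
        Sol x y U₁ → nFix x U₁ < U₁.card → Sol x y U := by
      intro U₁ hsub hne hcl hb hsol hmov
      obtain ⟨c1, c2, -, h⟩ := split U₁ hsub hne hcl hb
      rw [← Finset.sdiff_union_of_subset hsub]
      rcases h with h | ⟨a, h⟩
      · exact sol_union Finset.sdiff_disjoint c1 c2 (fun a ha => (hcl a ha).1) (fun a ha => (hcl a ha).2) h hsol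
      · exact h.sol_insert hx hy Finset.sdiff_disjoint (fun a ha => (hcl a ha).1) (fun a ha => (hcl a ha).2)
          hsol hmov
    by_cases hall : ∀ a ∈ U, Odd (per x y a)
    · left
      refine sol_of_conj hx hxU 1 (fun _ _ => rfl) fun z hz => ?_
      have hzx : ∀ a ∈ U, z a = x a := fun a ha => hz a ha
      intro a ha
      refine ⟨OddPer.of_fixed (show x (z a) = a by rw [hzx a ha, hx]), ?_⟩
      exact OddPer.congr (g := ⇑(y * x)) (fun t ht => by rw [Perm.mul_apply, hzx t ht])
        (fun t ht => hyU _ (hxU _ ht)) ha ((oddPer_iff a).2 (hall a ha))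
    push Not at hall
    obtain ⟨a, haU, hae⟩ := hall
    rw [Nat.not_odd_iff_even] at hae
    by_cases hfix : ∃ q ∈ U, Even (per x y q) ∧ (x q = q ∨ y q = q)
    · -- an orbit with fixed points
      obtain ⟨p, q, hpU, hqU, hyp, hxq, hpe, hqe⟩ : ∃ p q, p ∈ U ∧ q ∈ U ∧ y p = p ∧ x q = q ∧
          Even (per x y p) ∧ Even (per x y q) := by
        obtain ⟨q, hqU, hqe, hq | hq⟩ := hfix
        · obtain ⟨p, hp, hp1, hp2⟩ := exists_even_fixed hxU hyU (w := x) (w' := y) hbal
            (fun m => (m - 1) / 2) (fun p hp ho => by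
              have hxp : x p = ((y * x) ^ (-1 : ℤ)) p := by
                rw [zpow_neg_one, eq_comm, Perm.inv_eq_iff_eq, Perm.mul_apply, hx, hp]
              obtain ⟨c, hc⟩ := ho
              rw [x_zpow hx hy, hxp, ← Perm.mul_apply, ← zpow_add, zpow_eq_iff]
              exact ⟨-1, by rw [hc, show (2 * c + 1 - 1) / 2 = c by omega]; push_cast; ring⟩) hqU hq hqe
          exact ⟨p, q, hp, hqU, hp1, hq, hp2, hqe⟩
        · obtain ⟨p, hp, hp1, hp2⟩ := exists_even_fixed hxU hyU (w := y) (w' := x) hbal.symm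
            (fun m => (m + 1) / 2) (fun p hp ho => by
              obtain ⟨c, hc⟩ := ho
              rw [y_zpow hx hy, show y p = (y * x) p by rw [Perm.mul_apply, hp], ← Perm.mul_apply,
                ← zpow_add_one, zpow_eq_iff]
              exact ⟨-1, by rw [hc, show (2 * c + 1 + 1) / 2 = c + 1 by omega]; push_cast; ring⟩) hqU hq hqe
          exact ⟨q, p, hqU, hp, hq, hp1, hqe, hp2⟩
      refine Or.inl (glue (orb x y p ∪ orb x y q)
        (Finset.union_subset (orb_subset hxU hyU hpU) (orb_subset hxU hyU hqU))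
        ⟨p, Finset.mem_union_left _ (self_mem_orb p)⟩ (fun b hb => ?_)
        (heavy_balance hx hy hyp hxq hpe hqe) (sol_heavy hx hy hyp hxq hpe hqe)
        (nFix_lt_card (Finset.mem_union_left _ (self_mem_orb p))
          (x_moves_p_orbit hx hy hyp hpe (self_mem_orb p)).1))
      rcases Finset.mem_union.1 hb with hb | hb
      · exact ⟨Finset.mem_union_left _ (x_moves_p_orbit hx hy hyp hpe hb).2.1,
          Finset.mem_union_left _ (x_moves_p_orbit hx hy hyp hpe hb).2.2⟩
      · exact ⟨Finset.mem_union_right _ (q_orbit hx hy hxq hqe hb).2.1,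
          Finset.mem_union_right _ (q_orbit hx hy hxq hqe hb).2.2⟩
    push Not at hfix
    set U₁ := orb x y a ∪ orb x y (x a) with hU₁
    have hsub : U₁ ⊆ U := Finset.union_subset (orb_subset hxU hyU haU) (orb_subset hxU hyU (hxU a haU))
    have hfree : ∀ b ∈ U₁, x b ≠ b ∧ y b ≠ b := fun b hb => by
      refine hfix b (hsub hb) ?_
      rcases Finset.mem_union.1 hb with h | h <;> obtain ⟨i, rfl⟩ := mem_orb.1 h <;> rw [per_zpow]
      · exact hae
      · rwa [per_x hx hy]
    have hne : U₁.Nonempty := ⟨a, Finset.mem_union_left _ (self_mem_orb a)⟩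
    have hcl : ∀ b ∈ U₁, x b ∈ U₁ ∧ y b ∈ U₁ := fun b hb => free_closed hx hy hb
    have hzero : nFix x U₁ = 0 ∧ nFix y U₁ = 0 := by
      constructor <;> rw [nFix, Finset.filter_false_of_mem, Finset.card_empty] <;> intro b hb
      exacts [(hfree b hb).1, (hfree b hb).2]
    have hb1 : nFix x U₁ = nFix y U₁ := hzero.1.trans hzero.2.symm
    have hmov : nFix x U₁ < U₁.card := by rw [hzero.1]; exact Finset.card_pos.2 hne
    rcases Nat.lt_or_ge (per x y a) 3 with h2 | h3
    swap
    · exact Or.inl (glue U₁ hsub hne hcl hb1 (sol_free hx hy hfree hae h3) hmov)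
    -- four points
    have hm : per x y a = 2 := by have := per_pos (x := x) (y := y) a; obtain ⟨c, hc⟩ := hae; omega
    have hC : C4 x y U₁ a := by
      have hm' : per x y (x a) = 2 := (per_x hx hy a).trans hm
      have r1 : ((y * x) ^ (1 : ℤ)) a = y (x a) := by rw [zpow_one, Perm.mul_apply]
      have r1' : ((y * x) ^ (1 : ℤ)) (x a) = y a := by rw [zpow_one, Perm.mul_apply, hx]
      refine ⟨Finset.ext fun b => ?_, ?_, (hfree a (Finset.mem_union_left _ (self_mem_orb a))).1,
        (hfree a (Finset.mem_union_left _ (self_mem_orb a))).2, fun e => ?_⟩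
      · simp only [Finset.mem_insert, Finset.mem_singleton]
        constructor
        · intro hb
          rcases Finset.mem_union.1 hb with h | h <;> obtain ⟨k, hk, rfl⟩ := exists_nat_of_mem_orb h
          · rw [hm] at hk
            rcases (show k = 0 ∨ k = 1 by omega) with rfl | rfl
            · left; simp
            · right; right; right; rw [← r1]; rfl
          · rw [hm'] at hk
            rcases (show k = 0 ∨ k = 1 by omega) with rfl | rfl
            · right; left; simp
            · right; right; left; rw [← r1']; rfl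
        · intro hb
          rcases hb with hb | hb | hb | hb <;> rw [hb]
          · exact Finset.mem_union_left _ (self_mem_orb a)
          · exact Finset.mem_union_right _ (self_mem_orb _)
          · exact Finset.mem_union_right _ (mem_orb.2 ⟨1, r1'⟩)
          · exact Finset.mem_union_left _ (mem_orb.2 ⟨1, r1⟩)
      · have h1 : ((y * x) ^ (-1 : ℤ)) a = ((y * x) ^ (1 : ℤ)) a := by
          rw [zpow_eq_iff, hm]; exact ⟨-1, by norm_num⟩
        rw [r1, zpow_neg_one] at h1
        rw [← h1, eq_comm, Perm.inv_eq_iff_eq, Perm.mul_apply, hx, hy]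
      · have h1 : ((y * x) ^ (1 : ℤ)) a = ((y * x) ^ (0 : ℤ)) a := by
          rw [r1, zpow_zero, Perm.one_apply, e, hy]
        rw [zpow_eq_iff, hm] at h1
        norm_num at h1
    obtain ⟨c1, c2, c3, hrest⟩ := split U₁ hsub hne hcl hb1
    have he : U₁ ∪ U \ U₁ = U := Finset.union_sdiff_of_subset hsub
    by_cases hV : nFix x (U \ U₁) < (U \ U₁).card
    · rcases hrest with h | ⟨c, h⟩
      · exact Or.inl (he ▸ hC.sol_insert hx hy Finset.disjoint_sdiff c1 c2 h hV)
      · exact Or.inl (he ▸ hC.sol_two hx hy h Finset.disjoint_sdiff)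
    have hcx : nFix x (U \ U₁) = (U \ U₁).card := le_antisymm (Finset.card_filter_le _ _) (not_lt.1 hV)
    have fx : ∀ b ∈ U \ U₁, x b = b := Finset.card_filter_eq_iff.1 hcx
    have fy : ∀ b ∈ U \ U₁, y b = b := Finset.card_filter_eq_iff.1 (c3.symm.trans hcx)
    rcases (U \ U₁).eq_empty_or_nonempty with hempty | ⟨p, hp⟩
    · exact Or.inr ⟨a, by rwa [← he, hempty, Finset.union_empty]⟩
    left
    have hp' := Finset.mem_sdiff.1 hp
    have e2 : insert p U₁ ∪ (U \ U₁).erase p = U := by
      rw [Finset.insert_union, ← Finset.union_insert, Finset.insert_erase hp, he]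
    rw [← e2]
    refine sol_union ?_ ?_ ?_ ?_ ?_ (hC.sol_point hx hy hp'.2 (fx p hp) (fy p hp))
      (sol_of_fixed (fun b hb => fx b (Finset.mem_of_mem_erase hb)) fun b hb => fy b (Finset.mem_of_mem_erase hb))
    · refine Finset.disjoint_left.2 fun b h1 h2 => ?_
      rcases Finset.mem_insert.1 h1 with rfl | h1
      · exact Finset.notMem_erase _ _ h2
      · exact (Finset.mem_sdiff.1 (Finset.mem_of_mem_erase h2)).2 h1
    · intro b hb
      rcases Finset.mem_insert.1 hb with rfl | hb
      · rw [fx _ hp]; exact Finset.mem_insert_self _ _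
      · exact Finset.mem_insert_of_mem (hcl b hb).1
    · intro b hb
      rcases Finset.mem_insert.1 hb with rfl | hb
      · rw [fy _ hp]; exact Finset.mem_insert_self _ _
      · exact Finset.mem_insert_of_mem (hcl b hb).2
    · exact fun b hb => by rwa [fx b (Finset.mem_of_mem_erase hb)]
    · exact fun b hb => by rwa [fy b (Finset.mem_of_mem_erase hb)]

/-- Common neighbours exist. -/
theorem exists_common (h5 : 5 ≤ Fintype.card α) (hx : x * x = 1) (hy : y * y = 1)
    (hbal : nFix x Finset.univ = nFix y Finset.univ) :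
    ∃ z : Perm α, z * z = 1 ∧ nFix z Finset.univ = nFix x Finset.univ ∧ Odd (orderOf (x * z)) ∧
      Odd (orderOf (y * z)) := by
  have hx' : ∀ a, x (x a) = a := fun a => congrArg (fun p : Perm α => p a) hx
  have hy' : ∀ a, y (y a) = a := fun a => congrArg (fun p : Perm α => p a) hy
  rcases sol_or_four hx' hy' Finset.univ (fun a _ => Finset.mem_univ _) (fun a _ => Finset.mem_univ _) hbal
    with ⟨z, h1, -, h2, h3⟩ | ⟨a, h⟩
  · exact ⟨z, Equiv.ext h1, h2, odd_orderOf _ fun a => (h3 a (Finset.mem_univ _)).1,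
      odd_orderOf _ fun a => (h3 a (Finset.mem_univ _)).2⟩
  · have := congrArg Finset.card h.eq
    rw [Finset.card_univ] at this
    have := (Finset.card_le_four (a := a) (b := x a) (c := y a) (d := y (x a)))
    omega

end CfsgLib.OddProductInv
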