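import Cfsg.Agent.LocalEven49.OddProductBasic

/-!
# Common odd-product neighbours of two involutions: the local units

A pair of even orbits carrying fixed points, a free orbit pair of period at least three, and the
small configurations around a four-point orbit.
-/

set_option autoImplicit false

namespace CfsgLib.OddProductInv

open Equiv Function

variable {α : Type*} [Fintype α] [DecidableEq α] {x y : Perm α}

open Classical in
/-- The orbit of `a` under `y * x`. -/
noncomputable def orb (x y : Perm α) (a : α) : Finset α :=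
  Finset.univ.filter fun b => ∃ i : ℤ, ((y * x) ^ i) a = b

theorem mem_orb {a b : α} : b ∈ orb x y a ↔ ∃ i : ℤ, ((y * x) ^ i) a = b := by
  classical
  simp [orb]

theorem self_mem_orb (a : α) : a ∈ orb x y a := mem_orb.2 ⟨0, by simp⟩

theorem exists_nat_of_mem_orb {a b : α} (h : b ∈ orb x y a) :
    ∃ k : ℕ, k < per x y a ∧ b = ((y * x) ^ (k : ℤ)) a := by
  obtain ⟨i, rfl⟩ := mem_orb.1 h
  exact exists_rep a i

theorem zpow_ne {a : α} {i j : ℤ} (h : ¬ (per x y a : ℤ) ∣ i - j) :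
    ((y * x) ^ i) a ≠ ((y * x) ^ j) a := fun e => h ((zpow_eq_iff a i j).1 e)

theorem not_dvd_of_bounds {m : ℕ} {d : ℤ} (h0 : d ≠ 0) (h1 : -(m : ℤ) < d) (h2 : d < m) :
    ¬ (m : ℤ) ∣ d := fun h => h0 (Int.eq_zero_of_dvd_of_natAbs_lt_natAbs h (by omega))

section Heavy

variable (hx : ∀ a, x (x a) = a) (hy : ∀ a, y (y a) = a) {p q : α} (hyp : y p = p) (hxq : x q = q)
  (hpe : Even (per x y p)) (hqe : Even (per x y q))
include hx hy hyp hxq hpe hqe

omit hxq hqe in
theorem x_moves_p_orbit {b : α} (hb : b ∈ orb x y p) : x b ≠ b ∧ x b ∈ orb x y p ∧ y b ∈ orb x y p := by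
  obtain ⟨i, rfl⟩ := mem_orb.1 hb
  have hxp : x p = ((y * x) ^ (-1 : ℤ)) p := by
    rw [zpow_neg_one, eq_comm, Perm.inv_eq_iff_eq, Perm.mul_apply, hx, hyp]
  have e : x (((y * x) ^ i) p) = ((y * x) ^ (-i + -1)) p := by
    rw [x_zpow hx hy, hxp, zpow_add, Perm.mul_apply]
  refine ⟨?_, mem_orb.2 ⟨_, e.symm⟩, mem_orb.2 ⟨-i, by rw [y_zpow hx hy, hyp]⟩⟩
  rw [e]
  refine zpow_ne fun hd => ?_
  obtain ⟨c, hc⟩ := hpe
  have h2 : (2 : ℤ) ∣ -i + -1 - i := (Dvd.intro (c : ℤ) (by rw [hc]; push_cast; ring)).trans hd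
  omega

omit hyp hpe in
theorem q_orbit {b : α} (hb : b ∈ orb x y q) : y b ≠ b ∧ x b ∈ orb x y q ∧ y b ∈ orb x y q := by
  obtain ⟨i, rfl⟩ := mem_orb.1 hb
  have hyq : y q = ((y * x) ^ (1 : ℤ)) q := by rw [zpow_one, Perm.mul_apply, hxq]
  have e : y (((y * x) ^ i) q) = ((y * x) ^ (-i + 1)) q := by
    rw [y_zpow hx hy, hyq, zpow_add, Perm.mul_apply]
  refine ⟨?_, mem_orb.2 ⟨-i, by rw [x_zpow hx hy, hxq]⟩, mem_orb.2 ⟨_, e.symm⟩⟩
  rw [e]
  refine zpow_ne fun hd => ?_
  obtain ⟨c, hc⟩ := hqe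
  have h2 : (2 : ℤ) ∣ -i + 1 - i := (Dvd.intro (c : ℤ) (by rw [hc]; push_cast; ring)).trans hd
  omega

theorem heavy_disjoint : Disjoint (orb x y p) (orb x y q) := by
  refine Finset.disjoint_left.2 fun b hbp hbq => ?_
  obtain ⟨i, rfl⟩ := mem_orb.1 hbp
  obtain ⟨j, hj⟩ := mem_orb.1 hbq
  refine (q_orbit hx hy hxq hqe (b := p) (mem_orb.2 ⟨-i + j, ?_⟩)).1 hyp
  rw [zpow_add, Perm.mul_apply, hj, ← Perm.mul_apply, ← zpow_add, neg_add_cancel, zpow_zero,
    Perm.one_apply]

/-- The fixed points of `x` in the pair of orbits are `q` and its antipode. -/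
theorem heavy_balance : nFix x (orb x y p ∪ orb x y q) = nFix y (orb x y p ∪ orb x y q) := by
  have hd := heavy_disjoint hx hy hyp hxq hpe hqe
  rw [nFix_union _ hd, nFix_union _ hd]
  have two : ∀ (w : Perm α) (c : α), Even (per x y c) →
      (∀ i : ℤ, w (((y * x) ^ i) c) = ((y * x) ^ (-i)) c) → nFix w (orb x y c) = 2 := by
    intro w c hce hw
    obtain ⟨k, hk⟩ := hce
    have hpos := per_pos (x := x) (y := y) c
    have h1 : ((y * x) ^ (0 : ℤ)) c ≠ ((y * x) ^ (k : ℤ)) c :=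
      zpow_ne (not_dvd_of_bounds (by omega) (by omega) (by omega))
    have e : (orb x y c).filter (fun a => w a = a) =
        {((y * x) ^ (0 : ℤ)) c, ((y * x) ^ (k : ℤ)) c} := by
      ext b
      simp only [Finset.mem_filter, Finset.mem_insert, Finset.mem_singleton]
      constructor
      · rintro ⟨hb, hwb⟩
        obtain ⟨j, hj, rfl⟩ := exists_nat_of_mem_orb hb
        rw [hw, zpow_eq_iff] at hwb
        obtain ⟨t, ht⟩ := hwb
        rcases Nat.lt_trichotomy j 0 with h | h | h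
        · omega
        · left; rw [h]; rfl
        · right
          have : (j : ℤ) = k := by
            rw [hk] at ht hj
            push_cast at ht
            have ht1 : t < 0 := by nlinarith
            have ht2 : -2 < t := by nlinarith
            have : t = -1 := by omega
            subst this
            omega
          rw [this]
      · intro hb
        rcases hb with hb | hb <;> rw [hb]
        · exact ⟨mem_orb.2 ⟨0, rfl⟩, by rw [hw, neg_zero]⟩
        · refine ⟨mem_orb.2 ⟨k, rfl⟩, ?_⟩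
          rw [hw, zpow_eq_iff, hk]
          exact ⟨-1, by push_cast; ring⟩
    rw [nFix, e, Finset.card_pair h1]
  have zero : ∀ (w : Perm α) (c : α), (∀ b ∈ orb x y c, w b ≠ b) → nFix w (orb x y c) = 0 :=
    fun w c h => by rw [nFix, Finset.filter_false_of_mem h, Finset.card_empty]
  rw [zero x p fun b hb => (x_moves_p_orbit hx hy hyp hpe hb).1,
    two x q hqe fun i => by rw [x_zpow hx hy, hxq],
    two y p hpe fun i => by rw [y_zpow hx hy, hyp],
    zero y q fun b hb => (q_orbit hx hy hxq hqe hb).1]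

/-- An `x`-heavy and a `y`-heavy orbit are solved by conjugating with a transposition. -/
theorem sol_heavy : Sol x y (orb x y p ∪ orb x y q) := by
  set u := per x y p with hu
  set v := per x y q with hv
  have hu2 : 2 ≤ u := by have := per_pos (x := x) (y := y) p; obtain ⟨c, hc⟩ := hpe; omega
  have hv2 : 2 ≤ v := by have := per_pos (x := x) (y := y) q; obtain ⟨c, hc⟩ := hqe; omega
  have hd := heavy_disjoint hx hy hyp hxq hpe hqe
  set U := orb x y p ∪ orb x y q with hU
  have hUx : ∀ a ∈ U, x a ∈ U := fun a ha => by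
    rcases Finset.mem_union.1 ha with h | h
    · exact Finset.mem_union_left _ (x_moves_p_orbit hx hy hyp hpe h).2.1
    · exact Finset.mem_union_right _ (q_orbit hx hy hxq hqe h).2.1
  have hp := self_mem_orb (x := x) (y := y) p
  have hq := self_mem_orb (x := x) (y := y) q
  have hxp : x p ∈ orb x y p := (x_moves_p_orbit hx hy hyp hpe hp).2.1
  have hne : ∀ {a b : α}, a ∈ orb x y p → b ∈ orb x y q → a ≠ b := fun ha hb e =>
    Finset.disjoint_left.1 hd ha (e ▸ hb)
  have hpq : p ≠ q := hne hp hq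
  have hxpp : x p ≠ p := (x_moves_p_orbit hx hy hyp hpe hp).1
  have hxpq : x p ≠ q := hne hxp hq
  refine sol_of_conj hx hUx (swap p q) (fun a ha => ?_) fun z hz => ?_
  · simp only [hU, Finset.mem_union, not_or] at ha
    exact swap_apply_of_ne_of_ne (fun e => ha.1 (e ▸ hp)) fun e => ha.2 (e ▸ hq)
  have z1 : z p = p := by
    have := hz q (Finset.mem_union_right _ hq)
    rwa [swap_apply_right, hxq, swap_apply_right] at this
  have z2 : z q = x p := by
    have := hz p (Finset.mem_union_left _ hp)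
    rwa [swap_apply_left, swap_apply_of_ne_of_ne hxpp hxpq] at this
  have z3 : z (x p) = q := by
    have := hz (x p) (hUx p (Finset.mem_union_left _ hp))
    rwa [swap_apply_of_ne_of_ne hxpp hxpq, hx, swap_apply_left] at this
  have z4 : ∀ a ∈ U, a ≠ p → a ≠ q → a ≠ x p → z a = x a := by
    intro a ha h1 h2 h3
    have := hz a ha
    rwa [swap_apply_of_ne_of_ne h1 h2,
      swap_apply_of_ne_of_ne (fun e => h3 (by rw [← e, hx])) (fun e => h2 (by rw [← hx a, e, hxq]))] at this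
  intro a ha
  refine ⟨?_, ?_⟩
  · -- `x * z` has one 3-cycle
    have c3 : OddPer (fun t => x (z t)) p := ⟨3, by decide, by
      show x (z (x (z (x (z p))))) = p
      rw [z1, z3, hxq, z2, hx]⟩
    by_cases h1 : a = p
    · rw [h1]; exact c3
    by_cases h3 : a = x p
    · rw [h3]
      have := c3.apply
      simp only [z1] at this
      exact this
    by_cases h2 : a = q
    · rw [h2]
      have := c3.apply.apply
      simp only [z1, z3, hxq] at this
      exact this
    exact OddPer.of_fixed (show x (z a) = a by rw [z4 a ha h1 h2 h3, hx])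
  · -- `y * z` joins the two orbits
    set f := fun t => y (z t) with hf
    have gen : ∀ b ∈ U, b ≠ p → b ≠ q → b ≠ x p → f b = (y * x) b := fun b hb h1 h2 h3 => by
      show y (z b) = _
      rw [z4 b hb h1 h2 h3, Perm.mul_apply]
    have hxp' : x p = ((y * x) ^ ((u - 1 : ℕ) : ℤ)) p := by
      have e : x p = ((y * x) ^ (-1 : ℤ)) p := by
        rw [zpow_neg_one, eq_comm, Perm.inv_eq_iff_eq, Perm.mul_apply, hx, hyp]
      rw [e, zpow_eq_iff, ← hu]
      exact ⟨-1, by push_cast [Nat.cast_sub (by omega : 1 ≤ u)]; ring⟩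
    have succ : ∀ (c : α) (i : ℕ), ((y * x) ^ ((i + 1 : ℕ) : ℤ)) c = (y * x) (((y * x) ^ (i : ℤ)) c) :=
      fun c i => by rw [zpow_natCast, zpow_natCast, pow_succ', Perm.mul_apply]
    have chainP : ∀ k, 1 + k ≤ u - 1 →
        f^[k] (((y * x) ^ ((1 : ℕ) : ℤ)) p) = ((y * x) ^ ((1 + k : ℕ) : ℤ)) p :=
      iterate_chain fun i h1 h2 => by
        have hi : ((y * x) ^ (i : ℤ)) p ∈ orb x y p := mem_orb.2 ⟨_, rfl⟩
        rw [succ, gen _ (Finset.mem_union_left _ hi) ?_ (hne hi hq) ?_]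
        · intro e
          have e' : ((y * x) ^ (i : ℤ)) p = ((y * x) ^ (0 : ℤ)) p := by rw [e, zpow_zero, Perm.one_apply]
          exact zpow_ne (not_dvd_of_bounds (by omega) (by omega) (by omega)) e'
        · rw [hxp']
          exact zpow_ne (not_dvd_of_bounds (by omega) (by omega) (by omega))
    have chainQ : ∀ k, 1 + k ≤ v →
        f^[k] (((y * x) ^ ((1 : ℕ) : ℤ)) q) = ((y * x) ^ ((1 + k : ℕ) : ℤ)) q :=
      iterate_chain fun i h1 h2 => by
        have hi : ((y * x) ^ (i : ℤ)) q ∈ orb x y q := mem_orb.2 ⟨_, rfl⟩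
        rw [succ, gen _ (Finset.mem_union_right _ hi) (hne hp hi).symm ?_ (hne hxp hi).symm]
        intro e
        have e' : ((y * x) ^ (i : ℤ)) q = ((y * x) ^ (0 : ℤ)) q := by rw [e, zpow_zero, Perm.one_apply]
        exact zpow_ne (not_dvd_of_bounds (by omega) (by omega) (by omega)) e'
    have s1 : f q = ((y * x) ^ ((1 : ℕ) : ℤ)) p := by
      show y (z q) = _
      rw [z2, Nat.cast_one, zpow_one, Perm.mul_apply]
    have s2 : f (x p) = ((y * x) ^ ((1 : ℕ) : ℤ)) q := by
      show y (z (x p)) = _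
      rw [z3, Nat.cast_one, zpow_one, Perm.mul_apply, hxq]
    have toP : ∀ k, 1 + k ≤ u - 1 → f^[k + 1] q = ((y * x) ^ ((1 + k : ℕ) : ℤ)) p := fun k hk => by
      rw [iterate_succ_apply, s1, chainP k hk]
    have toQ : ∀ k, 1 + k ≤ v → f^[k + 1 + (u - 1)] q = ((y * x) ^ ((1 + k : ℕ) : ℤ)) q := fun k hk => by
      have h := toP (u - 2) (by omega)
      rw [show u - 2 + 1 = u - 1 by omega, show 1 + (u - 2) = u - 1 by omega, ← hxp'] at h
      rw [iterate_add_apply, h, iterate_succ_apply, s2, chainQ k hk]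
    have hcyc : OddPer f q := ⟨(v - 1) + 1 + (u - 1), by
      obtain ⟨c, hc⟩ := hpe; obtain ⟨d, hd⟩ := hqe; rw [Nat.odd_iff]; omega, by
      rw [toQ (v - 1) (by omega), show 1 + (v - 1) = v by omega]
      nth_rewrite 2 [show q = ((y * x) ^ (0 : ℤ)) q by rw [zpow_zero, Perm.one_apply]]
      rw [zpow_eq_iff, sub_zero]⟩
    rcases Finset.mem_union.1 ha with h | h <;> obtain ⟨k, hk, rfl⟩ := exists_nat_of_mem_orb h
    · rcases Nat.eq_zero_or_pos k with rfl | hk0
      · rw [Nat.cast_zero, zpow_zero, Perm.one_apply]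
        exact OddPer.of_fixed (show y (z p) = p by rw [z1, hyp])
      · obtain ⟨j, rfl⟩ : ∃ j, k = 1 + j := ⟨k - 1, by omega⟩
        rw [← toP j (by omega)]
        exact hcyc.iterate _
    · rcases Nat.eq_zero_or_pos k with rfl | hk0
      · rw [Nat.cast_zero, zpow_zero, Perm.one_apply]; exact hcyc
      · obtain ⟨j, rfl⟩ : ∃ j, k = 1 + j := ⟨k - 1, by omega⟩
        rw [← toQ j (by omega)]
        exact hcyc.iterate _

end Heavy

section Free

variable (hx : ∀ a, x (x a) = a) (hy : ∀ a, y (y a) = a) {a : α}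
include hx hy

theorem free_map (i : ℤ) :
    x (((y * x) ^ i) a) = ((y * x) ^ (-i)) (x a) ∧ x (((y * x) ^ i) (x a)) = ((y * x) ^ (-i)) a ∧
      y (((y * x) ^ i) a) = ((y * x) ^ (1 - i)) (x a) ∧
      y (((y * x) ^ i) (x a)) = ((y * x) ^ (1 - i)) a := by
  refine ⟨x_zpow hx hy i a, by rw [x_zpow hx hy, hx], ?_, ?_⟩
  · rw [y_zpow hx hy, show y a = (y * x) (x a) by rw [Perm.mul_apply, hx], ← Perm.mul_apply,
      ← zpow_add_one, show -i + 1 = 1 - i by ring]
  · rw [y_zpow hx hy, show y (x a) = (y * x) a from rfl, ← Perm.mul_apply, ← zpow_add_one,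
      show -i + 1 = 1 - i by ring]

theorem free_closed {b : α} (hb : b ∈ orb x y a ∪ orb x y (x a)) :
    x b ∈ orb x y a ∪ orb x y (x a) ∧ y b ∈ orb x y a ∪ orb x y (x a) := by
  rcases Finset.mem_union.1 hb with h | h <;> obtain ⟨i, rfl⟩ := mem_orb.1 h
  · exact ⟨Finset.mem_union_right _ (mem_orb.2 ⟨-i, (free_map hx hy i).1.symm⟩),
      Finset.mem_union_right _ (mem_orb.2 ⟨1 - i, (free_map hx hy i).2.2.1.symm⟩)⟩
  · exact ⟨Finset.mem_union_left _ (mem_orb.2 ⟨-i, (free_map hx hy i).2.1.symm⟩),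
      Finset.mem_union_left _ (mem_orb.2 ⟨1 - i, (free_map hx hy i).2.2.2.symm⟩)⟩

variable (hfree : ∀ b ∈ orb x y a ∪ orb x y (x a), x b ≠ b ∧ y b ≠ b)
include hfree

theorem free_disjoint : Disjoint (orb x y a) (orb x y (x a)) := by
  refine Finset.disjoint_left.2 fun b hb hb' => ?_
  obtain ⟨i, rfl⟩ := mem_orb.1 hb
  obtain ⟨j, hj⟩ := mem_orb.1 hb'
  have hk : x a = ((y * x) ^ (-j + i)) a := by
    rw [zpow_add, Perm.mul_apply, ← hj, ← Perm.mul_apply, ← zpow_add, neg_add_cancel, zpow_zero,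
      Perm.one_apply]
  set k := -j + i
  have hmem : ∀ l : ℤ, ((y * x) ^ l) a ∈ orb x y a ∪ orb x y (x a) := fun l =>
    Finset.mem_union_left _ (mem_orb.2 ⟨l, rfl⟩)
  rcases Int.even_or_odd' k with ⟨l, hl | hl⟩
  · refine (hfree _ (hmem l)).1 ?_
    rw [(free_map hx hy l).1, hk, ← Perm.mul_apply, ← zpow_add, hl, show -l + 2 * l = l by ring]
  · refine (hfree _ (hmem (l + 1))).2 ?_
    rw [(free_map hx hy (l + 1)).2.2.1, hk, ← Perm.mul_apply, ← zpow_add, hl,
      show 1 - (l + 1) + (2 * l + 1) = l + 1 by ring]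

/-- A free orbit pair of even period at least three. -/
theorem sol_free (he : Even (per x y a)) (hm : 3 ≤ per x y a) : Sol x y (orb x y a ∪ orb x y (x a)) := by
  set m := per x y a with hmdef
  have hmb : per x y (x a) = m := by
    have h : ∀ d : ℤ, (per x y (x a) : ℤ) ∣ d ↔ (m : ℤ) ∣ d := by
      intro d
      have e1 := zpow_eq_iff (x := x) (y := y) (x a) d 0
      have e2 := zpow_eq_iff (x := x) (y := y) a (-d) 0
      rw [sub_zero, zpow_zero, Perm.one_apply] at e1 e2
      rw [← e1, hmdef, ← Int.dvd_neg, ← e2, show ((y * x) ^ d) (x a) = x (((y * x) ^ (-d)) a) by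
        rw [x_zpow hx hy, neg_neg]]
      exact x.injective.eq_iff
    exact Nat.dvd_antisymm (Int.natCast_dvd_natCast.1 ((h _).2 dvd_rfl))
      (Int.natCast_dvd_natCast.1 ((h _).1 dvd_rfl))
  set A : ℕ → α := fun i => ((y * x) ^ (i : ℤ)) a with hA
  set B : ℕ → α := fun i => ((y * x) ^ (i : ℤ)) (x a) with hB
  have hd := free_disjoint hx hy hfree
  have hAm : ∀ i, A i ∈ orb x y a := fun i => mem_orb.2 ⟨_, rfl⟩
  have hBm : ∀ i, B i ∈ orb x y (x a) := fun i => mem_orb.2 ⟨_, rfl⟩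
  have hAB : ∀ i j, A i ≠ B j := fun i j e => Finset.disjoint_left.1 hd (hAm i) (e ▸ hBm j)
  have hAA : ∀ i j, i < m → j < m → i ≠ j → A i ≠ A j := fun i j h1 h2 h3 =>
    zpow_ne (not_dvd_of_bounds (by omega) (by omega) (by omega))
  have hBB : ∀ i j, i < m → j < m → i ≠ j → B i ≠ B j := fun i j h1 h2 h3 =>
    zpow_ne (by rw [hmb]; exact not_dvd_of_bounds (by omega) (by omega) (by omega))
  have hm0 : (m : ℤ) ∣ (m : ℤ) := dvd_rfl
  -- the values of `x` and `y` on the marked points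
  have xA : ∀ i j : ℕ, (i + j) % m = 0 → x (A i) = B j ∧ x (B j) = A i := fun i j hij => by
    have hd' : (m : ℤ) ∣ -(i : ℤ) - j := by
      rw [show -(i : ℤ) - j = -(((i + j : ℕ) : ℤ)) by push_cast; ring, dvd_neg]
      exact Int.natCast_dvd_natCast.2 (Nat.dvd_of_mod_eq_zero hij)
    have e1 : x (A i) = B j := by
      rw [hA, hB]; show x _ = _
      rw [(free_map hx hy _).1, zpow_eq_iff, hmb]; exact hd'
    exact ⟨e1, by rw [← e1, hx]⟩
  have yA : ∀ i j : ℕ, (i + j) % m = 1 % m → y (A i) = B j ∧ y (B j) = A i := fun i j hij => by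
    have hd' : (m : ℤ) ∣ 1 - (i : ℤ) - j := by
      rw [show 1 - (i : ℤ) - j = ((1 : ℕ) : ℤ) - ((i + j : ℕ) : ℤ) by push_cast; ring]
      exact (Nat.modEq_iff_dvd (n := m) (a := i + j) (b := 1)).1 hij
    have e1 : y (A i) = B j := by
      rw [hA, hB]; show y _ = _
      rw [(free_map hx hy _).2.2.1, zpow_eq_iff, hmb]; exact hd'
    exact ⟨e1, by rw [← e1, hy]⟩
  have x0 := xA 0 0 (Nat.zero_mod m)
  have x1 := xA 1 (m - 1) (by rw [show 1 + (m - 1) = m by omega, Nat.mod_self])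
  have x2 := xA 2 (m - 2) (by rw [show 2 + (m - 2) = m by omega, Nat.mod_self])
  have y1 := yA 1 0 rfl
  have y2 := yA 2 (m - 1) (by rw [show 2 + (m - 1) = 1 + m by omega, Nat.add_mod_right])
  have y3 := yA 3 (m - 2) (by rw [show 3 + (m - 2) = 1 + m by omega, Nat.add_mod_right])
  have y0 := yA 0 1 rfl
  set U := orb x y a ∪ orb x y (x a) with hU
  have hAU : ∀ i, A i ∈ U := fun i => Finset.mem_union_left _ (hAm i)
  have hBU : ∀ i, B i ∈ U := fun i => Finset.mem_union_right _ (hBm i)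
  set g := swap (A 0) (B 0) * swap (B 0) (A 1) * swap (A 1) (B (m - 1)) * swap (B (m - 1)) (B (m - 2))
    with hg
  have n01 : A 0 ≠ A 1 := hAA 0 1 (by omega) (by omega) (by omega)
  have n02 : A 0 ≠ A 2 := hAA 0 2 (by omega) (by omega) (by omega)
  have n12 : A 1 ≠ A 2 := hAA 1 2 (by omega) (by omega) (by omega)
  have m01 : B 0 ≠ B (m - 1) := hBB 0 (m - 1) (by omega) (by omega) (by omega)
  have m02 : B 0 ≠ B (m - 2) := hBB 0 (m - 2) (by omega) (by omega) (by omega)
  have m12 : B (m - 1) ≠ B (m - 2) := hBB (m - 1) (m - 2) (by omega) (by omega) (by omega)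
  have gA0 : g (A 0) = B 0 := by
    simp only [hg, Perm.mul_apply, swap_apply_of_ne_of_ne (hAB 0 (m - 1)) (hAB 0 (m - 2)),
      swap_apply_of_ne_of_ne n01 (hAB 0 (m - 1)), swap_apply_of_ne_of_ne (hAB 0 0) n01, swap_apply_left]
  have gB0 : g (B 0) = A 1 := by
    simp only [hg, Perm.mul_apply, swap_apply_of_ne_of_ne m01 m02,
      swap_apply_of_ne_of_ne (hAB 1 0).symm m01, swap_apply_left,
      swap_apply_of_ne_of_ne n01.symm (hAB 1 0)]
  have gA1 : g (A 1) = B (m - 1) := by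
    simp only [hg, Perm.mul_apply, swap_apply_of_ne_of_ne (hAB 1 (m - 1)) (hAB 1 (m - 2)), swap_apply_left,
      swap_apply_of_ne_of_ne m01.symm (hAB 1 (m - 1)).symm,
      swap_apply_of_ne_of_ne (hAB 0 (m - 1)).symm m01.symm]
  have gB1 : g (B (m - 1)) = B (m - 2) := by
    simp only [hg, Perm.mul_apply, swap_apply_left,
      swap_apply_of_ne_of_ne (hAB 1 (m - 2)).symm m12.symm,
      swap_apply_of_ne_of_ne m02.symm (hAB 1 (m - 2)).symm,
      swap_apply_of_ne_of_ne (hAB 0 (m - 2)).symm m02.symm]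
  have gB2 : g (B (m - 2)) = A 0 := by
    simp only [hg, Perm.mul_apply, swap_apply_right]
  have gfix : ∀ b, b ≠ A 0 → b ≠ B 0 → b ≠ A 1 → b ≠ B (m - 1) → b ≠ B (m - 2) → g b = b := by
    intro b h1 h2 h3 h4 h5
    simp only [hg, Perm.mul_apply, swap_apply_of_ne_of_ne h4 h5, swap_apply_of_ne_of_ne h3 h4,
      swap_apply_of_ne_of_ne h2 h3, swap_apply_of_ne_of_ne h1 h2]
  have gA2 : g (A 2) = A 2 :=
    gfix _ n02.symm (hAB 2 0) n12.symm (hAB 2 (m - 1)) (hAB 2 (m - 2))
  refine sol_of_conj hx (fun b hb => (free_closed hx hy hb).1) g (fun b hb => gfix b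
    (fun e => hb (e ▸ hAU 0)) (fun e => hb (e ▸ hBU 0)) (fun e => hb (e ▸ hAU 1))
    (fun e => hb (e ▸ hBU _)) (fun e => hb (e ▸ hBU _))) fun z hz => ?_
  have zB0 : z (B 0) = A 1 := by
    have := hz _ (hAU 0); rwa [gA0, x0.1, gB0] at this
  have zA1 : z (A 1) = B 0 := by
    have := hz _ (hBU 0); rwa [gB0, x0.2, gA0] at this
  have zB1 : z (B (m - 1)) = B (m - 2) := by
    have := hz _ (hAU 1); rwa [gA1, x1.1, gB1] at this
  have zB2 : z (B (m - 2)) = B (m - 1) := by
    have := hz _ (hBU (m - 1)); rwa [gB1, x1.2, gA1] at this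
  have zA2 : z (A 2) = A 0 := by
    have := hz _ (hAU 2); rwa [gA2, x2.1, gB2] at this
  have zA0 : z (A 0) = A 2 := by
    have := hz _ (hBU (m - 2)); rwa [gB2, x2.2, gA2] at this
  have zgen : ∀ b ∈ U, b ≠ A 0 → b ≠ A 1 → b ≠ A 2 → b ≠ B 0 → b ≠ B (m - 1) → b ≠ B (m - 2) →
      z b = x b := by
    intro b hb h0 h1 h2 h3 h4 h5
    have := hz b hb
    rwa [gfix b h0 h3 h1 h4 h5, gfix (x b) (fun e => h3 (by rw [← x0.1, ← e, hx]))
      (fun e => h0 (by rw [← x0.2, ← e, hx])) (fun e => h4 (by rw [← x1.1, ← e, hx]))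
      (fun e => h1 (by rw [← x1.2, ← e, hx])) (fun e => h2 (by rw [← x2.2, ← e, hx]))] at this
  intro b hb
  refine ⟨?_, ?_⟩
  · have cA : OddPer (fun t => x (z t)) (A 0) := ⟨3, by decide, by
      show x (z (x (z (x (z (A 0)))))) = A 0
      rw [zA0, x2.1, zB2, x1.2, zA1, x0.2]⟩
    have cB : OddPer (fun t => x (z t)) (B 0) := ⟨3, by decide, by
      show x (z (x (z (x (z (B 0)))))) = B 0
      rw [zB0, x1.1, zB1, x2.2, zA2, x0.1]⟩
    by_cases h0 : b = A 0
    · rw [h0]; exact cA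
    by_cases h1 : b = A 1
    · rw [h1]; have := cA.apply.apply; simp only [zA0, x2.1, zB2, x1.2] at this; exact this
    by_cases h2 : b = A 2
    · rw [h2]; have := cB.apply.apply; simp only [zB0, x1.1, zB1, x2.2] at this; exact this
    by_cases h3 : b = B 0
    · rw [h3]; exact cB
    by_cases h4 : b = B (m - 1)
    · rw [h4]; have := cB.apply; simp only [zB0, x1.1] at this; exact this
    by_cases h5 : b = B (m - 2)
    · rw [h5]; have := cA.apply; simp only [zA0, x2.1] at this; exact this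
    exact OddPer.of_fixed (show x (z b) = b by rw [zgen b hb h0 h1 h2 h3 h4 h5, hx])
  · set f := fun t => y (z t) with hf
    have succ : ∀ (c : α) (i : ℕ), ((y * x) ^ ((i + 1 : ℕ) : ℤ)) c = (y * x) (((y * x) ^ (i : ℤ)) c) :=
      fun c i => by rw [zpow_natCast, zpow_natCast, pow_succ', Perm.mul_apply]
    have chainA : ∀ k, 3 + k ≤ m → f^[k] (A 3) = A (3 + k) :=
      iterate_chain fun i h1 h2 => by
        rw [succ]
        show y (z (A i)) = _
        rw [zgen _ (hAU i) (hAA i 0 (by omega) (by omega) (by omega))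
          (hAA i 1 (by omega) (by omega) (by omega)) (hAA i 2 (by omega) (by omega) (by omega))
          (hAB i 0) (hAB i _) (hAB i _)]
        rfl
    have chainB : ∀ k, 1 + k ≤ m - 2 → f^[k] (B 1) = B (1 + k) :=
      iterate_chain fun i h1 h2 => by
        rw [succ]
        show y (z (B i)) = _
        rw [zgen _ (hBU i) (hAB 0 i).symm (hAB 1 i).symm (hAB 2 i).symm
          (hBB i 0 (by omega) (by omega) (by omega)) (hBB i (m - 1) (by omega) (by omega) (by omega))
          (hBB i (m - 2) (by omega) (by omega) (by omega))]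
        rfl
    have wrapA : A m = A 0 := by
      rw [hA]; show ((y * x) ^ (m : ℤ)) a = ((y * x) ^ ((0 : ℕ) : ℤ)) a
      rw [zpow_eq_iff]; exact ⟨1, by simp [hmdef]⟩
    have toA : ∀ k, 3 + k ≤ m → f^[k + 2] (A 0) = A (3 + k) := fun k hk => by
      rw [iterate_succ_apply, iterate_succ_apply]
      show f^[k] (y (z (y (z (A 0))))) = _
      rw [zA0, y2.1, zB1, y3.2, chainA k hk]
    have toB : ∀ k, 1 + k ≤ m - 2 → f^[k + 2] (B (m - 2)) = B (1 + k) := fun k hk => by
      rw [iterate_succ_apply, iterate_succ_apply]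
      show f^[k] (y (z (y (z (B (m - 2)))))) = _
      rw [zB2, y2.2, zA2, y0.1, chainB k hk]
    have hodd : Odd (m - 3 + 2) := by obtain ⟨c, hc⟩ := he; rw [Nat.odd_iff]; omega
    have cA : OddPer f (A 0) := ⟨m - 3 + 2, hodd, by
      rw [toA (m - 3) (by omega), show 3 + (m - 3) = m by omega, wrapA]⟩
    have cB : OddPer f (B (m - 2)) := ⟨m - 3 + 2, hodd, by
      rw [toB (m - 3) (by omega), show 1 + (m - 3) = m - 2 by omega]⟩
    rcases Finset.mem_union.1 hb with h | h <;> obtain ⟨k, hk, rfl⟩ := exists_nat_of_mem_orb h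
    · rw [← hmdef] at hk
      change OddPer f (A k)
      rcases (show k = 0 ∨ k = 1 ∨ k = 2 ∨ 3 ≤ k by omega) with rfl | rfl | rfl | h3
      · exact cA
      · exact OddPer.of_fixed (show y (z (A 1)) = A 1 by rw [zA1, y1.2])
      · have := cB.apply; simp only [hf, zB2, y2.2] at this; exact this
      · obtain ⟨j, rfl⟩ : ∃ j, k = 3 + j := ⟨k - 3, by omega⟩
        rw [← toA j (by omega)]; exact cA.iterate _
    · rw [hmb] at hk
      change OddPer f (B k)
      rcases (show k = 0 ∨ k = m - 1 ∨ (1 ≤ k ∧ k ≤ m - 2) by omega) with rfl | rfl | h3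
      · exact OddPer.of_fixed (show y (z (B 0)) = B 0 by rw [zB0, y1.1])
      · have := cA.apply; simp only [hf, zA0, y2.1] at this; exact this
      · obtain ⟨j, rfl⟩ : ∃ j, k = 1 + j := ⟨k - 1, by omega⟩
        rw [← toB j (by omega)]; exact cB.iterate _

end Free

end CfsgLib.OddProductInv
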