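import Cfsg.Statements.S2934
import Cfsg.Agent.LocalEven49.OddAutOneInvolution
import Cfsg.Agent.FittingLength.Basic
import Cfsg.Agent.Coprime.Generation
import Cfsg.Agent.BlocksCharsC.PGroupCenter
import Cfsg.Agent.LocalEven50.Basic
import Cfsg.Agent.Solvable.Frattini

/-!
# Non-cyclic abelian odd groups of automorphisms of a 2-group, each fixing at most one involution
-/

set_option autoImplicit false
set_option linter.style.haveILetI false

namespace CfsgLib.OneInvolutionFixed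

open QuaternionGroup

variable {W : Type*} [Group W] [Finite W]

set_option linter.unusedVariables false

/-- An automorphism mapping a finite subgroup into itself, restricted. -/
noncomputable def resAut (H : Subgroup W) (f : MulAut W) (hf : ∀ x ∈ H, f x ∈ H) : MulAut H :=
  MulEquiv.ofBijective
    (MonoidHom.mk' (fun x : H => (⟨f x, hf _ x.2⟩ : H)) fun x y => Subtype.ext (map_mul f _ _))
    (Finite.injective_iff_bijective.1 fun x y h =>
      Subtype.ext (f.injective (congrArg Subtype.val h)))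

theorem resAut_apply (H : Subgroup W) (f : MulAut W) (hf : ∀ x ∈ H, f x ∈ H) (x : H) :
    (resAut H f hf x : W) = f x := rfl

/-- Restriction as a homomorphism. -/
noncomputable def resHom (E : Subgroup (MulAut W)) (H : Subgroup W)
    (hH : ∀ f ∈ E, ∀ x ∈ H, f x ∈ H) : E →* MulAut H :=
  MonoidHom.mk' (fun f => resAut H f (hH _ f.2)) fun _ _ => MulEquiv.ext fun _ => Subtype.ext rfl

theorem resHom_eq_one {E : Subgroup (MulAut W)} {H : Subgroup W}
    {hH : ∀ f ∈ E, ∀ x ∈ H, f x ∈ H} (f : E) :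
    resHom E H hH f = 1 ↔ ∀ x ∈ H, (f : MulAut W) x = x := by
  constructor
  · intro h x hx
    exact congrArg Subtype.val (MulEquiv.congr_fun h ⟨x, hx⟩)
  · exact fun h => MulEquiv.ext fun x => Subtype.ext (h x x.2)

omit [Finite W] in
/-- The automorphisms fixing a given element. -/
def stab (a : W) : Subgroup (MulAut W) where
  carrier := {g | g a = a}
  mul_mem' {g h} hg hh := show g (h a) = a by rw [hh, hg]
  one_mem' := rfl
  inv_mem' {g} hg := g.symm_apply_eq.2 hg.symm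

omit [Finite W] in
theorem mem_stab {a : W} {g : MulAut W} : g ∈ stab a ↔ g a = a := Iff.rfl

omit [Finite W] in
theorem mem_fixed {e : MulAut W} {a : W} : a ∈ Cfsg.fixedSubgroup e ↔ e a = a := Iff.rfl

section Q8

variable {Q : Subgroup W}

theorem res_not_commute (iso : Q ≃* QuaternionGroup 2) (f : MulAut W) (hf : ∀ x ∈ Q, f x ∈ Q)
    (h3 : f ^ 3 = 1) (h1 : ∃ x ∈ Q, f x ≠ x) {u : W} (hu : u ∈ Q) (hu2 : u * u ≠ 1) :
    f u * u ≠ u * f u := by
  set ψ := resAut Q f hf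
  have hpow : ∀ x, f (f (f x)) = x := fun x => by
    simpa [pow_succ] using MulEquiv.congr_fun h3 x
  have hψ3 : ψ ^ 3 = 1 := MulEquiv.ext fun x => Subtype.ext (by
    simpa [pow_succ, ψ, resAut_apply] using hpow x)
  have hψ1 : ψ ≠ 1 := fun h => by
    obtain ⟨x, hx, hx1⟩ := h1
    exact hx1 (congrArg Subtype.val (MulEquiv.congr_fun h ⟨x, hx⟩))
  intro hc
  refine OddAutOneInvolution.q8_not_commute (MulAut.congr iso ψ) (by rw [← map_pow, hψ3, map_one])
    (fun h => hψ1 ((MulAut.congr iso).injective (h.trans (map_one _).symm))) (u := iso ⟨u, hu⟩)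
    (fun h => hu2 ?_) ?_
  · rw [← map_mul, EmbeddingLike.map_eq_one_iff] at h
    exact congrArg Subtype.val h
  · simp only [MulAut.congr_apply, MulEquiv.trans_apply, MulEquiv.symm_apply_apply]
    rw [← map_mul, ← map_mul]
    exact congrArg iso (Subtype.ext hc)

theorem le_of_invariant (iso : Q ≃* QuaternionGroup 2) (f : MulAut W) (hf : ∀ x ∈ Q, f x ∈ Q)
    (h3 : f ^ 3 = 1) (h1 : ∃ x ∈ Q, f x ≠ x) (H : Subgroup W) (hH : ∀ x ∈ H, f x ∈ H) {u : W}
    (hu : u ∈ Q) (huH : u ∈ H) (hu2 : u * u ≠ 1) : Q ≤ H := by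
  have hne := res_not_commute iso f hf h3 h1 hu hu2
  intro g hg
  have htop := OddAutOneInvolution.q8_eq_top ((H.subgroupOf Q).map iso.toMonoidHom)
    (u := iso ⟨f u, hf u hu⟩) (v := iso ⟨u, hu⟩)
    ⟨⟨f u, hf u hu⟩, hH u huH, rfl⟩ ⟨⟨u, hu⟩, huH, rfl⟩ (by
      rw [← map_mul, ← map_mul]
      exact fun h => hne (congrArg Subtype.val (iso.injective h)))
  obtain ⟨g', hg', he⟩ := htop.ge (Subgroup.mem_top (iso ⟨g, hg⟩))
  obtain rfl : g' = ⟨g, hg⟩ := iso.injective he
  exact hg'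

end Q8

/-- The main argument, for an elementary subgroup `E₀` of order `p²`. -/
theorem main (hW : IsPGroup 2 W) {p : ℕ} [hpf : Fact p.Prime] (hp : p ≠ 2)
    (E E₀ : Subgroup (MulAut W)) (hE0E : E₀ ≤ E) (hEp : IsPGroup p ↥E)
    (hab : ∀ e ∈ E, ∀ f ∈ E, e * f = f * e)
    (hexp : ∀ e ∈ E₀, e ^ p = 1) (hcard0 : Nat.card E₀ = p * p)
    (hfix : ∀ e ∈ E, e ≠ 1 → ∀ x y : W, orderOf x = 2 → orderOf y = 2 → e x = x → e y = y → x = y) :
    Nat.card ↥E = 9 ∧ Cfsg.IsExtraspecial 2 W ∧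
      (Nat.card W = 2 ^ 5 ∨ Nat.card W = 2 ^ 7 ∨ Nat.card W = 2 ^ 9) ∧
      {x : W | ∀ e ∈ E, e x = x} = (Subgroup.center W : Set W) := by
  classical
  haveI : Fact (Nat.Prime 2) := ⟨Nat.prime_two⟩
  have h2p : 2 ≤ p := hpf.out.two_le
  have hord : ∀ x : W, x * x = 1 → x ≠ 1 → orderOf x = 2 := fun x h h' =>
    orderOf_eq_prime (by rw [sq, h]) h'
  have hinv : ∀ e ∈ E, ∀ f ∈ E, ∀ x ∈ Cfsg.fixedSubgroup e, f x ∈ Cfsg.fixedSubgroup e := by
    intro e he f hf x hx
    have h := MulEquiv.congr_fun (hab e he f hf) x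
    exact h.trans (congrArg f hx)
  -- generation by fixed points
  have gen : ∀ H : Subgroup W, (∀ e ∈ E₀, ∀ x ∈ H, e x ∈ H) → ∀ U : Subgroup W,
      (∀ e ∈ E₀, e ≠ 1 → H ⊓ Cfsg.fixedSubgroup e ≤ U) → H ≤ U := by
    intro H hH U hU
    letI : CommGroup E₀ := { (inferInstance : Group E₀) with
      mul_comm := fun u v => Subtype.ext (hab _ (hE0E u.2) _ (hE0E v.2)) }
    refine FittingLength.le_of_forall_fixed_le (A := E₀) hpf.out.pos
      (fun e => Subtype.ext (hexp e e.2)) E₀.subtype ⊤ (fun e _ x hx => hH e e.2 x hx) ?_ ?_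
    · obtain ⟨n, hn⟩ := (hW.to_subgroup H).exists_card_eq
      have h2 : Nat.Coprime p (2 ^ n) :=
        Nat.Coprime.pow_right n ((Nat.coprime_primes hpf.out Nat.prime_two).2 hp)
      rw [hcard0, hn]
      exact h2.mul_left h2
    · intro B' _ hB'
      rw [Subgroup.card_top, hcard0] at hB'
      have hB'1 : B' ≠ ⊥ := by
        intro h
        rw [h, Subgroup.card_bot, mul_one] at hB'
        nlinarith
      obtain ⟨⟨b, hb⟩, hb1⟩ := Subgroup.ne_bot_iff_exists_ne_one.1 hB'1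
      refine le_trans (inf_le_inf_left _ ?_)
        (hU b b.2 fun h => hb1 (Subtype.ext (Subtype.ext h)))
      exact FittingLength.fixedBy_le_fixedSubgroup hb
  obtain ⟨e₀, he₀, he₀1⟩ : ∃ e ∈ E₀, e ≠ 1 := by
    by_contra! h
    have : E₀ = ⊥ := (Subgroup.eq_bot_iff_forall _).2 h
    rw [this, Subgroup.card_bot] at hcard0
    nlinarith
  haveI hWnt : Nontrivial W := by
    by_contra h
    rw [not_nontrivial_iff_subsingleton] at h
    exact he₀1 (MulEquiv.ext fun x => Subsingleton.elim _ _)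
  -- the involution `z`
  obtain ⟨z, hzc, hz2, hz1, hzfix⟩ : ∃ z : W, z ∈ Subgroup.center W ∧ z * z = 1 ∧ z ≠ 1 ∧
      ∀ e ∈ E, e z = z := by
    let Om : Subgroup W :=
      { carrier := {x | x ∈ Subgroup.center W ∧ x * x = 1}
        mul_mem' := fun {u v} hu hv => ⟨mul_mem hu.1 hv.1, by
          rw [show u * v * (u * v) = (u * u) * (v * v) by
            rw [mul_assoc u v, ← mul_assoc v u v, (Subgroup.mem_center_iff.1 hu.1 v), mul_assoc u v v,
              ← mul_assoc u u], hu.2, hv.2, one_mul]⟩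
        one_mem' := ⟨one_mem _, one_mul 1⟩
        inv_mem' := fun {u} hu => ⟨inv_mem hu.1, by rw [← mul_inv_rev, hu.2, inv_one]⟩ }
    have hOm : ∀ e ∈ E₀, ∀ x ∈ Om, e x ∈ Om := fun e _ x hx =>
      ⟨(Subgroup.characteristic_iff_le_comap.1 inferInstance e) hx.1, by
        rw [← map_mul, hx.2, map_one]⟩
    obtain ⟨e, he, he1, z, hz, hez, hz1⟩ : ∃ e ∈ E₀, e ≠ 1 ∧ ∃ z ∈ Om, e z = z ∧ z ≠ 1 := by
      by_contra! h
      have hle : Om ≤ ⊥ := gen Om hOm ⊥ fun e he he1 x hx =>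
        Subgroup.mem_bot.2 (h e he he1 x hx.1 hx.2)
      haveI := hW.center_nontrivial
      obtain ⟨n, hn0, hn⟩ := (hW.to_subgroup (Subgroup.center W)).nontrivial_iff_card.1 inferInstance
      obtain ⟨w, hw⟩ := exists_prime_orderOf_dvd_card' (G := Subgroup.center W) 2
        (hn ▸ dvd_pow_self 2 hn0.ne')
      have hw1 : (w : W) ∈ Om := ⟨w.2, by
        have := pow_orderOf_eq_one w
        rw [hw, sq] at this
        exact congrArg Subtype.val this⟩
      have hw' : w = 1 := Subtype.ext (Subgroup.mem_bot.1 (hle hw1))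
      rw [hw', orderOf_one] at hw
      norm_num at hw
    refine ⟨z, hz.1, hz.2, hz1, fun f hf => ?_⟩
    refine hfix e (hE0E he) he1 (f z) z (hord _ (by rw [← map_mul, hz.2, map_one])
      fun h => hz1 (f.injective (h.trans (map_one f).symm))) (hord z hz.2 hz1) ?_ hez
    exact hinv e (hE0E he) f hf z hez
  set Zs := Subgroup.zpowers z with hZs
  have memZs : ∀ {a : W}, a ∈ Zs ↔ a = 1 ∨ a = z := by
    intro a
    constructor
    · intro ha
      obtain ⟨k, rfl⟩ := Subgroup.mem_zpowers_iff.1 ha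
      rcases Int.even_or_odd' k with ⟨l, rfl | rfl⟩
      · exact Or.inl (by rw [zpow_mul, zpow_two, hz2, one_zpow])
      · exact Or.inr (by rw [zpow_add, zpow_mul, zpow_two, hz2, one_zpow, one_mul, zpow_one])
    · rintro (rfl | rfl)
      exacts [one_mem _, Subgroup.mem_zpowers a]
  have hZcard : Nat.card Zs = 2 := by rw [hZs, Nat.card_zpowers, hord z hz2 hz1]
  have hZcen : Zs ≤ Subgroup.center W := (Subgroup.zpowers_le (H := Subgroup.center W)).2 hzc
  have hZcomm : ∀ c ∈ Zs, ∀ w : W, w * c = c * w := fun c hc w =>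
    Subgroup.mem_center_iff.1 (hZcen hc) w
  haveI hZn : Zs.Normal := ⟨fun c hc g => by
    rwa [hZcomm c hc g, mul_inv_cancel_right]⟩
  have hfixZ : ∀ f ∈ E, ∀ c ∈ Zs, f c = c := by
    intro f hf c hc
    rcases memZs.1 hc with rfl | rfl
    exacts [map_one f, hzfix f hf]
  have invol : ∀ e ∈ E₀, e ≠ 1 → ∀ a : W, a * a = 1 → e a = a → a ∈ Zs := by
    intro e he he1 a ha hea
    by_cases ha1 : a = 1
    · exact memZs.2 (Or.inl ha1)
    · exact memZs.2 (Or.inr (hfix e (hE0E he) he1 a z (hord a ha ha1) (hord z hz2 hz1) hea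
        (hzfix e (hE0E he))))
  have hsqfix : ∀ c ∈ Zs, c * c = 1 := fun c hc => by
    rcases memZs.1 hc with rfl | rfl
    exacts [one_mul 1, hz2]
  have hZfix : ∀ e ∈ E, Zs ≤ Cfsg.fixedSubgroup e := fun e he c hc => hfixZ e he c hc
  have triv_or : ∀ e ∈ E₀, e ≠ 1 → ∀ f ∈ E₀, (∀ a ∈ Cfsg.fixedSubgroup e, f a = a) ∨
      (p = 3 ∧ Nonempty (↥(Cfsg.fixedSubgroup e) ≃* QuaternionGroup 2)) := by
    intro e he he1 f hf
    have hu : TwoGroupsQ.HasUniqueOrderP (↥(Cfsg.fixedSubgroup e)) 2 :=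
      TwoGroupsQ.hasUniqueOrderP_two fun u v hu hu1 hv hv1 => Subtype.ext
        (hfix e (hE0E he) he1 u v (hord _ (by rw [← sq]; exact congrArg Subtype.val hu)
          (fun h => hu1 (Subtype.ext h))) (hord _ (by rw [← sq]; exact congrArg Subtype.val hv)
          (fun h => hv1 (Subtype.ext h))) u.2 v.2)
    rcases OddAutOneInvolution.eq_one_or_q8 (hW.to_subgroup _) hu hp
      (resHom E₀ _ (fun g hg => hinv e (hE0E he) g (hE0E hg)) ⟨f, hf⟩)
      (by rw [← map_pow, show (⟨f, hf⟩ : E₀) ^ p = 1 from Subtype.ext (hexp f hf), map_one]) with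
      h | h
    · exact Or.inl ((resHom_eq_one ⟨f, hf⟩).1 h)
    · exact Or.inr h
  -- common fixed points
  have hC0 : ∀ a : W, (∀ g ∈ E₀, g a = a) → a ∈ Zs := by
    intro a ha
    by_cases hall : ∀ e ∈ E₀, e ≠ 1 → ∀ f ∈ E₀, ∀ b ∈ Cfsg.fixedSubgroup e, f b = b
    · exfalso
      have hle : (⊤ : Subgroup W) ≤ ⨅ g ∈ E₀, Cfsg.fixedSubgroup g :=
        gen ⊤ (fun _ _ _ _ => Subgroup.mem_top _) _ fun e he he1 b hb => by
          simp only [Subgroup.mem_iInf]
          exact fun g hg => hall e he he1 g hg b hb.2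
      refine he₀1 (MulEquiv.ext fun b => ?_)
      have h := hle (Subgroup.mem_top b)
      simp only [Subgroup.mem_iInf] at h
      exact h e₀ he₀
    push Not at hall
    obtain ⟨e, he, he1, f, hf, b, hb, hfb⟩ := hall
    rcases triv_or e he he1 f hf with h | ⟨h3, ⟨iso⟩⟩
    · exact absurd (h b hb) hfb
    refine invol e he he1 a ?_ (ha e he)
    by_contra haa
    exact res_not_commute iso f (hinv e (hE0E he) f (hE0E hf)) (h3 ▸ hexp f hf) ⟨b, hb, hfb⟩
      (ha e he) haa (by rw [ha f hf])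
  set 𝒬 := {Q : Subgroup W | ∃ e ∈ E₀, e ≠ 1 ∧ Q = Cfsg.fixedSubgroup e ∧ ¬ Q ≤ Zs} with h𝒬
  have hQmove : ∀ e ∈ E₀, e ≠ 1 → ¬ Cfsg.fixedSubgroup e ≤ Zs →
      ∃ f ∈ E₀, p = 3 ∧ Nonempty (↥(Cfsg.fixedSubgroup e) ≃* QuaternionGroup 2) ∧
        ∃ b ∈ Cfsg.fixedSubgroup e, f b ≠ b := by
    intro e he he1 hne
    obtain ⟨b, hb, hbZ⟩ := SetLike.not_le_iff_exists.1 hne
    obtain ⟨f, hf, hfb⟩ : ∃ f ∈ E₀, f b ≠ b := by
      by_contra! h
      exact hbZ (hC0 b h)
    rcases triv_or e he he1 f hf with h | ⟨h3, hiso⟩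
    · exact absurd (h b hb) hfb
    · exact ⟨f, hf, h3, hiso, b, hb, hfb⟩
  have hinter : ∀ e ∈ E₀, e ≠ 1 → ∀ e' ∈ E₀, e' ≠ 1 →
      Cfsg.fixedSubgroup e ≠ Cfsg.fixedSubgroup e' →
      Cfsg.fixedSubgroup e ⊓ Cfsg.fixedSubgroup e' ≤ Zs := by
    intro e he he1 e' he' he'1 hne a ha
    refine hC0 a fun g hg => ?_
    have hoe : orderOf e = p := orderOf_eq_prime (hexp e he) he1
    have hoe' : orderOf e' = p := orderOf_eq_prime (hexp e' he') he'1
    have hnot : e' ∉ Subgroup.zpowers e := by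
      intro h
      apply hne
      have heq : Subgroup.zpowers e' = Subgroup.zpowers e :=
        Subgroup.eq_of_le_of_card_ge (Subgroup.zpowers_le.2 h) (by
          rw [Nat.card_zpowers, Nat.card_zpowers, hoe, hoe'])
      have key : ∀ u v : MulAut W, Subgroup.zpowers u ≤ Subgroup.zpowers v →
          Cfsg.fixedSubgroup v ≤ Cfsg.fixedSubgroup u := fun u v huv x hx =>
        (Subgroup.zpowers_le (H := stab x)).2 hx (huv (Subgroup.mem_zpowers u))
      exact le_antisymm (key e' e heq.le) (key e e' heq.ge)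
    have hle : Subgroup.zpowers e ⊔ Subgroup.zpowers e' ≤ E₀ :=
      sup_le (Subgroup.zpowers_le.2 he) (Subgroup.zpowers_le.2 he')
    have hsup : Subgroup.zpowers e ⊔ Subgroup.zpowers e' = E₀ := by
      refine Subgroup.eq_of_le_of_card_ge hle ?_
      set S := Subgroup.zpowers e ⊔ Subgroup.zpowers e'
      have hd : Nat.card S ∣ p * p := hcard0 ▸ Subgroup.card_dvd_of_le hle
      obtain ⟨k, hk, hSk⟩ := (Nat.dvd_prime_pow hpf.out).1 (show Nat.card S ∣ p ^ 2 by rwa [sq])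
      have hlt : p < Nat.card S := by
        rw [← hoe, ← Nat.card_zpowers]
        by_contra h
        exact hnot ((Subgroup.eq_of_le_of_card_ge le_sup_left (not_lt.1 h)).ge
          ((le_sup_right : Subgroup.zpowers e' ≤ S) (Subgroup.mem_zpowers e')))
      rw [hSk] at hlt ⊢
      interval_cases k
      · rw [pow_zero] at hlt; omega
      · rw [pow_one] at hlt; omega
      · rw [hcard0, sq]
    exact (sup_le ((Subgroup.zpowers_le (H := stab a)).2 ha.1)
      ((Subgroup.zpowers_le (H := stab a)).2 ha.2) : _ ≤ stab a) (hsup.ge hg)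
  -- elements central modulo `Zs`
  let Z2 : Subgroup W :=
    { carrier := {a | ∀ w : W, a * w * a⁻¹ * w⁻¹ ∈ Zs}
      one_mem' := fun w => by simp
      mul_mem' := fun {u v} hu hv w => by
        have h := mul_mem (hv w) (hu w)
        rw [show u * v * w * (u * v)⁻¹ * w⁻¹ = u * (v * w * v⁻¹ * w⁻¹) * u⁻¹ * (u * w * u⁻¹ * w⁻¹) by
          group, hZcomm _ (hv w) u, mul_inv_cancel_right]
        exact h
      inv_mem' := fun {u} hu w => by
        rw [show u⁻¹ * w * u⁻¹⁻¹ * w⁻¹ = u⁻¹ * (u * w * u⁻¹ * w⁻¹)⁻¹ * u by group,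
          hZcomm _ (inv_mem (hu w)) u⁻¹, inv_mul_cancel_right]
        exact inv_mem (hu w) }
  have hZ2inv : ∀ f ∈ E, ∀ a ∈ Z2, f a ∈ Z2 := by
    intro f hf a ha w
    have h := ha (f.symm w)
    have h2 : f (a * f.symm w * a⁻¹ * (f.symm w)⁻¹) = f a * w * (f a)⁻¹ * w⁻¹ := by simp
    rw [← h2, hfixZ f hf _ h]
    exact h
  -- normal invariant subgroups beyond `Zs` produce members of `𝒬` inside `Z2`
  have hQZ2of : ∀ e ∈ E₀, e ≠ 1 → ∀ a ∈ Cfsg.fixedSubgroup e, a ∈ Z2 → a ∉ Zs →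
      Cfsg.fixedSubgroup e ≤ Z2 ∧ a * a ≠ 1 := by
    intro e he he1 a hae haZ2 haZ
    have haa : a * a ≠ 1 := fun h => haZ (invol e he he1 a h hae)
    obtain ⟨f, hf, h3, ⟨iso⟩, hmv⟩ := hQmove e he he1 fun h => haZ (h hae)
    exact ⟨le_of_invariant iso f (hinv e (hE0E he) f (hE0E hf)) (h3 ▸ hexp f hf) hmv Z2
      (fun x hx => hZ2inv f (hE0E hf) x hx) hae haZ2 haa, haa⟩
  have hcommQ : ∀ Q ∈ 𝒬, Q ≤ Z2 → ∀ Q' ∈ 𝒬, Q' ≠ Q → ∀ a ∈ Q, ∀ b ∈ Q', a * b = b * a := by
    rintro Q ⟨e, he, he1, rfl, hQ⟩ hQ2 Q' ⟨e', he', he'1, rfl, hQ'⟩ hne a ha b hb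
    obtain ⟨f', -, h3, ⟨iso⟩, -⟩ := hQmove e' he' he'1 hQ'
    have heQ' := hinv e' (hE0E he') e (hE0E he)
    have hmv : ∃ x ∈ Cfsg.fixedSubgroup e', e x ≠ x := by
      by_contra! h
      exact hQ' fun x hx => hinter e' he' he'1 e he he1 hne ⟨hx, h x hx⟩
    obtain ⟨b₀, hb₀, hb₀Z⟩ := SetLike.not_le_iff_exists.1 hQ'
    have hb₀2 : b₀ * b₀ ≠ 1 := fun h => hb₀Z (invol e' he' he'1 b₀ h hb₀)
    set u := b₀⁻¹ * e b₀ with hu
    have hu2 : u * u ≠ 1 := by
      intro h
      have huQ : u ∈ Cfsg.fixedSubgroup e' := mul_mem (inv_mem hb₀) (heQ' b₀ hb₀)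
      have huZ := invol e' he' he'1 u h huQ
      have hb : e b₀ = b₀ * u := by rw [hu, mul_inv_cancel_left]
      refine res_not_commute iso e heQ' (h3 ▸ hexp e he) hmv hb₀ hb₀2 ?_
      rw [hb, mul_assoc, ← hZcomm u huZ b₀]
    have hDinv : ∀ x ∈ Subgroup.centralizer ({a} : Set W),
        e x ∈ Subgroup.centralizer ({a} : Set W) := by
      intro x hx
      rw [Subgroup.mem_centralizer_singleton_iff] at hx ⊢
      have h := congrArg e hx
      rwa [map_mul, map_mul, show e a = a from ha] at h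
    have huD : u ∈ Subgroup.centralizer ({a} : Set W) := by
      rw [Subgroup.mem_centralizer_singleton_iff]
      set c := a * b₀ * a⁻¹ * b₀⁻¹ with hc
      have hcZ : c ∈ Zs := hQ2 ha b₀
      have h1 : a * b₀ * a⁻¹ = c * b₀ := by rw [hc]; group
      have h2 : a * e b₀ * a⁻¹ = c * e b₀ := by
        have h := congrArg e h1
        rwa [map_mul, map_mul, map_mul, map_inv, show e a = a from ha,
          hfixZ e (hE0E he) c hcZ] at h
      have h4 : a * u * a⁻¹ = u := by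
        have : a * u * a⁻¹ = (a * b₀ * a⁻¹)⁻¹ * (a * e b₀ * a⁻¹) := by rw [hu]; group
        rw [this, h1, h2, hu]
        group
      exact (mul_inv_eq_iff_eq_mul.1 h4).symm
    have := le_of_invariant iso e heQ' (h3 ▸ hexp e he) hmv _ hDinv
      (mul_mem (inv_mem hb₀) (heQ' b₀ hb₀)) huD hu2 hb
    exact (Subgroup.mem_centralizer_singleton_iff.1 this).symm
  -- generation
  have hgenW : (⊤ : Subgroup W) ≤ sSup 𝒬 ⊔ Zs := by
    refine gen ⊤ (fun _ _ _ _ => Subgroup.mem_top _) _ fun e he he1 => inf_le_right.trans ?_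
    by_cases h : Cfsg.fixedSubgroup e ≤ Zs
    · exact h.trans le_sup_right
    · exact (le_sSup (show Cfsg.fixedSubgroup e ∈ 𝒬 from ⟨e, he, he1, rfl, h⟩)).trans le_sup_left
  have hQnc : ∀ Q ∈ 𝒬, p = 3 ∧ Nonempty (↥Q ≃* QuaternionGroup 2) := by
    rintro Q ⟨e, he, he1, rfl, hQ⟩
    obtain ⟨f, -, h3, ⟨iso⟩, -⟩ := hQmove e he he1 hQ
    exact ⟨h3, ⟨iso⟩⟩
  have hQcen : ∀ Q ∈ 𝒬, ∀ a ∈ Q, (∀ b ∈ Q, a * b = b * a) → a ∈ Zs := by
    intro Q hQ a ha hcomm
    obtain ⟨-, ⟨iso⟩⟩ := hQnc Q hQ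
    obtain ⟨e, he, he1, rfl, -⟩ := hQ
    refine invol e he he1 a ?_ ha
    have hd : ∀ q : QuaternionGroup 2, (∀ r, q * r = r * q) → q * q = 1 := by decide
    have := hd (iso ⟨a, ha⟩) fun r => by
      rw [← iso.apply_symm_apply r, ← map_mul, ← map_mul]
      exact congrArg iso (Subtype.ext (hcomm _ (iso.symm r).2))
    rw [← map_mul, EmbeddingLike.map_eq_one_iff] at this
    exact congrArg Subtype.val this
  have hQZ2 : ∀ Q ∈ 𝒬, Q ≤ Z2 := by
    by_contra! hcon
    obtain ⟨Q₁, hQ₁, hQ₁2⟩ := hcon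
    set 𝒯 := {Q ∈ 𝒬 | ¬ Q ≤ Z2} with h𝒯
    set U := sSup 𝒯 ⊔ Zs with hU
    have hUcent : ∀ Q ∈ 𝒬, Q ≤ Z2 → U ≤ Subgroup.centralizer (Q : Set W) := by
      intro Q hQ hQ2
      refine sup_le (sSup_le fun Q' hQ' b hb => ?_) fun c hc => ?_
      · exact Subgroup.mem_centralizer_iff.2 fun a ha =>
          hcommQ Q hQ hQ2 Q' hQ'.1 (fun h => hQ'.2 (h ▸ hQ2)) a ha b hb
      · exact Subgroup.mem_centralizer_iff.2 fun a _ => hZcomm c hc a
    haveI hUn : U.Normal := by
      rw [← Subgroup.normalizer_eq_top_iff, eq_top_iff]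
      refine hgenW.trans (sup_le (sSup_le fun Q hQ => ?_) ?_)
      · by_cases h : Q ≤ Z2
        · exact (Subgroup.le_centralizer_iff.1 (hUcent Q hQ h)).trans
            (Subgroup.centralizer_le_normalizer _)
        · exact ((le_sSup (show Q ∈ 𝒯 from ⟨hQ, h⟩)).trans le_sup_left).trans
            Subgroup.le_normalizer
      · exact le_sup_right.trans Subgroup.le_normalizer
    have hUinv : ∀ f ∈ E₀, ∀ x ∈ U, f x ∈ U := by
      intro f hf
      have : U ≤ U.comap f.toMonoidHom := by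
        refine sup_le (sSup_le fun Q hQ x hx => ?_) fun c hc => ?_
        · obtain ⟨e, he, he1, rfl, -⟩ := hQ.1
          exact (le_sSup hQ).trans (le_sup_left (b := Zs)) (hinv e (hE0E he) f (hE0E hf) x hx)
        · show f c ∈ U
          rw [hfixZ f (hE0E hf) c hc]
          exact Subgroup.mem_sup_right hc
      exact this
    have hM : U.map (QuotientGroup.mk' Zs) ≠ ⊥ := by
      intro h
      rw [Subgroup.map_eq_bot_iff, QuotientGroup.ker_mk'] at h
      obtain ⟨e, he, he1, hQe, hne⟩ := hQ₁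
      exact hne (((le_sSup (show Q₁ ∈ 𝒯 from ⟨⟨e, he, he1, hQe, hne⟩, hQ₁2⟩)).trans
        le_sup_left).trans h)
    haveI := hUn.map (QuotientGroup.mk' Zs) (QuotientGroup.mk'_surjective Zs)
    haveI : Nontrivial ↥(U.map (QuotientGroup.mk' Zs)) := (Subgroup.nontrivial_iff_ne_bot _).2 hM
    have hmeet := BlocksCharsC.inf_center_ne_bot (hW.to_quotient Zs)
      (U.map (QuotientGroup.mk' Zs))
    obtain ⟨c, hcU, hcc, hc1⟩ : ∃ c ∈ U, c ∈ Z2 ∧ c ∉ Zs := by
      obtain ⟨⟨q, hq⟩, hq1⟩ := Subgroup.ne_bot_iff_exists_ne_one.1 hmeet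
      obtain ⟨⟨c, hc, rfl⟩, hqc⟩ := hq
      refine ⟨c, hc, fun w => ?_, fun h => hq1 (Subtype.ext ((QuotientGroup.eq_one_iff c).2 h))⟩
      rw [← QuotientGroup.eq_one_iff]
      have h := Subgroup.mem_center_iff.1 hqc (QuotientGroup.mk' Zs w)
      simp only [QuotientGroup.mk'_apply] at h
      simp only [QuotientGroup.mk_mul, QuotientGroup.mk_inv]
      rw [← h]
      group
    obtain ⟨e, he, he1, a, ha, hae, haZ⟩ :
        ∃ e ∈ E₀, e ≠ 1 ∧ ∃ a ∈ U ⊓ Z2, e a = a ∧ a ∉ Zs := by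
      by_contra! h
      refine hc1 (gen (U ⊓ Z2) (fun f hf x hx => ⟨hUinv f hf x hx.1, hZ2inv f (hE0E hf) x hx.2⟩)
        Zs (fun e he he1 x hx => ?_) ⟨hcU, hcc⟩)
      by_contra hxZ
      exact hxZ (h e he he1 x hx.1 hx.2)
    obtain ⟨hQ2, -⟩ := hQZ2of e he he1 a hae ha.2 haZ
    have hQ : Cfsg.fixedSubgroup e ∈ 𝒬 := ⟨e, he, he1, rfl, fun h => haZ (h hae)⟩
    exact haZ (hQcen _ hQ a hae fun b hb =>
      (Subgroup.mem_centralizer_iff.1 (hUcent _ hQ hQ2 ha.1) b hb).symm)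
  -- structure
  have hZ2top : ∀ a : W, a ∈ Z2 := by
    have hle : sSup 𝒬 ⊔ Zs ≤ Z2 := sup_le (sSup_le hQZ2) fun c hc w => by
      rw [show c * w = w * c from (hZcomm c hc w).symm, mul_inv_cancel_right, mul_inv_cancel]
      exact one_mem _
    exact fun a => hle (hgenW (Subgroup.mem_top a))
  have hp3 : p = 3 ∧ ∃ Q₁ ∈ 𝒬, True := by
    by_cases h : 𝒬.Nonempty
    · obtain ⟨Q, hQ⟩ := h
      exact ⟨(hQnc Q hQ).1, Q, hQ, trivial⟩
    · exfalso
      rw [Set.not_nonempty_iff_eq_empty] at h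
      rw [h, sSup_empty, bot_sup_eq] at hgenW
      exact he₀1 (MulEquiv.ext fun x => hfixZ e₀ (hE0E he₀) x (hgenW (Subgroup.mem_top x)))
  obtain ⟨h3, Q₁, hQ₁, -⟩ := hp3
  obtain ⟨Q₂, hQ₂, hne12⟩ : ∃ Q₂ ∈ 𝒬, Q₂ ≠ Q₁ := by
    by_contra! h
    obtain ⟨e, he, he1, rfl, -⟩ := hQ₁
    refine he1 (MulEquiv.ext fun x => ?_)
    exact (hgenW.trans (sup_le (sSup_le fun Q hQ => (h Q hQ).le) (hZfix e (hE0E he))))
      (Subgroup.mem_top x)
  have hcommutator : commutator W ≤ Zs := by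
    rw [commutator_def, Subgroup.commutator_le]
    intro a _ b _
    rw [commutatorElement_def]
    exact hZ2top a b
  have hcenter : Subgroup.center W = Zs := by
    refine le_antisymm ?_ hZcen
    refine gen _ (fun f _ x hx => (Subgroup.characteristic_iff_le_comap.1 inferInstance f) hx) _
      fun e he he1 x hx => ?_
    by_contra hxZ
    have hQ : Cfsg.fixedSubgroup e ∈ 𝒬 := ⟨e, he, he1, rfl, fun h => hxZ (h hx.2)⟩
    exact hxZ (hQcen _ hQ x hx.2 fun b _ => (Subgroup.mem_center_iff.1 hx.1 b).symm)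
  have hcomEq : commutator W = Zs := by
    refine le_antisymm hcommutator ?_
    obtain ⟨-, ⟨iso⟩⟩ := hQnc Q₁ hQ₁
    rw [hZs, Subgroup.zpowers_le]
    obtain ⟨u, hu, v, hv, huv⟩ : ∃ u ∈ Q₁, ∃ v ∈ Q₁, u * v * u⁻¹ * v⁻¹ ≠ 1 := by
      refine ⟨iso.symm (a 1), (iso.symm _).2, iso.symm (xa 0), (iso.symm _).2, fun h => ?_⟩
      have h' : iso.symm (a 1 * xa 0 * (a 1)⁻¹ * (xa 0)⁻¹) = iso.symm 1 := by
        rw [map_one]
        apply Subtype.ext
        rw [map_mul, map_mul, map_mul, map_inv, map_inv]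
        exact h
      have := iso.symm.injective h'
      revert this; decide
    have hmem : u * v * u⁻¹ * v⁻¹ ∈ commutator W :=
      Subgroup.commutator_mem_commutator (Subgroup.mem_top u) (Subgroup.mem_top v)
    rcases memZs.1 (hcommutator hmem) with h | h
    · exact absurd h huv
    · rwa [h] at hmem
  have hfrat : frattini W = Zs := by
    refine le_antisymm (CfsgLib.Solvable.frattini_le_of_elementary (p := 2) hcommutator ?_)
      (hcomEq.ge.trans (CfsgLib.Solvable.commutator_le_frattini hW))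
    let Sq : Subgroup W :=
      { carrier := {x | x * x ∈ Zs}
        one_mem' := by simp
        inv_mem' := fun {u} hu => by
          show u⁻¹ * u⁻¹ ∈ Zs
          rw [← mul_inv_rev]; exact inv_mem hu
        mul_mem' := fun {u v} hu hv => by
          show u * v * (u * v) ∈ Zs
          have hc := hZ2top v u
          rw [show u * v * (u * v) = u * (v * u * v⁻¹ * u⁻¹) * (u * (v * v)) by group,
            hZcomm _ hc u, mul_assoc, ← mul_assoc u u]
          exact mul_mem hc (mul_mem hu hv) }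
    have hle : sSup 𝒬 ⊔ Zs ≤ Sq := by
      refine sup_le (sSup_le fun Q hQ x hx => ?_) fun c hc => mul_mem hc hc
      obtain ⟨-, ⟨iso⟩⟩ := hQnc Q hQ
      obtain ⟨e, he, he1, rfl, -⟩ := hQ
      refine invol e he he1 _ ?_ (mul_mem hx hx)
      have hd : ∀ q : QuaternionGroup 2, q * q * (q * q) = 1 := by decide
      have := hd (iso ⟨x, hx⟩)
      rw [← map_mul, ← map_mul, EmbeddingLike.map_eq_one_iff] at this
      exact congrArg Subtype.val this
    intro x
    rw [sq]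
    exact hle (hgenW (Subgroup.mem_top x))
  have hext : Cfsg.IsExtraspecial 2 W :=
    ⟨⟨hW, hfrat.trans hcenter.symm, hcomEq.trans hcenter.symm⟩, hcenter.symm ▸ hZcard⟩
  -- the order of `W`
  haveI : Fintype (Subgroup W) := Fintype.ofFinite _
  set 𝒬f : Finset (Subgroup W) := Finset.univ.filter (· ∈ 𝒬) with h𝒬f
  have hcardsup : ∀ s : Finset (Subgroup W), (∀ Q ∈ s, Q ∈ 𝒬) →
      Nat.card ↥(s.sup id ⊔ Zs) = 2 * 4 ^ s.card := by
    intro s
    induction s using Finset.induction_on with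
    | empty => intro _; rw [Finset.sup_empty, bot_sup_eq, hZcard, Finset.card_empty, pow_zero, mul_one]
    | insert Q s hQs ih =>
      intro hs
      have hQ := hs Q (Finset.mem_insert_self Q s)
      have hsQ : ∀ Q' ∈ s, Q' ∈ 𝒬 := fun Q' h => hs Q' (Finset.mem_insert_of_mem h)
      set P := s.sup id ⊔ Zs with hP
      haveI : P.Normal := ⟨fun x hx g => by
        rw [show g * x * g⁻¹ = (g * x * g⁻¹ * x⁻¹) * x by group]
        exact mul_mem (Subgroup.mem_sup_right (hZ2top g x)) hx⟩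
      have hinf : Q ⊓ P = Zs := by
        refine le_antisymm (fun x hx => hQcen Q hQ x hx.1 fun b hb => ?_) (le_inf ?_ le_sup_right)
        · have hPc : P ≤ Subgroup.centralizer (Q : Set W) := by
            refine sup_le (Finset.sup_le fun Q' hQ' y hy => ?_) fun c hc => ?_
            · exact Subgroup.mem_centralizer_iff.2 fun w hw =>
                hcommQ Q hQ (hQZ2 Q hQ) Q' (hsQ Q' hQ') (fun h => hQs (h ▸ hQ')) w hw y hy
            · exact Subgroup.mem_centralizer_iff.2 fun w _ => hZcomm c hc w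
          exact (Subgroup.mem_centralizer_iff.1 (hPc hx.2) b hb).symm
        · obtain ⟨e, he, -, rfl, -⟩ := hQ
          exact hZfix e (hE0E he)
      have hcQ : Nat.card Q = 8 := by
        obtain ⟨-, ⟨iso⟩⟩ := hQnc Q hQ
        rw [Nat.card_congr iso.toEquiv, Nat.card_eq_fintype_card, QuaternionGroup.card]
      have h := LocalEven50.card_sup_mul_card_inf Q P
      rw [hinf, hZcard, hcQ, ih hsQ] at h
      rw [Finset.sup_insert, id, sup_assoc, Finset.card_insert_of_notMem hQs, pow_succ]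
      rw [← hP]
      omega
  have hWcard : Nat.card W = 2 * 4 ^ 𝒬f.card := by
    rw [← hcardsup 𝒬f (fun Q hQ => (Finset.mem_filter.1 hQ).2)]
    have : 𝒬f.sup id ⊔ Zs = ⊤ := by
      refine top_unique (hgenW.trans (sup_le_sup_right (sSup_le fun Q hQ => ?_) _))
      exact Finset.le_sup (f := id) (Finset.mem_filter.2 ⟨Finset.mem_univ Q, hQ⟩)
    rw [this, Subgroup.card_top]
  have hr2 : 2 ≤ 𝒬f.card := Finset.one_lt_card.2
    ⟨Q₁, Finset.mem_filter.2 ⟨Finset.mem_univ _, hQ₁⟩,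
      Q₂, Finset.mem_filter.2 ⟨Finset.mem_univ _, hQ₂⟩, hne12.symm⟩
  have hr4 : 𝒬f.card ≤ 4 := by
    choose eQ heQ heQ1 heQf _ using fun Q : {Q // Q ∈ 𝒬f} => (Finset.mem_filter.1 Q.2).2
    let f : {Q // Q ∈ 𝒬f} × Bool → {e : E₀ // e ≠ 1} := fun qb =>
      ⟨(⟨eQ qb.1, heQ qb.1⟩ : E₀) ^ (if qb.2 then 2 else 1), fun h => by
        have h' : eQ qb.1 ^ (if qb.2 then 2 else 1) = 1 := congrArg Subtype.val h
        have hd := orderOf_dvd_of_pow_eq_one h'
        rw [orderOf_eq_prime (hexp _ (heQ _)) (heQ1 _), h3] at hd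
        revert hd
        cases qb.2 <;> decide⟩
    have hsame : ∀ (q : {Q // Q ∈ 𝒬f}) (b : Bool),
        Cfsg.fixedSubgroup (eQ q ^ (if b then 2 else 1)) = q.1 := by
      intro q b
      rw [heQf q]
      cases b
      · simp
      · refine le_antisymm (fun x hx => ?_) (fun x hx => ?_)
        · have h4 : eQ q = (eQ q ^ 2) ^ 2 := by
            rw [← pow_mul, show 2 * 2 = 3 + 1 from rfl, pow_succ, ← h3, hexp _ (heQ q), one_mul]
          show eQ q x = x
          rw [h4]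
          exact (stab x).pow_mem hx 2
        · exact (stab x).pow_mem hx 2
    have hinj : Function.Injective f := by
      rintro ⟨q, b⟩ ⟨q', b'⟩ h
      have h' : eQ q ^ (if b then 2 else 1) = eQ q' ^ (if b' then 2 else 1) :=
        congrArg (fun t : {e : E₀ // e ≠ 1} => ((t.1 : E₀) : MulAut W)) h
      have hq : q = q' := Subtype.ext (by rw [← hsame q b, ← hsame q' b', h'])
      subst hq
      refine Prod.ext rfl ?_
      have ho : orderOf (eQ q) = 3 := h3 ▸ orderOf_eq_prime (hexp _ (heQ q)) (heQ1 q)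
      rw [pow_eq_pow_iff_modEq, ho] at h'
      cases b <;> cases b'
      · rfl
      · exact absurd h' (show ¬ 1 ≡ 2 [MOD 3] by decide)
      · exact absurd h' (show ¬ 2 ≡ 1 [MOD 3] by decide)
      · rfl
    have hle := Nat.card_le_card_of_injective f hinj
    haveI : Fintype E₀ := Fintype.ofFinite _
    rw [Nat.card_prod, Nat.card_eq_fintype_card (α := Bool), Fintype.card_bool,
      Nat.card_eq_fintype_card (α := {Q // Q ∈ 𝒬f}), Fintype.card_coe,
      Nat.card_eq_fintype_card, Fintype.card_subtype_compl, Fintype.card_subtype_eq,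
      ← Nat.card_eq_fintype_card, hcard0, h3] at hle
    omega
  -- the order of `E`
  subst h3
  have hEfin : Finite E := inferInstance
  have hker : ∀ Q ∈ 𝒬, ∃ φ : E →* MulAut (QuaternionGroup 2),
      (∀ g, φ g = 1 → ∀ x ∈ Q, (g : MulAut W) x = x) := by
    intro Q hQ
    obtain ⟨-, ⟨iso⟩⟩ := hQnc Q hQ
    obtain ⟨e, he, -, rfl, -⟩ := hQ
    refine ⟨(MulAut.congr iso).toMonoidHom.comp (resHom E _ (hinv e (hE0E he))), fun g hg => ?_⟩
    exact (resHom_eq_one g).1 ((MulAut.congr iso).injective (hg.trans (map_one _).symm))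
  obtain ⟨φ₁, hφ₁⟩ := hker Q₁ hQ₁
  obtain ⟨φ₂, hφ₂⟩ := hker Q₂ hQ₂
  have hrange : ∀ φ : E →* MulAut (QuaternionGroup 2), Nat.card φ.range ≤ 3 := fun φ =>
    OddAutOneInvolution.card_le_three _
      (hEp.of_surjective φ.rangeRestrict φ.rangeRestrict_surjective)
  have hE9 : Nat.card E ≤ 9 := by
    have hinj : Function.Injective (φ₁.rangeRestrict.prod φ₂.rangeRestrict) := by
      rw [injective_iff_map_eq_one]
      intro g hg
      simp only [MonoidHom.prod_apply, Prod.mk_eq_one] at hg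
      have h1 := hφ₁ g (congrArg Subtype.val hg.1)
      have h2 := hφ₂ g (congrArg Subtype.val hg.2)
      by_contra hg1
      obtain ⟨e, he, he1, rfl, hQ₁Z⟩ := hQ₁
      obtain ⟨e', he', he1', rfl, hQ₂Z⟩ := hQ₂
      obtain ⟨u, hu, huZ⟩ := SetLike.not_le_iff_exists.1 hQ₁Z
      obtain ⟨v, hv, hvZ⟩ := SetLike.not_le_iff_exists.1 hQ₂Z
      have hu2 : u * u = z := ((memZs.1 ((hfrat ▸ CfsgLib.Solvable.pow_mem_frattini hW u :
        u ^ 2 ∈ Zs))).resolve_left fun h => huZ (invol e he he1 u (by rw [← sq, h]) hu)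
          ) |> fun h => by rw [← sq, h]
      have hv2 : v * v = z := ((memZs.1 ((hfrat ▸ CfsgLib.Solvable.pow_mem_frattini hW v :
        v ^ 2 ∈ Zs))).resolve_left fun h => hvZ (invol e' he' he1' v (by rw [← sq, h]) hv)
          ) |> fun h => by rw [← sq, h]
      have hQ₁' : Cfsg.fixedSubgroup e ∈ 𝒬 := ⟨e, he, he1, rfl, hQ₁Z⟩
      have hQ₂' : Cfsg.fixedSubgroup e' ∈ 𝒬 := ⟨e', he', he1', rfl, hQ₂Z⟩
      have huv : v * u = u * v :=
        (hcommQ _ hQ₁' (hQZ2 _ hQ₁') _ hQ₂' hne12 u hu v hv).symm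
      have huv2 : u * v * (u * v) = 1 := by
        rw [mul_assoc u v, ← mul_assoc v u v, huv, mul_assoc u v v, ← mul_assoc u u, hu2, hv2, hz2]
      have hgne : (g : MulAut W) ≠ 1 := fun h => hg1 (Subtype.ext h)
      have hmem : u * v ∈ Zs := by
        by_cases h : u * v = 1
        · rw [h]; exact one_mem _
        · exact memZs.2 (Or.inr (hfix g g.2 hgne (u * v) z (hord _ huv2 h) (hord z hz2 hz1)
            (by rw [map_mul, h1 u hu, h2 v hv]) (hzfix g g.2)))
      have hvQ : v ∈ Cfsg.fixedSubgroup e := by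
        rw [show v = u⁻¹ * (u * v) by group]
        exact mul_mem (inv_mem hu) (hZfix e (hE0E he) hmem)
      exact hvZ (hinter e he he1 e' he' he1' hne12.symm ⟨hvQ, hv⟩)
    have h := Nat.card_le_card_of_injective _ hinj
    rw [Nat.card_prod] at h
    exact h.trans (Nat.mul_le_mul (hrange φ₁) (hrange φ₂))
  have hEE : E₀ = E := Subgroup.eq_of_le_of_card_ge hE0E (by rw [hcard0]; exact hE9)
  refine ⟨by rw [← hEE, hcard0], hext, ?_, ?_⟩
  · rw [hWcard]
    interval_cases h : 𝒬f.card <;> norm_num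
  · ext x
    simp only [Set.mem_setOf_eq, SetLike.mem_coe, hcenter]
    exact ⟨fun h => hC0 x fun g hg => h g (hE0E hg), fun hx e he => hfixZ e he x hx⟩

end CfsgLib.OneInvolutionFixed
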