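import Cfsg.Agent.S3157
import Cfsg.Agent.UThreeSylow.Structure

/-!
# Two groups of order 64

Multiplication table for groups of order 64 given by six generators, and the Sylow 2-subgroups of
`PSL₃(4)` and `PSU₃(4)` as examples.
-/

set_option autoImplicit false
set_option linter.style.haveILetI false

namespace CfsgLib.SixtyFourModel

/-- Coordinates: `(i, j)` stands for `i + j ω`. -/
abbrev K : Type := ZMod 2 × ZMod 2

/-- Multiplication by `ω`. -/
def om (v : K) : K := (v.2, v.1 + v.2)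

/-- `y ^ i * y' ^ j`. -/
def s {G : Type*} [Group G] (y y' : G) (a : K) : G := y ^ a.1.val * y' ^ a.2.val

/-- The carry of squares. -/
def carry (p p' : K) (a a' : K) : K := (a.1 * a'.1) • p + (a.2 * a'.2) • p'

/-- The commutator pairing. -/
def pairing (a b : K) : K :=
  (a.1 * b.1) • ((1, 0) : K) + (a.1 * b.2 + a.2 * b.1) • ((1, 1) : K) + (a.2 * b.2) • ((0, 1) : K)

/-- The defining relations. -/
structure Rel {G : Type*} [Group G] (c : K) (x x' w w' g g' : G) : Prop where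
  cg : ∀ u : G, g * u = u * g
  cg' : ∀ u : G, g' * u = u * g'
  gg : g * g = 1
  gg' : g' * g' = 1
  xx : x * x = s g g' c
  xx' : x' * x' = s g g' (om c)
  ww : w * w = g
  ww' : w' * w' = g'
  cx : x * x' = x' * x
  cw : w * w' = w' * w
  wx : w * x = x * w * g
  w'x : w' * x = x * w' * (g * g')
  wx' : w * x' = x' * w * (g * g')
  w'x' : w' * x' = x' * w' * g'

/-- The parametrisation. -/
def param {G : Type*} [Group G] (x x' w w' g g' : G) (u : K × K × K) : G :=
  s x x' u.1 * s w w' u.2.1 * s g g' u.2.2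

/-- The multiplication table. -/
def law (c : K) (u v : K × K × K) : K × K × K :=
  (u.1 + v.1, u.2.1 + v.2.1, u.2.2 + v.2.2 + carry c (om c) u.1 v.1 +
    carry (1, 0) (0, 1) u.2.1 v.2.1 + pairing v.1 u.2.1)

/-- `G` has the multiplication table `law c`. -/
def Data (c : K) (G : Type*) [Group G] : Prop :=
  ∃ x x' w w' g g' : G, Rel c x x' w w' g g' ∧ Function.Bijective (param x x' w w' g g')

theorem zmod2_cases : ∀ i : ZMod 2, i = 0 ∨ i = 1 := by decide

variable {G : Type*} [Group G]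

theorem pow_sq {y z : G} (h : y * y = z) : ∀ i i' : ZMod 2,
    y ^ i.val * y ^ i'.val = y ^ (i + i').val * z ^ (i * i').val := by
  have h11 : (1 + 1 : ZMod 2) = 0 := by decide
  intro i i'
  rcases zmod2_cases i with rfl | rfl <;> rcases zmod2_cases i' with rfl | rfl <;>
    simp [ZMod.val_one, h, h11]

theorem pow_swap {y u p : G} (h : u * y = y * u * p) : ∀ k i : ZMod 2,
    u ^ k.val * y ^ i.val = y ^ i.val * u ^ k.val * p ^ (i * k).val := by
  intro k i
  rcases zmod2_cases i with rfl | rfl <;> rcases zmod2_cases k with rfl | rfl <;>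
    simp [ZMod.val_one, h]

section Table

variable {c : K} {x x' w w' g g' : G} (R : Rel c x x' w w' g g')
include R

theorem Rel.cκ (v : K) (u : G) : s g g' v * u = u * s g g' v :=
  ((Commute.pow_left (R.cg u) _).mul_left (Commute.pow_left (R.cg' u) _)).eq

theorem Rel.κ_add (v v' : K) : s g g' (v + v') = s g g' v * s g g' v' := by
  have h1 := pow_sq R.gg v.1 v'.1
  have h2 := pow_sq R.gg' v.2 v'.2
  rw [one_pow, mul_one] at h1 h2
  simp only [s, Prod.fst_add, Prod.snd_add]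
  rw [← h1, ← h2]
  have hc : Commute (g ^ v'.1.val) (g' ^ v.2.val) := (Commute.pow_pow (R.cg g') _ _)
  rw [mul_assoc, mul_assoc, ← mul_assoc (g ^ v'.1.val), hc.eq, mul_assoc]

theorem Rel.κ_zero : s g g' (0 : K) = 1 := by simp [s]

theorem Rel.κ_smul (e : ZMod 2) (v : K) : s g g' v ^ e.val = s g g' (e • v) := by
  rcases zmod2_cases e with rfl | rfl
  · rw [ZMod.val_zero, pow_zero, zero_smul, R.κ_zero]
  · rw [ZMod.val_one, pow_one, one_smul]

theorem Rel.s_mul {y y' : G} {p p' : K} (hy : y * y = s g g' p) (hy' : y' * y' = s g g' p')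
    (hc : y * y' = y' * y) (a a' : K) :
    s y y' a * s y y' a' = s y y' (a + a') * s g g' (carry p p' a a') := by
  have h1 := pow_sq hy a.1 a'.1
  have h2 := pow_sq hy' a.2 a'.2
  rw [R.κ_smul] at h1 h2
  have hcc : Commute (y' ^ a.2.val) (y ^ a'.1.val) := Commute.pow_pow hc.symm _ _
  calc s y y' a * s y y' a'
      = y ^ a.1.val * y ^ a'.1.val * (y' ^ a.2.val * y' ^ a'.2.val) :=
        hcc.mul_mul_mul_comm _ _
    _ = y ^ (a + a').1.val * s g g' ((a.1 * a'.1) • p) *
          (y' ^ (a + a').2.val * s g g' ((a.2 * a'.2) • p')) := by rw [h1, h2]; rfl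
    _ = _ := by
        rw [Commute.mul_mul_mul_comm (R.cκ _ _), carry, R.κ_add]
        rfl

theorem Rel.swap (a b : K) :
    s w w' b * s x x' a = s x x' a * s w w' b * s g g' (pairing a b) := by
  have hp : g = s g g' (1, 0) := by simp [s, ZMod.val_one]
  have hq : g' = s g g' (0, 1) := by simp [s, ZMod.val_one]
  have hr : g * g' = s g g' (1, 1) := by simp [s, ZMod.val_one]
  have h00 := pow_swap (p := s g g' (1, 0)) (by rw [← hp]; exact R.wx) b.1 a.1
  have h10 := pow_swap (p := s g g' (1, 1)) (by rw [← hr]; exact R.w'x) b.2 a.1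
  have h01 := pow_swap (p := s g g' (1, 1)) (by rw [← hr]; exact R.wx') b.1 a.2
  have h11 := pow_swap (p := s g g' (0, 1)) (by rw [← hq]; exact R.w'x') b.2 a.2
  rw [R.κ_smul] at h00 h10 h01 h11
  set X := x ^ a.1.val
  set X' := x' ^ a.2.val
  set Y := w ^ b.1.val
  set Y' := w' ^ b.2.val
  set k00 := s g g' ((a.1 * b.1) • ((1, 0) : K))
  set k10 := s g g' ((a.1 * b.2) • ((1, 1) : K))
  set k01 := s g g' ((a.2 * b.1) • ((1, 1) : K))
  set k11 := s g g' ((a.2 * b.2) • ((0, 1) : K))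
  have hk : s g g' (pairing a b) = k00 * k01 * k11 * k10 := by
    rw [← R.κ_add, ← R.κ_add, ← R.κ_add, pairing]
    congr 1
    rw [add_smul]; abel
  calc Y * Y' * (X * X') = Y * (Y' * X) * X' := by simp only [mul_assoc]
    _ = Y * (X * Y') * (k10 * X') := by rw [h10]; simp only [mul_assoc]
    _ = Y * (X * Y') * (X' * k10) := by rw [show k10 * X' = X' * k10 from R.cκ _ _]
    _ = (Y * X) * (Y' * X') * k10 := by simp only [mul_assoc]
    _ = X * Y * k00 * (X' * Y' * k11) * k10 := by rw [h00, h11]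
    _ = X * Y * (X' * Y') * (k00 * k11) * k10 := by
        rw [Commute.mul_mul_mul_comm (R.cκ _ _)]
    _ = X * (Y * X') * Y' * (k00 * k11) * k10 := by simp only [mul_assoc]
    _ = X * X' * Y * (k01 * Y') * (k00 * k11) * k10 := by rw [h01]; simp only [mul_assoc]
    _ = X * X' * Y * (Y' * k01) * (k00 * k11) * k10 := by
        rw [show k01 * Y' = Y' * k01 from R.cκ _ _]
    _ = X * X' * (Y * Y') * (k01 * k00 * k11 * k10) := by simp only [mul_assoc]
    _ = _ := by
      rw [hk, show k01 * k00 = k00 * k01 from R.cκ _ _]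
      rfl

theorem Rel.param_mul (u v : K × K × K) :
    param x x' w w' g g' u * param x x' w w' g g' v = param x x' w w' g g' (law c u v) := by
  have hw : w * w = s g g' (1, 0) := by rw [R.ww]; simp [s, ZMod.val_one]
  have hw' : w' * w' = s g g' (0, 1) := by rw [R.ww']; simp [s, ZMod.val_one]
  have hA := R.s_mul R.xx R.xx' R.cx u.1 v.1
  have hB := R.s_mul hw hw' R.cw u.2.1 v.2.1
  simp only [param, law]
  rw [R.κ_add, R.κ_add, R.κ_add, R.κ_add]
  set A := s x x' u.1
  set B := s w w' u.2.1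
  set A' := s x x' v.1
  set B' := s w w' v.2.1
  set κu := s g g' u.2.2
  set κv := s g g' v.2.2
  set kA := s g g' (carry c (om c) u.1 v.1)
  set kB := s g g' (carry (1, 0) (0, 1) u.2.1 v.2.1)
  set kP := s g g' (pairing v.1 u.2.1)
  calc A * B * κu * (A' * B' * κv)
      = A * B * (A' * B') * (κu * κv) := Commute.mul_mul_mul_comm (R.cκ _ _) _ _
    _ = A * (B * A') * B' * (κu * κv) := by simp only [mul_assoc]
    _ = (A * A') * B * (kP * B') * (κu * κv) := by
        rw [show B * A' = A' * B * kP from R.swap _ _]; simp only [mul_assoc]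
    _ = (A * A') * B * (B' * kP) * (κu * κv) := by rw [show kP * B' = B' * kP from R.cκ _ _]
    _ = (A * A') * (B * B') * (kP * (κu * κv)) := by simp only [mul_assoc]
    _ = s x x' (u.1 + v.1) * s w w' (u.2.1 + v.2.1) * (kA * kB) * (kP * (κu * κv)) := by
        rw [hA, hB, Commute.mul_mul_mul_comm (R.cκ _ _)]
    _ = s x x' (u.1 + v.1) * s w w' (u.2.1 + v.2.1) * ((kA * kB) * (kP * (κu * κv))) := mul_assoc _ _ _
    _ = _ := by
        congr 1
        calc kA * kB * (kP * (κu * κv)) = (kA * kB * kP) * (κu * κv) := (mul_assoc _ _ _).symm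
          _ = (κu * κv) * (kA * kB * kP) := by
            rw [← R.κ_add, ← R.κ_add, ← R.κ_add]
            exact R.cκ _ _
          _ = _ := by simp only [mul_assoc]

end Table

theorem Data.nonempty_mulEquiv {c : K} {G H : Type*} [Group G] [Group H] (hG : Data c G)
    (hH : Data c H) : Nonempty (G ≃* H) := by
  obtain ⟨x, x', w, w', g, g', R, hf⟩ := hG
  obtain ⟨y, y', v, v', k, k', S, hh⟩ := hH
  refine ⟨{ (Equiv.ofBijective _ hf).symm.trans (Equiv.ofBijective _ hh) with map_mul' := ?_ }⟩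
  intro a b
  obtain ⟨p, rfl⟩ := hf.2 a
  obtain ⟨q, rfl⟩ := hf.2 b
  have e : ∀ r, (Equiv.ofBijective _ hf).symm (param x x' w w' g g' r) = r := fun r =>
    (Equiv.ofBijective _ hf).symm_apply_apply r
  show param y y' v v' k k' ((Equiv.ofBijective _ hf).symm _) =
    param y y' v v' k k' ((Equiv.ofBijective _ hf).symm _) *
      param y y' v v' k k' ((Equiv.ofBijective _ hf).symm _)
  rw [R.param_mul, e, e, e, S.param_mul]

theorem Data.of_mulEquiv {c : K} {G H : Type*} [Group G] [Group H] (hG : Data c G) (e : G ≃* H) :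
    Data c H := by
  obtain ⟨x, x', w, w', g, g', R, hf⟩ := hG
  refine ⟨e x, e x', e w, e w', e g, e g', ⟨fun u => ?_, fun u => ?_, ?_, ?_, ?_, ?_, ?_, ?_, ?_,
    ?_, ?_, ?_, ?_, ?_⟩, ?_⟩
  · rw [← e.apply_symm_apply u, ← map_mul, R.cg, map_mul]
  · rw [← e.apply_symm_apply u, ← map_mul, R.cg', map_mul]
  · rw [← map_mul, R.gg, map_one]
  · rw [← map_mul, R.gg', map_one]
  · rw [← map_mul, R.xx]; simp [s]
  · rw [← map_mul, R.xx']; simp [s]
  · rw [← map_mul, R.ww]
  · rw [← map_mul, R.ww']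
  · rw [← map_mul, R.cx, map_mul]
  · rw [← map_mul, R.cw, map_mul]
  · simp only [← map_mul, R.wx]
  · simp only [← map_mul, R.w'x]
  · simp only [← map_mul, R.wx']
  · simp only [← map_mul, R.w'x']
  · rw [show param (e x) (e x') (e w) (e w') (e g) (e g') = e ∘ param x x' w w' g g' from
      funext fun u => by simp [param, s]]
    exact e.bijective.comp hf

section Models

open CfsgLib.Linear Cfsg.Agent.S3157

theorem data_uni : Data (0, 0) Uni := by
  haveI : Finite Uni := Finite.of_equiv _ Uni.equivTriple.symm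
  refine ⟨⟨1, 0, 0⟩, ⟨⟨0, 1⟩, 0, 0⟩, ⟨1, 1, 0⟩, ⟨⟨0, 1⟩, ⟨0, 1⟩, 0⟩, ⟨0, 0, 1⟩, ⟨0, 0, ⟨1, 1⟩⟩,
    ⟨fun u => ?_, fun u => ?_, ?_, ?_, ?_, ?_, ?_, ?_, ?_, ?_, ?_, ?_, ?_, ?_⟩, ?_⟩
  rotate_right
  · refine (Nat.bijective_iff_injective_and_card _).2 ⟨?_, by
      rw [Uni.card_uni, Nat.card_eq_fintype_card]; rfl⟩
    have hkey : ∀ u v : K × K × K,
        Uni.equivTriple (param (⟨1, 0, 0⟩ : Uni) ⟨⟨0, 1⟩, 0, 0⟩ ⟨1, 1, 0⟩ ⟨⟨0, 1⟩, ⟨0, 1⟩, 0⟩
          ⟨0, 0, 1⟩ ⟨0, 0, ⟨1, 1⟩⟩ u) =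
        Uni.equivTriple (param (⟨1, 0, 0⟩ : Uni) ⟨⟨0, 1⟩, 0, 0⟩ ⟨1, 1, 0⟩ ⟨⟨0, 1⟩, ⟨0, 1⟩, 0⟩
          ⟨0, 0, 1⟩ ⟨0, 0, ⟨1, 1⟩⟩ v) → u = v := by decide +kernel
    exact fun u v h => hkey u v (congrArg _ h)
  · refine Uni.ext' (add_comm _ _) (add_comm _ _) ?_
    show 1 + u.c + 0 * u.b = u.c + 1 + u.a * 0
    ring
  · refine Uni.ext' (add_comm _ _) (add_comm _ _) ?_
    show ⟨1, 1⟩ + u.c + 0 * u.b = u.c + ⟨1, 1⟩ + u.a * 0
    ring
  all_goals exact Uni.equivTriple.injective (by decide +kernel)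

open CfsgLib.UThreeSylow in
theorem data_uSub {F : Type*} [Field F] [Fintype F] (h : Good F 2 4) : Data (0, 1) (uSub h) := by
  have h2 := h.two
  obtain ⟨ξ, hξ⟩ := exists_trace h (c := 1) (one_pow 4)
  set m : F := ξ + ξ ^ 2 with hm
  have hm2 : m ^ 2 + m + 1 = 0 := by grind
  have hm4 : m ^ 4 = m := by grind
  set om' : F := m ^ 2 with hom
  have mk : ∀ a b : F, b + b ^ 4 = a ^ (4 + 1) → ∃ u : uSub h, cA u = a ∧ cB u = b :=
    fun a b => exists_coords h
  have hb : ∀ a : F, ∃ b, b + b ^ 4 = a ^ (4 + 1) := fun a => exists_trace h (h.norm_fixed a)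
  obtain ⟨b₁, hb₁⟩ := hb ξ
  obtain ⟨b₂, hb₂⟩ := hb (om' * ξ)
  obtain ⟨b₃, hb₃⟩ := hb 1
  obtain ⟨b₄, hb₄⟩ := hb om'
  obtain ⟨x, hx, hxb⟩ := mk _ _ hb₁
  obtain ⟨x', hx', hxb'⟩ := mk _ _ hb₂
  obtain ⟨w, hw, hwb⟩ := mk _ _ hb₃
  obtain ⟨w', hw', hwb'⟩ := mk _ _ hb₄
  obtain ⟨g, hg, hgb⟩ := mk 0 1 (by rw [one_pow, zero_pow (by norm_num)]; exact h.add_self 1)
  obtain ⟨g', hg', hgb'⟩ := mk 0 m (by rw [hm4, zero_pow (by norm_num)]; exact h.add_self m)
  have hs : ∀ (y y' : uSub h) (a : K), cA (s y y' a) = a.1.val * cA y + a.2.val * cA y' := by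
    intro y y' a
    obtain ⟨i, j⟩ := a
    rcases zmod2_cases i with rfl | rfl <;> rcases zmod2_cases j with rfl | rfl <;>
      simp [s, coords_one.1, ZMod.val_one, (coords_mul _ _).1]
  have hsB : ∀ (a : K), cB (s g g' a) = a.1.val + a.2.val * m := by
    intro a
    obtain ⟨i, j⟩ := a
    rcases zmod2_cases i with rfl | rfl <;> rcases zmod2_cases j with rfl | rfl <;>
      simp [s, coords_one.2, ZMod.val_one, (coords_mul _ _).2, hg, hgb, hgb']
  have hpA : ∀ u v : uSub h, cA (u * v) = cA u + cA v := fun u v => (coords_mul u v).1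
  have hpB : ∀ u v : uSub h, cB (u * v) = cB u + cB v + cA u ^ 4 * cA v :=
    fun u v => (coords_mul u v).2
  refine ⟨x, x', w, w', g, g', ⟨commute_of_cA_zero hg, commute_of_cA_zero hg',
    sq_eq_one_iff.2 hg, sq_eq_one_iff.2 hg', ?_, ?_, ?_, ?_, ?_, ?_, ?_, ?_, ?_, ?_⟩, ?_⟩
  case refine_11 =>
    refine (Nat.bijective_iff_injective_and_card _).2 ⟨?_, by
      rw [card_uSub, Nat.card_eq_fintype_card]; rfl⟩
    have hbit : ∀ i j : ZMod 2, ((i.val : F) + j.val * m = 0 → i = 0 ∧ j = 0) ∧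
        ((i.val : F) + j.val * om' = 0 → i = 0 ∧ j = 0) := by
      intro i j
      rcases zmod2_cases i with rfl | rfl <;> rcases zmod2_cases j with rfl | rfl <;>
        simp [ZMod.val_one] <;> grind
    have hadd : ∀ i i' : ZMod 2, ((i + i').val : F) = i.val + i'.val := by
      intro i i'
      rcases zmod2_cases i with rfl | rfl <;> rcases zmod2_cases i' with rfl | rfl <;>
        simp [ZMod.val_one, show (1 + 1 : ZMod 2) = 0 from by decide]
      exact (h.add_self 1).symm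
    rintro ⟨a, b, c⟩ ⟨a', b', c'⟩ huv
    have hA := congrArg cA huv
    simp only [param, hpA, hs, hx, hx', hw, hw', hg, hg', mul_zero, add_zero, mul_one] at hA
    set A : F := ((a.1 + a'.1).val : F) + (a.2 + a'.2).val * om' with hAdef
    set B : F := ((b.1 + b'.1).val : F) + (b.2 + b'.2).val * om' with hBdef
    have h0 : A * ξ + B = 0 := by
      rw [hAdef, hBdef, hadd, hadd, hadd, hadd]
      linear_combination hA + ((a'.1.val : F) * ξ + a'.2.val * (om' * ξ) + b'.1.val + b'.2.val * om') * h2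
    have hom4 : om' ^ 4 = om' := by rw [hom, ← pow_mul, mul_comm 2 4, pow_mul, hm4]
    have h4 : ∀ i j : ZMod 2, ((i.val : F) + j.val * om') ^ 4 = (i.val : F) + j.val * om' := by
      intro i j
      rcases zmod2_cases i with rfl | rfl <;> rcases zmod2_cases j with rfl | rfl <;>
        simp [ZMod.val_one]
      · exact hom4
      · linear_combination hom4 + (2 * om' + 3 * om' ^ 2 + 2 * om' ^ 3) * h2
    have hA4 : A ^ 4 = A := h4 _ _
    have hB4 : B ^ 4 = B := h4 _ _
    have h04 : A * ξ ^ 4 + B = 0 := by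
      have e := h.add_pow_two_pow 2 (A * ξ) B
      rw [h0, show (2 : ℕ) ^ 2 = 4 from rfl, zero_pow (by norm_num), mul_pow, hA4, hB4] at e
      exact e.symm
    have hA0 : A = 0 := by linear_combination h0 + h04 - A * hξ - B * h2
    have hB0 : B = 0 := by linear_combination h0 - ξ * hA0
    obtain ⟨p1, p2⟩ := (hbit _ _).2 hA0
    obtain ⟨q1, q2⟩ := (hbit _ _).2 hB0
    have eqz : ∀ i i' : ZMod 2, i + i' = 0 → i = i' := by decide
    obtain rfl : a = a' := Prod.ext (eqz _ _ p1) (eqz _ _ p2)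
    obtain rfl : b = b' := Prod.ext (eqz _ _ q1) (eqz _ _ q2)
    have hC : s g g' c = s g g' c' := mul_left_cancel huv
    have hCB := congrArg cB hC
    rw [hsB, hsB] at hCB
    obtain ⟨r1, r2⟩ := (hbit (c.1 + c'.1) (c.2 + c'.2)).1 (by
      rw [hadd, hadd]
      linear_combination hCB + ((c'.1.val : F) + c'.2.val * m) * h2)
    exact Prod.ext rfl (Prod.ext rfl (Prod.ext (eqz _ _ r1) (eqz _ _ r2)))
  all_goals
    refine coords_ext ?_ ?_ <;>
      simp only [hpA, hpB, hs, hsB, hx, hx', hw, hw', hg, hg', hxb, hxb', hwb, hwb', hgb, hgb', om,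
        ZMod.val_zero, ZMod.val_one, Nat.cast_zero, Nat.cast_one, zero_add, add_zero, mul_zero,
        zero_mul, one_mul, mul_one] <;> grind

end Models

end CfsgLib.SixtyFourModel
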