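import Cfsg.Prelude.Def_Classical
import Cfsg.Agent.LocalEven49.SylowEightData
import Cfsg.Agent.Forms4.SymplecticSimple
import Cfsg.Agent.Forms4.OrthogonalOrders
import Cfsg.Agent.Forms.SymplecticOrder
import Cfsg.Agent.Forms.PSpTransport
import Mathlib

/-!
# Sylow 2-subgroups of `A₈`, `S₈`, `PSp₄(3)` and `O⁻₆(2)`
-/

set_option autoImplicit false
set_option maxRecDepth 100000
set_option maxHeartbeats 1000000

namespace CfsgLib.SylowEight

/-- Two lists closed under the same multiplication table by generators give isomorphic subgroups. -/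
theorem exists_iso_of_tables {G H : Type*} [Group G] [Group H] [Finite G] [Finite H] {N k : ℕ}
    [NeZero N] (L : Fin N → G) (M : Fin N → H) (gen : Fin k → Fin N)
    (step : Fin N → Fin k → Fin N) (par : Fin N → Fin N × Fin k) (hL0 : L 0 = 1) (hM0 : M 0 = 1)
    (hL : ∀ i g, L i * L (gen g) = L (step i g)) (hM : ∀ i g, M i * M (gen g) = M (step i g))
    (hpar : ∀ i, i ≠ 0 → (par i).1 < i ∧ step (par i).1 (par i).2 = i)
    (hinj : Function.Injective L) (hker : ∀ i, M i = 1 → i = 0) :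
    ∃ (S : Subgroup G) (U : Subgroup H), Nat.card S = N ∧ Nat.card U = N ∧ Nonempty (S ≃* U) ∧
      ∀ K : Subgroup H, (∀ g, M (gen g) ∈ K) → U ≤ K := by
  classical
  have key : ∀ j i : Fin N, ∃ l, L i * L j = L l ∧ M i * M j = M l := by
    intro j
    induction j using WellFoundedLT.induction with
    | ind j ih =>
    intro i
    by_cases hj : j = 0
    · exact ⟨i, by rw [hj, hL0, mul_one], by rw [hj, hM0, mul_one]⟩
    obtain ⟨hp, hps⟩ := hpar j hj
    obtain ⟨l, hl1, hl2⟩ := ih _ hp i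
    have eL : L j = L (par j).1 * L (gen (par j).2) := by rw [hL, hps]
    have eM : M j = M (par j).1 * M (gen (par j).2) := by rw [hM, hps]
    exact ⟨step l (par j).2, by rw [eL, ← mul_assoc, hl1, hL],
      by rw [eM, ← mul_assoc, hl2, hM]⟩
  let S₀ : Submonoid (G × H) :=
    { carrier := Set.range fun i => (L i, M i)
      one_mem' := ⟨0, by simp [hL0, hM0]⟩
      mul_mem' := by
        rintro _ _ ⟨i, rfl⟩ ⟨j, rfl⟩
        obtain ⟨l, h1, h2⟩ := key j i
        exact ⟨l, Prod.ext h1.symm h2.symm⟩ }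
  let R : Subgroup (G × H) :=
    { S₀ with
      inv_mem' := fun {a} ha => by
        have h1 : a⁻¹ = a ^ (orderOf a - 1) := by
          refine inv_eq_of_mul_eq_one_right ?_
          rw [← pow_succ', Nat.sub_add_cancel (orderOf_pos a), pow_orderOf_eq_one]
        rw [h1]
        exact S₀.pow_mem ha _ }
  have hR : ∀ {a}, a ∈ R ↔ ∃ i, (L i, M i) = a := Iff.rfl
  let π₁ : R →* G := (MonoidHom.fst G H).comp R.subtype
  let π₂ : R →* H := (MonoidHom.snd G H).comp R.subtype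
  have h1 : Function.Injective π₁ := by
    rw [injective_iff_map_eq_one]
    intro a ha
    obtain ⟨i, hi⟩ := hR.1 a.2
    have hi0 : i = 0 := hinj (by rw [hL0]; exact (congrArg Prod.fst hi).trans ha)
    exact Subtype.ext (by rw [← hi, hi0, hL0, hM0]; rfl)
  have h2 : Function.Injective π₂ := by
    rw [injective_iff_map_eq_one]
    intro a ha
    obtain ⟨i, hi⟩ := hR.1 a.2
    have hi0 : i = 0 := hker i ((congrArg Prod.snd hi).trans ha)
    exact Subtype.ext (by rw [← hi, hi0, hL0, hM0]; rfl)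
  have hcard : Nat.card π₁.range = N := by
    rw [← Nat.card_congr (MonoidHom.ofInjective h1).toEquiv,
      ← Nat.card_eq_of_bijective (fun i => (⟨(L i, M i), i, rfl⟩ : R))
        ⟨fun i j h => hinj (congrArg (fun a : R => a.1.1) h), fun a => by
          obtain ⟨i, hi⟩ := hR.1 a.2
          exact ⟨i, Subtype.ext hi⟩⟩, Nat.card_fin]
  refine ⟨π₁.range, π₂.range, hcard, ?_, ⟨(MonoidHom.ofInjective h1).symm.trans
    (MonoidHom.ofInjective h2)⟩, fun K hK => ?_⟩
  · rw [← Nat.card_congr (MonoidHom.ofInjective h2).toEquiv,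
      Nat.card_congr (MonoidHom.ofInjective h1).toEquiv, hcard]
  · rintro _ ⟨a, rfl⟩
    obtain ⟨i, hi⟩ := hR.1 a.2
    have hall : ∀ i, M i ∈ K := by
      intro i
      induction i using WellFoundedLT.induction with
      | ind i ih =>
      by_cases hi : i = 0
      · rw [hi, hM0]; exact one_mem _
      obtain ⟨hp, hps⟩ := hpar i hi
      rw [← hps, ← hM]
      exact mul_mem (ih _ hp) (hK _)
    have : π₂ a = M i := (congrArg Prod.snd hi).symm
    rw [this]
    exact hall i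

/-- A subgroup of the order of a Sylow 2-subgroup is isomorphic to every Sylow 2-subgroup. -/
theorem nonempty_equiv_sylow {G : Type*} [Group G] [Finite G] {e m : ℕ}
    (hG : Nat.card G = 2 ^ e * m) (hm : ¬ 2 ∣ m) (S : Subgroup G) (hS : Nat.card S = 2 ^ e)
    (P : Sylow 2 G) : Nonempty (S ≃* (P : Subgroup G)) := by
  haveI : Fact (Nat.Prime 2) := ⟨Nat.prime_two⟩
  have hm0 : m ≠ 0 := fun h => hm (h ▸ dvd_zero 2)
  have hc : Nat.card S = 2 ^ (Nat.card G).factorization 2 := by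
    rw [hS, hG, Nat.factorization_mul (pow_ne_zero _ two_ne_zero) hm0, Finsupp.add_apply,
      Nat.factorization_pow_self Nat.prime_two, Nat.factorization_eq_zero_of_not_dvd hm, add_zero]
  exact ⟨(Sylow.ofCard S hc).equiv P⟩

/-- Permutation from its code. -/
def pFun (c : ℕ) (x : Fin 8) : Fin 8 := ⟨(c / 8 ^ (x : ℕ)) % 8, Nat.mod_lt _ (by norm_num)⟩

/-- List lookup as an index. -/
def fin (N : ℕ) [NeZero N] (l : List ℕ) (i : ℕ) : Fin N := Fin.ofNat N (l.getD i 0)

theorem permS_inv : ∀ (i : Fin 128) (x : Fin 8),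
    pFun (permS.getD (fin 128 invS i) 0) (pFun (permS.getD i 0) x) = x ∧
    pFun (permS.getD i 0) (pFun (permS.getD (fin 128 invS i) 0) x) = x := by decide +kernel

theorem permA_inv : ∀ (i : Fin 64) (x : Fin 8),
    pFun (permA.getD (fin 64 invA i) 0) (pFun (permA.getD i 0) x) = x ∧
    pFun (permA.getD i 0) (pFun (permA.getD (fin 64 invA i) 0) x) = x := by decide +kernel

/-- The elements of the Sylow 2-subgroup of `S₈`. -/
def permSEq (i : Fin 128) : Equiv.Perm (Fin 8) :=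
  ⟨pFun (permS.getD i 0), pFun (permS.getD (fin 128 invS i) 0), fun x => (permS_inv i x).1,
    fun x => (permS_inv i x).2⟩

/-- The elements of the Sylow 2-subgroup of `A₈`. -/
def permAEq (i : Fin 64) : Equiv.Perm (Fin 8) :=
  ⟨pFun (permA.getD i 0), pFun (permA.getD (fin 64 invA i) 0), fun x => (permA_inv i x).1,
    fun x => (permA_inv i x).2⟩

theorem permA_even : ∀ i : Fin 64, Equiv.Perm.sign (permAEq i) = 1 := by decide +kernel

/-- Position of a coordinate of the minus type space. -/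
def oIdx : (Fin 2 ⊕ Fin 2) ⊕ Fin 2 → ℕ
  | .inl (.inl i) => i
  | .inl (.inr i) => 2 + i
  | .inr i => 4 + i

/-- Position of a coordinate of the symplectic space. -/
def spIdx : Fin 2 ⊕ Fin 2 → ℕ
  | .inl i => i
  | .inr i => 2 + i

/-- Matrices over the field of order 2. -/
def oMat (i : ℕ) : Matrix ((Fin 2 ⊕ Fin 2) ⊕ Fin 2) ((Fin 2 ⊕ Fin 2) ⊕ Fin 2) (ZMod 2) :=
  Matrix.of fun r c => ((matO.getD i 0 / 2 ^ (6 * oIdx r + oIdx c) % 2 : ℕ) : ZMod 2)

/-- Matrices over the field of order 3. -/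
def spMat (i : ℕ) : Matrix (Fin 2 ⊕ Fin 2) (Fin 2 ⊕ Fin 2) (ZMod 3) :=
  Matrix.of fun r c => ((matSp.getD i 0 / 3 ^ (4 * spIdx r + spIdx c) % 3 : ℕ) : ZMod 3)

theorem oMat_inv : ∀ i : Fin 128,
    oMat i * oMat (fin 128 invS i) = 1 ∧ oMat (fin 128 invS i) * oMat i = 1 := by decide +kernel

theorem oMat_step : ∀ (i : Fin 128) (g : Fin 3),
    oMat i * oMat (fin 128 genS g) = oMat (fin 128 stepS (3 * i + g)) := by decide +kernel

theorem permS_step : ∀ (i : Fin 128) (g : Fin 3) (x : Fin 8),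
    permSEq i (permSEq (fin 128 genS g) x) = permSEq (fin 128 stepS (3 * i + g)) x := by
  decide +kernel

theorem parS_spec : ∀ i : Fin 128, i ≠ 0 → Fin.ofNat 128 (parS.getD i 0 / 4) < i ∧
    fin 128 stepS (3 * (Fin.ofNat 128 (parS.getD i 0 / 4) : ℕ) + (Fin.ofNat 3 (parS.getD i 0 % 4) : ℕ))
      = i := by decide +kernel

theorem permS_inj : ∀ i j : Fin 128, permS.getD i 0 = permS.getD j 0 → i = j := by decide +kernel

theorem permS_code : ∀ i : Fin 128,
    ((permSEq i 0 : ℕ) + 8 * ((permSEq i 1 : ℕ) + 8 * ((permSEq i 2 : ℕ) + 8 * ((permSEq i 3 : ℕ) +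
      8 * ((permSEq i 4 : ℕ) + 8 * ((permSEq i 5 : ℕ) + 8 * ((permSEq i 6 : ℕ) +
        8 * (permSEq i 7 : ℕ)))))))) = permS.getD i 0 := by decide +kernel

theorem oMat_ker : ∀ i : Fin 128, oMat i = 1 → i = 0 := by decide +kernel

theorem oMat_form : ∀ (g : Fin 3) (v : (Fin 2 ⊕ Fin 2) ⊕ Fin 2 → ZMod 2),
    Cfsg.quadFormMinus 2 (ZMod 2) 1 1 (Matrix.mulVec (oMat (fin 128 genS g)) v) =
      Cfsg.quadFormMinus 2 (ZMod 2) 1 1 v := by decide +kernel

theorem spMat_mem_iff : ∀ i : Fin 64,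
    spMat i * Matrix.J (Fin 2) (ZMod 3) * (spMat i).transpose = Matrix.J (Fin 2) (ZMod 3) := by
  decide +kernel

theorem spMat_step : ∀ (i : Fin 64) (g : Fin 4),
    spMat i * spMat (fin 64 genA g) = spMat (fin 64 stepA (4 * i + g)) ∨
      spMat i * spMat (fin 64 genA g) = -spMat (fin 64 stepA (4 * i + g)) := by decide +kernel

theorem permA_step : ∀ (i : Fin 64) (g : Fin 4) (x : Fin 8),
    permAEq i (permAEq (fin 64 genA g) x) = permAEq (fin 64 stepA (4 * i + g)) x := by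
  decide +kernel

theorem parA_spec : ∀ i : Fin 64, i ≠ 0 → Fin.ofNat 64 (parA.getD i 0 / 4) < i ∧
    fin 64 stepA (4 * (Fin.ofNat 64 (parA.getD i 0 / 4) : ℕ) + (Fin.ofNat 4 (parA.getD i 0 % 4) : ℕ))
      = i := by decide +kernel

theorem permA_inj : ∀ i j : Fin 64, permA.getD i 0 = permA.getD j 0 → i = j := by decide +kernel

theorem permA_code : ∀ i : Fin 64,
    ((permAEq i 0 : ℕ) + 8 * ((permAEq i 1 : ℕ) + 8 * ((permAEq i 2 : ℕ) + 8 * ((permAEq i 3 : ℕ) +
      8 * ((permAEq i 4 : ℕ) + 8 * ((permAEq i 5 : ℕ) + 8 * ((permAEq i 6 : ℕ) +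
        8 * (permAEq i 7 : ℕ)))))))) = permA.getD i 0 := by decide +kernel

theorem spMat_zero : spMat 0 = 1 := by decide +kernel

theorem spMat_ker : ∀ i : Fin 64, spMat i = 1 ∨ spMat i = -1 → i = 0 := by decide +kernel

open Matrix in
/-- Sylow 2-subgroups of `A₈` and `PSp₄(3)`. -/
theorem sylow_alternating_psp (F : Type) [Field F] [Fintype F] (hF : Fintype.card F = 3)
    (P : Sylow 2 ↥(alternatingGroup (Fin 8))) (Q : Sylow 2 (Cfsg.PSp 2 F)) :
    Nonempty (↥(P : Subgroup ↥(alternatingGroup (Fin 8))) ≃* ↥(Q : Subgroup (Cfsg.PSp 2 F))) := by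
  classical
  haveI : Fact (Nat.Prime 3) := ⟨Nat.prime_three⟩
  let e : ZMod 3 ≃+* F := FiniteField.ringEquivOfCardEq (by rw [ZMod.card, hF])
  obtain ⟨eP⟩ := CfsgLib.Forms.nonempty_psp_equiv e 2
  let sp : Fin 64 → Matrix.symplecticGroup (Fin 2) (ZMod 3) := fun i =>
    ⟨spMat i, SymplecticGroup.mem_iff.2 (spMat_mem_iff i)⟩
  let mk := QuotientGroup.mk' (Subgroup.center (Matrix.symplecticGroup (Fin 2) (ZMod 3)))
  have hmk : ∀ A B : Matrix.symplecticGroup (Fin 2) (ZMod 3),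
      (A.1 = B.1 ∨ A.1 = -B.1) → mk A = mk B := by
    intro A B h
    rcases h with h | h
    · rw [Subtype.ext h]
    · refine QuotientGroup.eq.2 ?_
      refine CfsgLib.Forms4.mem_center_of_scalar (r := -1) ?_
      have h1 : ((A⁻¹ * A : Matrix.symplecticGroup (Fin 2) (ZMod 3))).1 = 1 := by
        rw [inv_mul_cancel]; rfl
      rw [Submonoid.coe_mul] at h1 ⊢
      rw [h, Matrix.mul_neg] at h1
      rw [neg_one_smul, ← h1, neg_neg]
  let L : Fin 64 → ↥(alternatingGroup (Fin 8)) := fun i =>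
    ⟨permAEq i, Equiv.Perm.mem_alternatingGroup.2 (permA_even i)⟩
  obtain ⟨S, U, hS, hU, ⟨f⟩, -⟩ := exists_iso_of_tables L (fun i => mk (sp i))
    (fun g : Fin 4 => fin 64 genA g) (fun i g => fin 64 stepA (4 * i + g))
    (fun i => (Fin.ofNat 64 (parA.getD i 0 / 4), Fin.ofNat 4 (parA.getD i 0 % 4)))
    (Subtype.ext (Equiv.ext (by decide +kernel)))
    ((hmk _ 1 (Or.inl (show spMat 0 = 1 from spMat_zero))).trans (map_one mk))
    (fun i g => Subtype.ext (Equiv.ext (permA_step i g)))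
    (fun i g => by rw [← map_mul]; exact hmk _ _ (spMat_step i g))
    parA_spec
    (fun i j h => permA_inj i j (by
      have h' : permAEq i = permAEq j := congrArg Subtype.val h
      rw [← permA_code i, ← permA_code j, h']))
    (fun i h => by
      refine spMat_ker i ?_
      obtain ⟨r, hr⟩ := CfsgLib.Forms4.mem_center_iff.1 ((QuotientGroup.eq_one_iff _).1 h)
      have hr2 := CfsgLib.Forms4.sq_eq_one_of_scalar (m := 2) (by norm_num) hr
      rcases sq_eq_one_iff.1 hr2 with rfl | rfl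
      · exact Or.inl (by rw [← one_smul (ZMod 3) (1 : Matrix (Fin 2 ⊕ Fin 2) (Fin 2 ⊕ Fin 2) (ZMod 3))]; exact hr)
      · exact Or.inr (by rw [← neg_one_smul (ZMod 3) (1 : Matrix (Fin 2 ⊕ Fin 2) (Fin 2 ⊕ Fin 2) (ZMod 3))]; exact hr))
  have hA : Nat.card ↥(alternatingGroup (Fin 8)) = 2 ^ 6 * 315 := by
    rw [Nat.card_eq_fintype_card, card_alternatingGroup]; rfl
  have hSp : Nat.card (Matrix.symplecticGroup (Fin 2) (ZMod 3)) = 51840 := by
    rw [CfsgLib.Forms.card_symplecticGroup, ZMod.card]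
    simp [Finset.prod_range_succ]
  have hP : Nat.card (Cfsg.PSp 2 (ZMod 3)) = 2 ^ 6 * 405 := by
    have h := Subgroup.card_eq_card_quotient_mul_card_subgroup
      (Subgroup.center (Matrix.symplecticGroup (Fin 2) (ZMod 3)))
    rw [hSp, CfsgLib.Forms4.card_center_Sp (by norm_num), ZMod.card] at h
    norm_num at h ⊢
    exact (Nat.eq_of_mul_eq_mul_right (by norm_num : 0 < 2) (h.symm.trans (by norm_num)))
  have hP' : Nat.card (Cfsg.PSp 2 F) = 2 ^ 6 * 405 := (Nat.card_congr eP.toEquiv).symm.trans hP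
  obtain ⟨a⟩ := nonempty_equiv_sylow hA (by norm_num) S (hS.trans (by norm_num)) P
  obtain ⟨b⟩ := nonempty_equiv_sylow hP' (by norm_num) (U.map eP.toMonoidHom)
    (by rw [Subgroup.card_map_of_injective (f := eP.toMonoidHom) eP.injective, hU]; norm_num) Q
  exact ⟨(a.symm.trans f).trans ((U.equivMapOfInjective eP.toMonoidHom eP.injective).trans b)⟩

open Matrix in
/-- Sylow 2-subgroups of `S₈` and `O⁻₆(2)`. -/
theorem sylow_symmetric_orthogonal (K : Type) [Field K] [Fintype K] (hK : Fintype.card K = 2)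
    (a b : K) (hab : ∀ z₁ z₂ : K, z₁ ^ 2 + a * z₁ * z₂ + b * z₂ ^ 2 = 0 → z₁ = 0 ∧ z₂ = 0)
    (P : Sylow 2 (Equiv.Perm (Fin 8)))
    (Q : Sylow 2 ↥(Cfsg.isometryGroup K (Cfsg.quadFormMinus 2 K a b))) :
    Nonempty (↥(P : Subgroup (Equiv.Perm (Fin 8))) ≃*
      ↥(Q : Subgroup ↥(Cfsg.isometryGroup K (Cfsg.quadFormMinus 2 K a b)))) := by
  classical
  let e : ZMod 2 ≃+* K := FiniteField.ringEquivOfCardEq (by rw [ZMod.card, hK])
  have hba : a = 1 ∧ b = 1 := by
    obtain ⟨a', rfl⟩ := e.surjective a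
    obtain ⟨b', rfl⟩ := e.surjective b
    have h : ∀ z₁ z₂ : ZMod 2, z₁ ^ 2 + a' * z₁ * z₂ + b' * z₂ ^ 2 = 0 → z₁ = 0 ∧ z₂ = 0 := by
      intro z₁ z₂ h
      have := hab (e z₁) (e z₂) (by
        rw [← map_pow, ← map_pow, ← map_mul, ← map_mul, ← map_mul, ← map_add, ← map_add, h, map_zero])
      exact ⟨e.injective (this.1.trans (map_zero e).symm), e.injective (this.2.trans (map_zero e).symm)⟩
    have key : ∀ a b : ZMod 2, (∀ z₁ z₂ : ZMod 2,
        z₁ ^ 2 + a * z₁ * z₂ + b * z₂ ^ 2 = 0 → z₁ = 0 ∧ z₂ = 0) → a = 1 ∧ b = 1 := by decide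
    obtain ⟨rfl, rfl⟩ := key a' b' h
    exact ⟨map_one e, map_one e⟩
  obtain ⟨rfl, rfl⟩ := hba
  let gl : Fin 128 → GL ((Fin 2 ⊕ Fin 2) ⊕ Fin 2) (ZMod 2) := fun i =>
    ⟨oMat i, oMat (fin 128 invS i), (oMat_inv i).1, (oMat_inv i).2⟩
  let φ : GL ((Fin 2 ⊕ Fin 2) ⊕ Fin 2) (ZMod 2) →* GL ((Fin 2 ⊕ Fin 2) ⊕ Fin 2) K :=
    Units.map e.toRingHom.mapMatrix.toMonoidHom
  have hφ : Function.Injective φ := Units.map_injective fun A B h => by
    ext r c
    exact e.injective (congrFun (congrFun h r) c)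
  obtain ⟨S, U, hS, hU, ⟨f⟩, hgen⟩ := exists_iso_of_tables permSEq (fun i => φ (gl i))
    (fun g : Fin 3 => fin 128 genS g) (fun i g => fin 128 stepS (3 * i + g))
    (fun i => (Fin.ofNat 128 (parS.getD i 0 / 4), Fin.ofNat 3 (parS.getD i 0 % 4)))
    (Equiv.ext (by decide +kernel))
    (by rw [show gl 0 = 1 from Units.ext (show oMat 0 = 1 by decide +kernel), map_one])
    (fun i g => Equiv.ext (permS_step i g))
    (fun i g => by rw [← map_mul]; exact congrArg φ (Units.ext (oMat_step i g)))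
    parS_spec
    (fun i j h => permS_inj i j (by rw [← permS_code i, ← permS_code j, h]))
    (fun i h => oMat_ker i (congrArg Units.val (hφ (h.trans (map_one φ).symm))))
  have hle : U ≤ Cfsg.isometryGroup K (Cfsg.quadFormMinus 2 K 1 1) := by
    refine hgen _ fun g u _ => ?_
    obtain ⟨v, rfl⟩ : ∃ v, e ∘ v = u := ⟨e.symm ∘ u, by ext; simp⟩
    have hq : ∀ w : (Fin 2 ⊕ Fin 2) ⊕ Fin 2 → ZMod 2,
        Cfsg.quadFormMinus 2 K 1 1 (e ∘ w) = e (Cfsg.quadFormMinus 2 (ZMod 2) 1 1 w) := by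
      intro w
      simp only [Cfsg.quadFormMinus, Fin.sum_univ_two, Function.comp_apply, map_add, map_mul,
        map_pow, map_one]
    show Cfsg.quadFormMinus 2 K 1 1 ((oMat (fin 128 genS g)).map e *ᵥ (e ∘ v)) = _
    show _ = Cfsg.quadFormMinus 2 K 1 1 (e ∘ v)
    rw [← show e ∘ (oMat (fin 128 genS g) *ᵥ v) = (oMat (fin 128 genS g)).map e *ᵥ (e ∘ v) from
      funext fun r => RingHom.map_mulVec e.toRingHom _ v r, hq, hq, oMat_form]
  have hO : Nat.card ↥(Cfsg.isometryGroup K (Cfsg.quadFormMinus 2 K 1 1)) = 2 ^ 7 * 405 := by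
    have h := CfsgLib.Forms4.card_isometryGroup_quadFormMinus hK 3 (by norm_num) 1 1 hab
    simp [Finset.prod_range_succ] at h ⊢
    exact h
  have hS8 : Nat.card (Equiv.Perm (Fin 8)) = 2 ^ 7 * 315 := by
    rw [Nat.card_perm, Nat.card_fin]; rfl
  obtain ⟨a⟩ := nonempty_equiv_sylow hS8 (by norm_num) S (hS.trans (by norm_num)) P
  obtain ⟨b⟩ := nonempty_equiv_sylow hO (by norm_num)
    (U.subgroupOf (Cfsg.isometryGroup K (Cfsg.quadFormMinus 2 K 1 1)))
    (by rw [Nat.card_congr (Subgroup.subgroupOfEquivOfLe hle).toEquiv, hU]; norm_num) Q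
  exact ⟨(a.symm.trans f).trans ((Subgroup.subgroupOfEquivOfLe hle).symm.trans b)⟩

end CfsgLib.SylowEight
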