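import Cfsg.Agent.AltSylow.Overgroups
import Cfsg.Agent.Components.Basic
import Cfsg.Agent.GLFourTwo.Subgroups
import Cfsg.Agent.LocalStructure.Cores
import Cfsg.Agent.PLocal.Cores
import Mathlib

/-!
# Permutation groups containing the double transpositions of a pairing

A transitive group with a self-centralising quasisimple normal subgroup that contains all double
transpositions along the cycles of a pairing contains the alternating group (at least eight points).
-/

set_option autoImplicit false
set_option linter.style.haveILetI false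

namespace CfsgLib.SylowOvergroupCore

open Equiv Equiv.Perm

/-- An element of `N_H(E)` whose commutators with a perfect `E` are central in `E` centralises
`E`. -/
theorem mem_centralizer_of_central {H : Type*} [Group H] {E : Subgroup H} (hE : Cfsg.IsQuasisimple E)
    (x : H) (h : ∀ e ∈ E, e * x * e⁻¹ * x⁻¹ ∈ (Subgroup.center ↥E).map E.subtype) :
    x ∈ Subgroup.centralizer (E : Set H) := by
  have hmem : ∀ e : E, (e : H) * x * (e : H)⁻¹ * x⁻¹ ∈ E := fun e => by
    obtain ⟨c, -, hc⟩ := h e e.2
    rw [← hc]; exact c.2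
  have hcen : ∀ e : E, (⟨_, hmem e⟩ : E) ∈ Subgroup.center ↥E := fun e => by
    obtain ⟨c, hc, hce⟩ := h e e.2
    rwa [show (⟨_, hmem e⟩ : E) = c from Subtype.ext hce.symm]
  let φ : ↥E →* ↥(Subgroup.center ↥E) := MonoidHom.mk' (fun e => ⟨⟨_, hmem e⟩, hcen e⟩)
    fun e f => Subtype.ext (Subtype.ext (by
      have hc : (e : H) * ((f : H) * x * (f : H)⁻¹ * x⁻¹) = ((f : H) * x * (f : H)⁻¹ * x⁻¹) * e :=
        congrArg Subtype.val (Subgroup.mem_center_iff.1 (hcen f) e)
      have hc2 : ((e : H) * x * (e : H)⁻¹ * x⁻¹) * ((f : H) * x * (f : H)⁻¹ * x⁻¹) =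
          ((f : H) * x * (f : H)⁻¹ * x⁻¹) * ((e : H) * x * (e : H)⁻¹ * x⁻¹) :=
        congrArg Subtype.val (Subgroup.mem_center_iff.1 (hcen f) ⟨_, hmem e⟩)
      show ((e : H) * f) * x * ((e : H) * f)⁻¹ * x⁻¹ =
        ((e : H) * x * (e : H)⁻¹ * x⁻¹) * ((f : H) * x * (f : H)⁻¹ * x⁻¹)
      rw [hc2]
      calc ((e : H) * f) * x * ((e : H) * f)⁻¹ * x⁻¹
          = (e : H) * ((f : H) * x * (f : H)⁻¹ * x⁻¹) * (x * (e : H)⁻¹ * x⁻¹) := by group
        _ = _ := by rw [hc]; group))
  rw [Subgroup.mem_centralizer_iff]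
  intro e he
  have hker : (⟨e, he⟩ : E) ∈ φ.ker := by
    have h1 : commutator ↥E ≤ φ.ker := by
      rw [commutator_def, Subgroup.commutator_le]
      intro a _ b _
      rw [MonoidHom.mem_ker, map_commutatorElement, commutatorElement_eq_one_iff_mul_comm]
      exact Subtype.ext (Subgroup.mem_center_iff.1 (φ b).2 (φ a : ↥E))
    exact h1 (hE.1.commutator_eq_top ▸ Subgroup.mem_top _)
  have h2 : e * x * e⁻¹ * x⁻¹ = 1 := congrArg (fun c : ↥(Subgroup.center ↥E) => ((c : ↥E) : H)) (MonoidHom.mem_ker.1 hker)
  exact mul_inv_eq_iff_eq_mul.1 (mul_inv_eq_one.1 h2)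

/-- A normal subgroup contains a quasisimple normal subgroup or centralises it. -/
theorem le_or_le_centralizer {H : Type*} [Group H] {E : Subgroup H} [hEn : E.Normal]
    (hE : Cfsg.IsQuasisimple E) (N : Subgroup H) [hN : N.Normal] :
    E ≤ N ∨ N ≤ Subgroup.centralizer (E : Set H) := by
  rcases Components.IsQuasisimple.normal_eq_top_or_le_center hE (N.subgroupOf E) with h | h
  · exact Or.inl (Subgroup.subgroupOf_eq_top.1 h)
  · refine Or.inr fun x hx => mem_centralizer_of_central hE x fun e he => ?_
    have hmE : e * x * e⁻¹ * x⁻¹ ∈ E := by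
      rw [show e * x * e⁻¹ * x⁻¹ = e * (x * e⁻¹ * x⁻¹) by group]
      exact mul_mem he (hEn.conj_mem _ (inv_mem he) x)
    exact ⟨⟨_, hmE⟩, h (mul_mem (hN.conj_mem x hx e) (inv_mem hx) : _ ∈ N), rfl⟩

variable {β : Type*} [Fintype β] [DecidableEq β]

/-- A quasisimple group of permutations acts trivially on an invariant set of at most four
points. -/
theorem fix_of_small {G : Subgroup (Perm β)} {E : Subgroup G} (hE : Cfsg.IsQuasisimple E)
    (S : Finset β) (hS : S.card ≤ 4) (hinv : ∀ e ∈ E, ∀ x ∈ S, (e : Perm β) x ∈ S) :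
    ∀ e ∈ E, ∀ x ∈ S, (e : Perm β) x = x := by
  have hiff : ∀ e : E, ∀ x, ((e : G) : Perm β) x ∈ S ↔ x ∈ S := fun e x => by
    refine ⟨fun h => ?_, hinv e e.2 x⟩
    have := hinv _ (inv_mem e.2) _ h
    rwa [InvMemClass.coe_inv, Perm.coe_inv, Equiv.symm_apply_apply] at this
  let φ : E →* Perm {x // x ∈ S} := MonoidHom.mk' (fun e => ((e : G) : Perm β).subtypePerm (hiff e))
    fun a b => Equiv.ext fun x => Subtype.ext rfl
  haveI hsolv : Group.IsSolvable φ.range := GLFourTwo.solvable_of_card_le_four
    (α := {x // x ∈ S}) (by rwa [Fintype.card_coe]) φ.range.card_subgroup_dvd_card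
  have hker : φ.ker = ⊤ := by
    rcases Components.IsQuasisimple.normal_eq_top_or_le_center hE φ.ker with h | h
    · exact h
    · exfalso
      refine Components.IsQuasisimple.not_isSolvable hE ?_
      haveI : Group.IsSolvable ↥(φ.ker) := Group.isSolvable_of_comm fun a b =>
        Subtype.ext (Subgroup.mem_center_iff.1 (h b.2) a.1)
      exact Group.isSolvable_of_ker_le_range φ.ker.subtype φ.rangeRestrict (by
        rw [Subgroup.range_subtype, MonoidHom.ker_rangeRestrict])
  intro e he x hx
  have h1 : φ ⟨e, he⟩ = 1 := MonoidHom.mem_ker.1 (hker ▸ Subgroup.mem_top _)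
  exact congrArg Subtype.val (DFunLike.congr_fun h1 ⟨x, hx⟩)

/-- The double transposition along two cycles of `z`. -/
def dbl (z : Perm β) (a c : β) : Perm β := swap a (z a) * swap c (z c)

theorem dbl_apply_left {z : Perm β} (hz : ∀ x, z (z x) = x) {a c : β} (hca : c ≠ a)
    (hcz : c ≠ z a) : dbl z a c a = z a := by
  have h2 : z c ≠ a := fun h => hcz (by rw [← h, hz])
  rw [dbl, Perm.mul_apply, swap_apply_of_ne_of_ne hca.symm h2.symm, swap_apply_left]

theorem dbl_apply_ne {z : Perm β} {a c w : β} (h : dbl z a c w ≠ w) :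
    w = a ∨ w = z a ∨ w = c ∨ w = z c := by
  by_contra! hh
  obtain ⟨h1, h2, h3, h4⟩ := hh
  exact h (by rw [dbl, Perm.mul_apply, swap_apply_of_ne_of_ne h3 h4, swap_apply_of_ne_of_ne h1 h2])

/-- A small set misses a moved point together with its partner. -/
theorem exists_moved {z : Perm β} (S : Finset β) (hS : S.card + 1 < Fintype.card β)
    (hfix : ∀ x y, z x = x → z y = y → x = y) : ∃ c, z c ≠ c ∧ c ∉ S := by
  by_contra! h
  have hsub : (Finset.univ \ S).card ≤ 1 := Finset.card_le_one.2 fun a ha b hb => by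
    refine hfix a b ?_ ?_
    · by_contra hne; exact (Finset.mem_sdiff.1 ha).2 (h a hne)
    · by_contra hne; exact (Finset.mem_sdiff.1 hb).2 (h b hne)
  rw [Finset.card_sdiff, Finset.inter_univ, Finset.card_univ] at hsub
  omega

/-- The setting. -/
structure Hyp (G : Subgroup (Perm β)) (E : Subgroup G) (z : Perm β) : Prop where
  normal : E.Normal
  quasi : Cfsg.IsQuasisimple E
  cent : Subgroup.centralizer (E : Set G) ≤ E
  trans : ∀ x y : β, ∃ g ∈ G, g x = y
  invol : ∀ x, z (z x) = x
  fix : ∀ x y, z x = x → z y = y → x = y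
  dbl_mem : ∀ a c, z a ≠ a → z c ≠ c → c ≠ a → c ≠ z a → dbl z a c ∈ G
  eight : 8 ≤ Fintype.card β

namespace Hyp

variable {G : Subgroup (Perm β)} {E : Subgroup G} {z : Perm β}

theorem no_fixed (h : Hyp G E z) (x : β) : ¬ ∀ e ∈ E, (e : Perm β) x = x := by
  intro hx
  haveI := h.normal
  refine Components.IsQuasisimple.center_ne_top h.quasi (top_unique fun e _ => ?_)
  have he : (e : G) = 1 := Subtype.ext (Equiv.ext fun y => by
    obtain ⟨g, hg, rfl⟩ := h.trans x y
    have h1 := hx _ (h.normal.conj_mem _ e.2 ⟨g, hg⟩⁻¹)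
    have h2 := congrArg g h1
    simpa using h2)
  rw [show e = 1 from Subtype.ext he]
  exact one_mem _

theorem dbl_not_central (h : Hyp G E z) {a c : β} (ha : z a ≠ a) (hc : z c ≠ c) (hca : c ≠ a)
    (hcz : c ≠ z a) :
    (⟨dbl z a c, h.dbl_mem a c ha hc hca hcz⟩ : G) ∉ Subgroup.centralizer (E : Set G) := by
  intro hcen
  set S := Finset.univ.filter fun w => dbl z a c w ≠ w with hS
  have hcard : S.card ≤ 4 := (Finset.card_le_card (t := {a, z a, c, z c}) fun w hw => by
    simpa using dbl_apply_ne (Finset.mem_filter.1 hw).2).trans Finset.card_le_four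
  have hinv : ∀ e ∈ E, ∀ x ∈ S, (e : Perm β) x ∈ S := by
    intro e he x hx
    refine Finset.mem_filter.2 ⟨Finset.mem_univ _, fun heq => (Finset.mem_filter.1 hx).2 ?_⟩
    have h1 : (e : Perm β) * dbl z a c = dbl z a c * e :=
      congrArg Subtype.val (Subgroup.mem_centralizer_iff.1 hcen e he)
    have h2 := congrArg (fun p : Perm β => p x) h1
    simp only [Perm.mul_apply, heq] at h2
    exact (e : Perm β).injective h2
  refine h.no_fixed a fun e he => fix_of_small h.quasi S hcard hinv e he a ?_
  exact Finset.mem_filter.2 ⟨Finset.mem_univ _, by rw [dbl_apply_left h.invol hca hcz]; exact ha⟩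

theorem pick (h : Hyp G E z) : ∃ a c, z a ≠ a ∧ z c ≠ c ∧ c ≠ a ∧ c ≠ z a := by
  have := h.eight
  obtain ⟨a, ha, -⟩ := exists_moved (z := z) ∅ (by rw [Finset.card_empty]; omega) h.fix
  obtain ⟨c, hc, hcS⟩ := exists_moved (z := z) {a, z a}
    (by have := Finset.card_le_two (a := a) (b := z a); omega) h.fix
  simp only [Finset.mem_insert, Finset.mem_singleton, not_or] at hcS
  exact ⟨a, c, ha, hc, hcS.1, hcS.2⟩

/-- There is no non-trivial invariant partition. -/
theorem no_partition (h : Hyp G E z) (r : β → β → Prop) [DecidableRel r] (hr : Equivalence r)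
    (hinv : ∀ g ∈ G, ∀ x y, r x y → r (g x) (g y)) {k : ℕ}
    (hk : ∀ x, (Finset.univ.filter (r x)).card = k) (hk2 : 2 ≤ k) (hkm : k < Fintype.card β) :
    False := by
  haveI := h.normal
  set C : β → Finset β := fun x => Finset.univ.filter (r x) with hC
  have hmemC : ∀ x y, y ∈ C x ↔ r x y := fun x y => by simp [hC]
  let K : Subgroup G :=
    { carrier := {g | ∀ y, r y ((g : Perm β) y)}
      one_mem' := fun y => hr.refl y
      mul_mem' := fun {u v} hu hv y => hr.trans (hv y) (hu _)
      inv_mem' := fun {u} hu y => by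
        have := hu (((u⁻¹ : G) : Perm β) y)
        rw [InvMemClass.coe_inv, Perm.coe_inv, Equiv.apply_symm_apply] at this
        rw [InvMemClass.coe_inv]
        exact hr.symm this }
  haveI hKn : K.Normal := ⟨fun u hu g y => by
    have h1 := hinv g g.2 _ _ (hu (((g⁻¹ : G) : Perm β) y))
    simpa using h1⟩
  rcases Nat.lt_or_ge 4 k with hbig | hsmall
  · -- classes of at least five points
    have hfixcls : ∀ a c y, z a ≠ a → z c ≠ c → c ≠ a → c ≠ z a → r y (dbl z a c y) := by
      intro a c y ha hc hca hcz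
      obtain ⟨w, hw, hwd⟩ : ∃ w ∈ C y, dbl z a c w = w := by
        by_contra! hall
        have hle : (C y).card ≤ 4 := (Finset.card_le_card (t := {a, z a, c, z c}) fun w hw => by
          simpa using dbl_apply_ne (hall w hw)).trans Finset.card_le_four
        have hky : (C y).card = k := hk y
        omega
      have h1 := hinv _ (h.dbl_mem a c ha hc hca hcz) _ _ ((hmemC y w).1 hw)
      rw [hwd] at h1
      exact hr.trans ((hmemC y w).1 hw) (hr.symm h1)
    have hpair : ∀ a, r a (z a) := by
      intro a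
      by_cases ha : z a = a
      · rw [ha]; exact hr.refl a
      obtain ⟨c, hc, hcS⟩ := exists_moved (z := z) {a, z a}
        (by have := Finset.card_le_two (a := a) (b := z a); have := h.eight; omega) h.fix
      simp only [Finset.mem_insert, Finset.mem_singleton, not_or] at hcS
      have := hfixcls a c a ha hc hcS.1 hcS.2
      rwa [dbl_apply_left h.invol hcS.1 hcS.2] at this
    obtain ⟨x, -, -⟩ := h.pick
    obtain ⟨a, haC, ha⟩ : ∃ a ∈ C x, z a ≠ a := by
      by_contra! hall
      have : (C x).card ≤ 1 := Finset.card_le_one.2 fun u hu v hv => h.fix u v (hall u hu) (hall v hv)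
      have hkx : (C x).card = k := hk x
      omega
    obtain ⟨c, hcC, hc, hca, hcz⟩ : ∃ c ∈ C x, z c ≠ c ∧ c ≠ a ∧ c ≠ z a := by
      by_contra! hall
      have h1 : ((C x).erase a).erase (z a) ⊆ Finset.univ.filter fun w => z w = w := by
        intro w hw
        simp only [Finset.mem_erase] at hw
        refine Finset.mem_filter.2 ⟨Finset.mem_univ _, ?_⟩
        by_contra hwz
        exact hw.1 (hall w hw.2.2 hwz hw.2.1)
      have h2 : (Finset.univ.filter fun w => z w = w).card ≤ 1 := Finset.card_le_one.2 fun u hu v hv =>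
        h.fix u v (Finset.mem_filter.1 hu).2 (Finset.mem_filter.1 hv).2
      have h3 := (Finset.card_le_card h1).trans h2
      have hkx : (C x).card = k := hk x
      have h4 := Finset.pred_card_le_card_erase (s := C x) (a := a)
      have h5 := Finset.pred_card_le_card_erase (s := (C x).erase a) (a := z a)
      omega
    obtain ⟨w, hw⟩ : ∃ w, ¬ r x w := by
      by_contra! hall
      have hkx : (C x).card = k := hk x
      rw [show C x = Finset.univ from Finset.eq_univ_of_forall fun w => (hmemC x w).2 (hall w),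
        Finset.card_univ] at hkx
      omega
    set d : G := ⟨dbl z a c, h.dbl_mem a c ha hc hca hcz⟩ with hd
    have hsupp : ∀ y, dbl z a c y ≠ y → r x y := by
      intro y hy
      rcases dbl_apply_ne hy with rfl | rfl | rfl | rfl
      exacts [(hmemC x _).1 haC, hr.trans ((hmemC x _).1 haC) (hpair _), (hmemC x _).1 hcC,
        hr.trans ((hmemC x _).1 hcC) (hpair _)]
    have hdK : d ∈ K := fun y => hfixcls a c y ha hc hca hcz
    rcases le_or_le_centralizer h.quasi K with hEK | hKC
    · let R : Subgroup E :=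
        { carrier := {e | ∀ y, ¬ r x y → ((e : G) : Perm β) y = y}
          one_mem' := fun y _ => rfl
          mul_mem' := fun {u v} hu hv y hy => by
            show ((u : G) : Perm β) (((v : G) : Perm β) y) = y
            rw [hv y hy, hu y hy]
          inv_mem' := fun {u} hu y hy => by
            show (((u : G) : Perm β))⁻¹ y = y
            conv_lhs => rw [← hu y hy]
            exact Equiv.symm_apply_apply _ _ }
      haveI : R.Normal := ⟨fun u hu e y hy => by
        show ((e : G) : Perm β) (((u : G) : Perm β) ((((e : G) : Perm β))⁻¹ y)) = y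
        have h1 : ¬ r x ((((e : G) : Perm β))⁻¹ y) := fun hh => hy (by
          have h2 := hEK e.2 ((((e : G) : Perm β))⁻¹ y)
          rw [Perm.coe_inv, Equiv.apply_symm_apply] at h2
          exact hr.trans hh h2)
        rw [hu _ h1, Perm.coe_inv, Equiv.apply_symm_apply]⟩
      rcases Components.IsQuasisimple.normal_eq_top_or_le_center h.quasi R with hR | hR
      · refine h.no_fixed w fun e he => ?_
        have : (⟨e, he⟩ : E) ∈ R := hR ▸ Subgroup.mem_top _
        exact this w hw
      · refine h.dbl_not_central ha hc hca hcz (mem_centralizer_of_central h.quasi d fun e he => ?_)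
        have hmE : e * d * e⁻¹ * d⁻¹ ∈ E := by
          rw [show e * d * e⁻¹ * d⁻¹ = e * (d * e⁻¹ * d⁻¹) by group]
          exact mul_mem he (h.normal.conj_mem _ (inv_mem he) d)
        refine ⟨⟨_, hmE⟩, hR fun y hy => ?_, rfl⟩
        show (e : Perm β) (dbl z a c ((e : Perm β)⁻¹ ((dbl z a c)⁻¹ y))) = y
        have hdy : dbl z a c y = y := by
          by_contra hh; exact hy (hsupp y hh)
        have hdy' : (dbl z a c)⁻¹ y = y := Perm.inv_eq_iff_eq.2 hdy.symm
        have hey : dbl z a c ((e : Perm β)⁻¹ y) = (e : Perm β)⁻¹ y := by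
          by_contra hh
          refine hy ?_
          have h2 := hEK he ((e : Perm β)⁻¹ y)
          rw [Perm.coe_inv, Equiv.apply_symm_apply] at h2
          exact hr.trans (hsupp _ hh) h2
        rw [hdy', hey, Perm.coe_inv, Equiv.apply_symm_apply]
    · exact h.dbl_not_central ha hc hca hcz (hKC hdK)
  · -- classes of at most four points
    obtain ⟨x, -, -⟩ := h.pick
    have hKC : K ≤ Subgroup.centralizer (E : Set G) := by
      refine (le_or_le_centralizer h.quasi K).resolve_left fun hEK => ?_
      refine h.no_fixed x fun e he => fix_of_small h.quasi (C x) ((hk x).trans_le hsmall) ?_ e he x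
        ((hmemC x x).2 (hr.refl x))
      exact fun e he y hy => (hmemC x _).2 (hr.trans ((hmemC x y).1 hy) (hEK he y))
    -- the class of a point meets only one of the partners
    have key : ∀ a c, z a ≠ a → z c ≠ c → c ≠ a → c ≠ z a →
        k = 2 ∧ (r a c ∨ r a (z c)) := by
      intro a c ha hc hca hcz
      set g := dbl z a c with hg
      have hgG := h.dbl_mem a c ha hc hca hcz
      obtain ⟨y, hy⟩ : ∃ y, ¬ r y (g y) := by
        by_contra! hall
        exact h.dbl_not_central ha hc hca hcz (hKC (show (⟨g, hgG⟩ : G) ∈ K from hall))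
      have hmove : ∀ w ∈ C y, g w ≠ w := fun w hw hgw => hy (by
        have h1 := hinv g hgG _ _ ((hmemC y w).1 hw)
        rw [hgw] at h1
        exact hr.trans ((hmemC y w).1 hw) (hr.symm h1))
      have hmove' : ∀ w ∈ C (g y), g w ≠ w := fun w hw hgw => hy (by
        have h1 : r (g y) w := (hmemC _ w).1 hw
        have h2 := hinv g⁻¹ (inv_mem hgG) _ _ h1
        rw [Perm.coe_inv, Equiv.symm_apply_apply, show g.symm w = w from (Equiv.symm_apply_eq g).2 hgw.symm] at h2
        exact hr.trans h2 (hr.symm h1))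
      have hdisj : Disjoint (C y) (C (g y)) := Finset.disjoint_left.2 fun w h1 h2 =>
        hy (hr.trans ((hmemC y w).1 h1) (hr.symm ((hmemC _ w).1 h2)))
      have hsub : C y ∪ C (g y) ⊆ {a, z a, c, z c} := by
        intro w hw
        rcases Finset.mem_union.1 hw with hw | hw
        · simpa using dbl_apply_ne (hmove w hw)
        · simpa using dbl_apply_ne (hmove' w hw)
      have hcard := Finset.card_le_card hsub
      rw [Finset.card_union_of_disjoint hdisj, hk, hk] at hcard
      have h4 := Finset.card_le_four (a := a) (b := z a) (c := c) (d := z c)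
      have hk' : k = 2 := by omega
      refine ⟨hk', ?_⟩
      have heq : C y ∪ C (g y) = {a, z a, c, z c} := Finset.eq_of_subset_of_card_le hsub (by
        rw [Finset.card_union_of_disjoint hdisj, hk, hk]; omega)
      have hga : g a = z a := dbl_apply_left h.invol hca hcz
      obtain ⟨b, hb, hba⟩ : ∃ b ∈ C a, b ≠ a := by
        by_contra! hall
        have : (C a).card ≤ 1 := Finset.card_le_one.2 fun u hu v hv =>
          (hall u hu).trans (hall v hv).symm
        have hka : (C a).card = k := hk a
        omega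
      have hab : r a b := (hmemC a b).1 hb
      have ha4 : a ∈ C y ∪ C (g y) := by rw [heq]; simp
      have hb4 : b ∈ C y ∪ C (g y) := by
        rcases Finset.mem_union.1 ha4 with h1 | h1
        · exact Finset.mem_union_left _ ((hmemC y b).2 (hr.trans ((hmemC y a).1 h1) hab))
        · exact Finset.mem_union_right _ ((hmemC _ b).2 (hr.trans ((hmemC _ a).1 h1) hab))
      rw [heq] at hb4
      simp only [Finset.mem_insert, Finset.mem_singleton] at hb4
      rcases hb4 with rfl | rfl | rfl | rfl
      · exact absurd rfl hba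
      · exfalso
        rcases Finset.mem_union.1 ha4 with h1 | h1
        · have e1 := hinv g hgG _ _ ((hmemC y a).1 h1)
          rw [hga] at e1
          exact hy (hr.trans ((hmemC y a).1 h1) (hr.trans hab (hr.symm e1)))
        · have e1 : r (g y) (g a) := by rw [hga]; exact hr.trans ((hmemC _ a).1 h1) hab
          have e2 := hinv g⁻¹ (inv_mem hgG) _ _ e1
          rw [Perm.coe_inv, Equiv.symm_apply_apply, Equiv.symm_apply_apply] at e2
          exact hy (hr.trans e2 (hr.symm ((hmemC _ a).1 h1)))
      · exact Or.inl hab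
      · exact Or.inr hab
    have h8 := h.eight
    obtain ⟨a, c, ha, hc, hca, hcz⟩ := h.pick
    obtain ⟨e, he, heS⟩ := exists_moved (z := z) {a, z a, c, z c}
      (by have := Finset.card_le_four (a := a) (b := z a) (c := c) (d := z c); omega) h.fix
    simp only [Finset.mem_insert, Finset.mem_singleton, not_or] at heS
    obtain ⟨hk', h1⟩ := key a c ha hc hca hcz
    obtain ⟨-, h2⟩ := key a e ha he heS.1 heS.2.1
    have hze : ∀ u, e ≠ u → z e ≠ z u := fun u hu hh => hu (z.injective hh)
    obtain ⟨u, hu, hau, v, hv, hav, huv⟩ : ∃ u, (u = c ∨ u = z c) ∧ r a u ∧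
        ∃ v, (v = e ∨ v = z e) ∧ r a v ∧ u ≠ v := by
      have n1 : c ≠ e := fun hh => heS.2.2.1 hh.symm
      have n2 : c ≠ z e := fun hh => heS.2.2.2 (by rw [hh, h.invol])
      have n3 : z c ≠ e := fun hh => heS.2.2.2 hh.symm
      have n4 : z c ≠ z e := fun hh => n1 (z.injective hh)
      rcases h1 with h1 | h1 <;> rcases h2 with h2 | h2
      exacts [⟨c, Or.inl rfl, h1, e, Or.inl rfl, h2, n1⟩, ⟨c, Or.inl rfl, h1, z e, Or.inr rfl, h2, n2⟩,
        ⟨z c, Or.inr rfl, h1, e, Or.inl rfl, h2, n3⟩, ⟨z c, Or.inr rfl, h1, z e, Or.inr rfl, h2, n4⟩]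
    have hua : u ≠ a := by
      rcases hu with rfl | rfl
      · exact hca
      · exact fun hh => hcz (by rw [← hh, h.invol])
    have hva : v ≠ a := by
      rcases hv with rfl | rfl
      · exact heS.1
      · exact fun hh => heS.2.1 (by rw [← hh, h.invol])
    have h3 : ({a, u, v} : Finset β) ⊆ C a := by
      intro w hw
      simp only [Finset.mem_insert, Finset.mem_singleton] at hw
      rcases hw with rfl | rfl | rfl
      exacts [(hmemC _ _).2 (hr.refl _), (hmemC _ _).2 hau, (hmemC _ _).2 hav]
    have := Finset.card_le_card h3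
    have hka : (C a).card = k := hk a
    rw [hka, Finset.card_insert_of_notMem (by simp [hua.symm, hva.symm]),
      Finset.card_insert_of_notMem (by simp [huv]), Finset.card_singleton] at this
    omega

open MulAction Pointwise in
theorem isPreprimitive (h : Hyp G E z) : MulAction.IsPreprimitive G β := by
  classical
  haveI : IsPretransitive G β := ⟨fun x y => by
    obtain ⟨g, hg, hxy⟩ := h.trans x y; exact ⟨⟨g, hg⟩, hxy⟩⟩
  refine MulAction.IsPreprimitive.mk fun {B} hB => ?_
  by_contra hnt
  simp only [MulAction.IsTrivialBlock, not_or] at hnt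
  obtain ⟨hsub, huniv⟩ := hnt
  obtain ⟨b, hb⟩ : B.Nonempty := by
    by_contra he
    exact hsub (by rw [Set.not_nonempty_iff_eq_empty.1 he]; exact Set.subsingleton_empty)
  have tr : ∀ x, ∃ g : G, g • b = x := fun x => exists_smul_eq G b x
  choose gg hgg using tr
  let cl : β → Set β := fun x => gg x • B
  have hmem : ∀ x, x ∈ cl x := fun x => ⟨b, hb, hgg x⟩
  have hblock : ∀ (g g' : G) (x : β), x ∈ g • B → x ∈ g' • B → g • B = g' • B := fun g g' x hx hx' => by
    by_contra hne
    exact Set.disjoint_left.1 (hB hne) hx hx'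
  have hcl : ∀ (g : G) (x : β), x ∈ g • B → cl x = g • B := fun g x hx => hblock _ _ x (hmem x) hx
  let r : β → β → Prop := fun x y => cl x = cl y
  haveI : DecidableRel r := Classical.decRel r
  refine h.no_partition r ⟨fun _ => rfl, fun e => e.symm, fun e e' => e.trans e'⟩ ?_
    (k := B.ncard) (fun x => ?_) ?_ ?_
  · intro g hg x y hxy
    have h1 : ∀ w, cl (g w) = (⟨g, hg⟩ : G) • cl w := fun w => by
      rw [show (⟨g, hg⟩ : G) • cl w = ((⟨g, hg⟩ : G) * gg w) • B from smul_smul _ _ _]
      refine hcl _ _ ?_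
      rw [← smul_smul]
      exact Set.smul_mem_smul_set (hmem w)
    show cl (g x) = cl (g y)
    rw [h1, h1, show cl x = cl y from hxy]
  · have e : ((Finset.univ.filter (r x)) : Set β) = cl x := by
      ext y
      simp only [Finset.coe_filter, Finset.mem_univ, true_and, Set.mem_setOf_eq]
      exact ⟨fun hh => by rw [show cl x = cl y from hh]; exact hmem y,
        fun hy => (hcl (gg x) y hy).symm⟩
    rw [← Set.ncard_coe_finset, e, Set.ncard_smul_set]
  · by_contra hlt
    exact hsub ((Set.ncard_le_one_iff_subsingleton).1 (by omega))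
  · rw [← Nat.card_eq_fintype_card, ← Set.ncard_univ]
    exact Set.ncard_lt_ncard (Set.ssubset_univ_iff.2 huniv) (Set.toFinite _)

/-- The case of at least nine points. -/
theorem alternating_le_of_nine (h : Hyp G E z) (h9 : 9 ≤ Fintype.card β) :
    alternatingGroup β ≤ G := by
  haveI := h.isPreprimitive
  -- a pair of `z` moved to a pair which is not one
  obtain ⟨g, hg, i, hi, hne, hgi, hodd⟩ : ∃ g ∈ G, ∃ i, z i ≠ i ∧ g (z i) ≠ z (g i) ∧ z (g i) ≠ g i ∧
      (z (g (z i)) = g (z i) ∨ ∀ w, z w ≠ w) := by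
    by_cases hp : ∃ p, z p = p
    · obtain ⟨p, hp⟩ := hp
      obtain ⟨q, hq, -⟩ := exists_moved (z := z) ∅ (by rw [Finset.card_empty]; omega) h.fix
      obtain ⟨g, hg, hgq⟩ := h.trans (z q) p
      refine ⟨g, hg, q, hq, ?_, ?_, Or.inl (by rw [hgq, hp])⟩
      · rw [hgq]
        intro hh
        have e2 : g q = p := by rw [← h.invol (g q), ← hh, hp]
        exact hq (g.injective (hgq.trans e2.symm))
      · intro hh
        exact hq (g.injective (hgq.trans (h.fix p (g q) hp hh)))
    · push Not at hp
      obtain ⟨g, hg, i, hne⟩ : ∃ g ∈ G, ∃ i, g (z i) ≠ z (g i) := by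
        by_contra! hall
        let r : β → β → Prop := fun x y => y = x ∨ y = z x
        haveI : DecidableRel r := fun x y => by unfold r; infer_instance
        refine h.no_partition r ⟨fun x => Or.inl rfl, ?_, ?_⟩ ?_ (k := 2) (fun x => ?_) le_rfl
          (by omega)
        · intro x y hxy
          rcases hxy with rfl | rfl
          exacts [Or.inl rfl, Or.inr (h.invol x).symm]
        · intro x y w hxy hyw
          rcases hxy with rfl | rfl <;> rcases hyw with rfl | rfl
          exacts [Or.inl rfl, Or.inr rfl, Or.inr rfl, Or.inl (h.invol x)]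
        · intro g hg x y hxy
          rcases hxy with rfl | rfl
          exacts [Or.inl rfl, Or.inr (hall g hg x)]
        · rw [show Finset.univ.filter (r x) = {x, z x} from Finset.ext fun y => by simp [r]]
          exact Finset.card_pair (hp x).symm
      exact ⟨g, hg, i, hp i, hne, hp _, Or.inr hp⟩
  set a := g i with hadef
  set e := g (z i) with hedef
  have hea : e ≠ a := fun hh => hi (g.injective hh)
  -- another moved pair avoiding `{a, z a}`
  obtain ⟨j, hj, hjS⟩ := exists_moved (z := z)
    {i, z i, g.symm (z a), z (g.symm (z a))}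
    (by have := Finset.card_le_four (a := i) (b := z i) (c := g.symm (z a)) (d := z (g.symm (z a)))
        omega) h.fix
  simp only [Finset.mem_insert, Finset.mem_singleton, not_or] at hjS
  obtain ⟨hj1, hj2, hj3, hj4⟩ := hjS
  set x := g j with hxdef
  set y := g (z j) with hydef
  have hxy : x ≠ y := fun hh => hj (g.injective hh).symm
  have hxa : x ≠ a := fun hh => hj1 (g.injective hh)
  have hxe : x ≠ e := fun hh => hj2 (g.injective hh)
  have hxza : x ≠ z a := fun hh => hj3 (by rw [← hh, hxdef, Equiv.symm_apply_apply])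
  have hya : y ≠ a := fun hh => hj2 (by rw [← g.injective hh, h.invol])
  have hye : y ≠ e := fun hh => hj1 (z.injective (g.injective hh))
  have hyza : y ≠ z a := fun hh => hj4 (by rw [← hh, hydef, Equiv.symm_apply_apply, h.invol])
  obtain ⟨c, hc, hcS⟩ : ∃ c, z c ≠ c ∧ c ∉ ({a, z a, e, z e, x, z x, y, z y} : Finset β) := by
    rcases hodd with hfix | hall
    · obtain ⟨c, hc, hcS⟩ := exists_moved (z := z) {a, z a, e, x, z x, y, z y} (by
        have h1 := Finset.card_le_four (a := x) (b := z x) (c := y) (d := z y)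
        have h2 := Finset.card_insert_le a (insert (z a) (insert e {x, z x, y, z y}))
        have h3 := Finset.card_insert_le (z a) (insert e ({x, z x, y, z y} : Finset β))
        have h4 := Finset.card_insert_le e ({x, z x, y, z y} : Finset β)
        omega) h.fix
      refine ⟨c, hc, ?_⟩
      simp only [Finset.mem_insert, Finset.mem_singleton, hfix] at hcS ⊢
      tauto
    · obtain ⟨c, hcS⟩ := AltSylow.exists_notMem ({a, z a, e, z e, x, z x, y, z y} : Finset β) (by
        have h1 := Finset.card_le_four (a := x) (b := z x) (c := y) (d := z y)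
        have h2 := Finset.card_insert_le a (insert (z a) (insert e (insert (z e) {x, z x, y, z y})))
        have h3 := Finset.card_insert_le (z a) (insert e (insert (z e) ({x, z x, y, z y} : Finset β)))
        have h4 := Finset.card_insert_le e (insert (z e) ({x, z x, y, z y} : Finset β))
        have h5 := Finset.card_insert_le (z e) ({x, z x, y, z y} : Finset β)
        omega)
      exact ⟨c, hall c, hcS⟩
  simp only [Finset.mem_insert, Finset.mem_singleton, not_or] at hcS
  obtain ⟨c1, c2, c3, c4, c5, c6, c7, c8⟩ := hcS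
  have hczc : ∀ {u}, c ≠ z u → z c ≠ u := fun hu hh => hu (by rw [← hh, h.invol])
  have d1 : dbl z a c ∈ G := h.dbl_mem a c hgi hc c1 c2
  have d2 : swap a e * swap x y ∈ G := by
    have h0 := h.dbl_mem i j hi hj hj1 hj2
    have := mul_mem (mul_mem hg h0) (inv_mem hg)
    rwa [dbl, show g * (swap i (z i) * swap j (z j)) * g⁻¹ =
      (g * swap i (z i) * g⁻¹) * (g * swap j (z j) * g⁻¹) by group,
      mul_inv_eq_iff_eq_mul.2 (Equiv.mul_swap_eq_swap_mul g i (z i)),
      mul_inv_eq_iff_eq_mul.2 (Equiv.mul_swap_eq_swap_mul g j (z j))] at this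
  have hsq := AltSylow.sq_overlap (a := z a) (b := a) (c := e) (u := x) (v := y) (e := c) (f := z c)
    hgi (Ne.symm hne) hea.symm hxy (Ne.symm hc)
    ⟨hxza.symm, hyza.symm, Ne.symm c2, fun hh => c1 (z.injective hh).symm⟩
    ⟨hxa.symm, hya.symm, Ne.symm c1, (hczc c2).symm⟩
    ⟨hxe.symm, hye.symm, Ne.symm c3, (hczc c4).symm⟩
    ⟨Ne.symm c5, (hczc c6).symm, Ne.symm c7, (hczc c8).symm⟩
  have hmem : AltSylow.cyc3 (z a) a e ∈ G := by
    rw [← hsq]
    have d1' : swap (z a) a * swap c (z c) ∈ G := by rw [swap_comm]; exact d1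
    exact mul_mem (mul_mem d2 d1') (mul_mem d2 d1')
  exact alternatingGroup_le_of_isPreprimitive_of_isThreeCycle_mem h.isPreprimitive
    (AltSylow.cyc3_isThreeCycle hgi (Ne.symm hne) hea.symm) hmem

end Hyp

open MulAction in
/-- The case of eight points. -/
theorem alternating_le_of_eight {G : Subgroup (Perm (Fin 8))} {E : Subgroup G} {z : Perm (Fin 8)}
    (h : Hyp G E z) (h64 : 64 ∣ Nat.card G) : alternatingGroup (Fin 8) ≤ G := by
  haveI := h.normal
  haveI : Fact (Nat.Prime 2) := ⟨Nat.prime_two⟩
  set G₀ := G ⊓ alternatingGroup (Fin 8) with hG₀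
  set σ : G →* ℤˣ := Perm.sign.comp G.subtype with hσ
  have hker : σ.ker = G₀.subgroupOf G := Subgroup.ext fun g => by
    simp [hσ, hG₀, Subgroup.mem_subgroupOf, MonoidHom.mem_ker, Perm.mem_alternatingGroup]
  let e₀ : σ.ker ≃* G₀ := (MulEquiv.subgroupCongr hker).trans (Subgroup.subgroupOfEquivOfLe inf_le_left)
  have hEk : E ≤ σ.ker := by
    have h1 : commutator ↥E ≤ (σ.comp E.subtype).ker := Abelianization.commutator_subset_ker _
    intro e he
    exact h1 (h.quasi.1.commutator_eq_top ▸ Subgroup.mem_top (⟨e, he⟩ : E))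
  have hns : ¬ Group.IsSolvable G₀ := fun hs => Components.IsQuasisimple.not_isSolvable h.quasi
    (Group.isSolvable_of_isSolvable_injective (f := e₀.toMonoidHom.comp (Subgroup.inclusion hEk))
      (e₀.injective.comp (Subgroup.inclusion_injective hEk)))
  have h32 : 32 ∣ Nat.card G₀ := by
    have h1 := σ.ker.card_mul_index
    rw [Subgroup.index_ker, Nat.card_congr e₀.toEquiv] at h1
    have h2 : Nat.card σ.range ∣ 2 := by
      have := σ.range.card_subgroup_dvd_card
      simpa [Nat.card_eq_fintype_card, Fintype.card_units_int] using this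
    have h3 : 64 ∣ Nat.card G₀ * 2 := (h1 ▸ h64).trans (Nat.mul_dvd_mul_left _ h2)
    omega
  have hcore : Cfsg.pCore 2 G₀ = ⊥ := by
    rw [← CfsgLib.PLocal.map_pCore_equiv (p := 2) e₀, Subgroup.map_eq_bot_iff_of_injective _ e₀.injective]
    haveI hchar : (Cfsg.pCore 2 σ.ker).Characteristic :=
      Subgroup.characteristic_iff_map_eq.mpr fun e => CfsgLib.PLocal.map_pCore_equiv e
    set N : Subgroup G := (Cfsg.pCore 2 σ.ker).map σ.ker.subtype with hN
    haveI : N.Normal := ConjAct.normal_of_characteristic_of_normal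
    have hNp : IsPGroup 2 N := (LocalStructure.pCore_isPGroup (p := 2) (G := σ.ker)).map _
    rw [← Subgroup.map_eq_bot_iff_of_injective _ σ.ker.subtype_injective, ← hN]
    have hEN : ¬ E ≤ N := fun hle => Components.IsQuasisimple.not_isSolvable h.quasi (by
      haveI : Group.IsNilpotent N := hNp.isNilpotent
      exact Group.isSolvable_of_isSolvable_injective (Subgroup.inclusion_injective hle))
    have hNC : N ≤ Subgroup.centralizer (E : Set G) :=
      (le_or_le_centralizer h.quasi N).resolve_left hEN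
    have hNE : N ≤ E := hNC.trans h.cent
    by_contra hne
    obtain ⟨u, huN, hu⟩ := N.ne_bot_iff_exists_ne_one.1 hne |>.elim fun u hu =>
      (⟨u.1, u.2, fun h1 => hu (Subtype.ext h1)⟩ : ∃ u : G, u ∈ N ∧ u ≠ 1)
    haveI := h.isPreprimitive
    haveI hNt : IsPretransitive N (Fin 8) := IsQuasiPreprimitive.isPretransitive_of_normal fun hfix => hu (by
      refine Subtype.ext (Equiv.ext fun x => ?_)
      exact (Set.eq_univ_iff_forall.1 hfix x) ⟨u, huN⟩)
    refine hEN fun e he => ?_
    obtain ⟨⟨v, hv⟩, hvb⟩ := exists_smul_eq N (0 : Fin 8) ((e : Perm (Fin 8)) 0)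
    suffices e = v from this ▸ hv
    refine Subtype.ext (Equiv.ext fun x => ?_)
    obtain ⟨⟨w, hw⟩, hwx⟩ := exists_smul_eq N (0 : Fin 8) x
    have hvb' : (v : Perm (Fin 8)) 0 = (e : Perm (Fin 8)) 0 := hvb
    have hwx' : (w : Perm (Fin 8)) 0 = x := hwx
    have h1 : e * w = w * e := Subgroup.mem_centralizer_iff.1 (hNC hw) e he
    have h2 : v * w = w * v := Subgroup.mem_centralizer_iff.1 (hNC hw) v (hNE hv)
    have h1' := congrArg (fun p : G => (p : Perm (Fin 8)) 0) h1
    have h2' := congrArg (fun p : G => (p : Perm (Fin 8)) 0) h2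
    simp only [Subgroup.coe_mul, Perm.mul_apply, hwx', hvb'] at h1' h2'
    rw [h1', h2']
  have hA := GLFourTwo.card_alt 8 (by norm_num)
  rw [show (8 : ℕ).factorial = 40320 from rfl] at hA
  suffices hc : Nat.card G₀ = 20160 by
    have hle : Nat.card (alternatingGroup (Fin 8)) ≤ Nat.card G₀ := by omega
    have := Subgroup.eq_of_le_of_card_ge (inf_le_right : G₀ ≤ alternatingGroup (Fin 8)) hle
    exact this ▸ inf_le_left
  have c5 := GLFourTwo.card_alt 5 (by norm_num)
  have c6 := GLFourTwo.card_alt 6 (by norm_num)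
  have c7 := GLFourTwo.card_alt 7 (by norm_num)
  rw [show (5 : ℕ).factorial = 120 from rfl] at c5
  rw [show (6 : ℕ).factorial = 720 from rfl] at c6
  rw [show (7 : ℕ).factorial = 5040 from rfl] at c7
  have p5 : Nat.card (Perm (Fin 5)) = 120 := by rw [Nat.card_perm, Nat.card_fin]; rfl
  have p6 : Nat.card (Perm (Fin 6)) = 720 := by rw [Nat.card_perm, Nat.card_fin]; rfl
  rcases GLFourTwo.bigList_of_le_alt G₀ inf_le_right hns hcore with
    (⟨⟨e⟩⟩ | ⟨⟨e⟩⟩ | ⟨⟨e⟩⟩ | ⟨⟨e⟩⟩) | ⟨⟨e⟩⟩ | ⟨⟨e⟩⟩ | ⟨⟨e⟩⟩ | ⟨M, hMn, hM3, hM⟩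
  · have := Nat.card_congr e.toEquiv; omega
  · have := Nat.card_congr e.toEquiv; omega
  · have := Nat.card_congr e.toEquiv; omega
  · have := Nat.card_congr e.toEquiv; omega
  · have := Nat.card_congr e.toEquiv; omega
  · have := Nat.card_congr e.toEquiv; omega
  · have := (Nat.card_congr e.toEquiv).trans GLFourTwo.card_GL32; omega
  · have h1 := M.card_mul_index
    rw [hM3, Subgroup.index] at h1
    rcases hM with ⟨⟨e⟩⟩ | ⟨⟨e⟩⟩ <;> (have := Nat.card_congr e.toEquiv; omega)

end CfsgLib.SylowOvergroupCore
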