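import Cfsg.Agent.LocalEven49.SylowOvergroupCore
import Cfsg.Agent.Components.FStar
import Cfsg.Agent.GLFourTwo.Restrict
import Cfsg.Agent.Sims60.AltBig
import Mathlib

/-!
# Subgroups of the symmetric group containing a Sylow 2-subgroup of the alternating group

If such a subgroup has quasisimple generalized Fitting subgroup, this is an alternating group of
degree at least `n - 3`.
-/

set_option autoImplicit false
set_option linter.style.haveILetI false

namespace CfsgLib.SylowOvergroupMain

open Equiv Equiv.Perm SylowOvergroupCore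

variable {β : Type*} [Fintype β] [DecidableEq β]

/-- Orbits of a Sylow 2-subgroup of the symmetric group are orbits of its even part. -/
theorem exists_even_move (h5 : 5 ≤ Fintype.card β) {z : Perm β} (hz : AltSylow.IsPairing z)
    (P : Sylow 2 (Perm β)) (hP : (P : Subgroup (Perm β)) ≤ Subgroup.centralizer {z}) (x : β)
    {p : Perm β} (hp : p ∈ (P : Subgroup (Perm β))) :
    ∃ t ∈ (P : Subgroup (Perm β)) ⊓ alternatingGroup β, t x = p x := by
  rcases Int.units_eq_one_or (Perm.sign p) with hs | hs
  · exact ⟨p, ⟨hp, mem_alternatingGroup.2 hs⟩, rfl⟩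
  · obtain ⟨c, hc, hcS⟩ := exists_moved (z := z) {p x, z (p x)}
      (by have := Finset.card_le_two (a := p x) (b := z (p x)); omega) hz.2
    simp only [Finset.mem_insert, Finset.mem_singleton, not_or] at hcS
    refine ⟨swap c (z c) * p, ⟨mul_mem (AltSylow.base_le hz.1 P hP (AltSylow.swap_mem_base hz.1 c)) hp,
      mem_alternatingGroup.2 (by rw [Perm.sign_mul, sign_swap (Ne.symm hc), hs]; rfl)⟩, ?_⟩
    rw [Perm.mul_apply]
    exact swap_apply_of_ne_of_ne (Ne.symm hcS.1) (fun hh => hcS.2 (by rw [hh, hz.1]))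

/-- At most three points have a Sylow 2-orbit inside one cycle of the pairing. -/
theorem card_small_le {z : Perm β} (hz : AltSylow.IsPairing z) (P : Sylow 2 (Perm β))
    (hP : (P : Subgroup (Perm β)) ≤ Subgroup.centralizer {z}) (S : Finset β)
    (hS : ∀ x ∈ S, ∀ p ∈ (P : Subgroup (Perm β)), p x = x ∨ p x = z x) : S.card ≤ 3 := by
  set F := Finset.univ.filter fun x => z x = x with hF
  have hFc : F.card ≤ 1 := Finset.card_le_one.2 fun a ha b hb =>
    hz.2 a b (Finset.mem_filter.1 ha).2 (Finset.mem_filter.1 hb).2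
  by_cases hall : ∀ x ∈ S, z x = x
  · have := Finset.card_le_card (s := S) (t := F) fun x hx =>
      Finset.mem_filter.2 ⟨Finset.mem_univ _, hall x hx⟩
    omega
  push Not at hall
  obtain ⟨x, hxS, hx⟩ := hall
  suffices hsub : S ⊆ F ∪ {x, z x} by
    have := (Finset.card_le_card hsub).trans (Finset.card_union_le _ _)
    have := Finset.card_le_two (a := x) (b := z x)
    omega
  intro u huS
  by_contra hu
  simp only [Finset.mem_union, Finset.mem_insert, Finset.mem_singleton, hF, Finset.mem_filter,
    Finset.mem_univ, true_and, not_or] at hu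
  obtain ⟨huz, hux, huzx⟩ := hu
  set s := swap x u * swap (z x) (z u) with hs
  have h1 : z u ≠ x := fun hh => huzx (by rw [← hh, hz.1])
  have h2 : z u ≠ z x := fun hh => hux (z.injective hh)
  have sx : s x = u := by
    rw [hs, Perm.mul_apply, swap_apply_of_ne_of_ne (Ne.symm hx) h1.symm, swap_apply_left]
  have su : s u = x := by
    rw [hs, Perm.mul_apply, swap_apply_of_ne_of_ne huzx (Ne.symm huz), swap_apply_right]
  have szx : s (z x) = z u := by
    rw [hs, Perm.mul_apply, swap_apply_left, swap_apply_of_ne_of_ne h1 huz]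
  have szu : s (z u) = z x := by
    rw [hs, Perm.mul_apply, swap_apply_right, swap_apply_of_ne_of_ne hx (Ne.symm huzx)]
  have so : ∀ y, y ≠ x → y ≠ u → y ≠ z x → y ≠ z u → s y = y := fun y a b c d => by
    rw [hs, Perm.mul_apply, swap_apply_of_ne_of_ne c d, swap_apply_of_ne_of_ne a b]
  have hss : ∀ y, s (s y) = y := fun y => by
    by_cases a : y = x
    · rw [a, sx, su]
    by_cases b : y = u
    · rw [b, su, sx]
    by_cases c : y = z x
    · rw [c, szx, szu]
    by_cases d : y = z u
    · rw [d, szu, szx]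
    rw [so y a b c d, so y a b c d]
  have hsz : ∀ y, s (z y) = z (s y) := fun y => by
    by_cases a : y = x
    · rw [a, szx, sx]
    by_cases b : y = u
    · rw [b, szu, su]
    by_cases c : y = z x
    · rw [c, hz.1, sx, szx, hz.1]
    by_cases d : y = z u
    · rw [d, hz.1, su, szu, hz.1]
    rw [so y a b c d, so (z y) (fun hh => c (by rw [← hh, hz.1])) (fun hh => d (by rw [← hh, hz.1]))
      (fun hh => a (z.injective hh)) (fun hh => b (z.injective hh))]
  have hcomm : ∀ {p : Perm β}, p ∈ (P : Subgroup (Perm β)) → ∀ y, p (z y) = z (p y) := fun hp y =>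
    congrArg (fun q : Perm β => q y)
      (Subgroup.mem_centralizer_singleton_iff.1 (hP hp))
  have hinvs : s⁻¹ = s := Equiv.ext fun y => Perm.inv_eq_iff_eq.2 (hss y).symm
  have key : ∀ p ∈ (P : Subgroup (Perm β)), s * p * s⁻¹ ∈ (P : Subgroup (Perm β)) := by
    intro p hp
    have hf : s * p * s⁻¹ * p⁻¹ ∈ AltSylow.base z := by
      refine (AltSylow.mem_base_iff hz.1).2 ⟨?_, fun y => ?_⟩
      · have c1 : Commute s z := Equiv.ext fun y => hsz y
        have c2 : Commute p z := Subgroup.mem_centralizer_singleton_iff.1 (hP hp)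
        exact ((c1.mul_left c2).mul_left c1.inv_left).mul_left c2.inv_left
      · have hpi := inv_mem hp
        obtain ⟨w, rfl⟩ := p.surjective y
        simp only [hinvs, Perm.mul_apply, Perm.coe_inv, Equiv.symm_apply_apply]
        have hpx := hS x hxS p hp
        have hpu := hS u huS p hp
        by_cases a : w = x
        · rw [a, sx]
          rcases hpx with e | e <;> rcases hpu with e' | e' <;> simp [e, e', su, szu, hz.1]
        by_cases b : w = u
        · rw [b, su]
          rcases hpx with e | e <;> rcases hpu with e' | e' <;> simp [e, e', sx, szx, hz.1]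
        by_cases c : w = z x
        · rw [c, szx, hcomm hp u, hcomm hp x]
          rcases hpx with e | e <;> rcases hpu with e' | e' <;> simp [e, e', su, szu, hz.1]
        by_cases d : w = z u
        · rw [d, szu, hcomm hp x, hcomm hp u]
          rcases hpx with e | e <;> rcases hpu with e' | e' <;> simp [e, e', sx, szx, hz.1]
        left
        have e1 : ∀ v, v ∈ S → w ≠ v → w ≠ z v → p w ≠ v ∧ p w ≠ z v := by
          intro v hv hwv hwzv
          have hpv := hS v hv p hp
          refine ⟨fun hh => ?_, fun hh => ?_⟩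
          · rcases hpv with e | e
            · exact hwv (p.injective (hh.trans e.symm))
            · exact hwzv (p.injective (hh.trans (by rw [hcomm hp, e, hz.1])))
          · rcases hpv with e | e
            · exact hwzv (p.injective (hh.trans (by rw [hcomm hp, e])))
            · exact hwv (p.injective (hh.trans e.symm))
        rw [so w a b c d, so (p w) (e1 x hxS a c).1 (e1 u huS b d).1 (e1 x hxS a c).2 (e1 u huS b d).2]
    have := mul_mem (AltSylow.base_le hz.1 P hP hf) hp
    rwa [inv_mul_cancel_right] at this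
  have hsN : s ∈ Subgroup.normalizer ((P : Subgroup (Perm β)) : Set (Perm β)) := by
    refine Subgroup.mem_normalizer_iff.2 fun p => ⟨key p, fun h => ?_⟩
    have := key _ h
    rwa [show s * (s * p * s⁻¹) * s⁻¹ = s⁻¹ * (s * p * s⁻¹) * s from by rw [hinvs],
      show s⁻¹ * (s * p * s⁻¹) * s = p by group] at this
  have := hS x hxS s (AltSylow.normalizer_sylow P hsN)
  rw [sx] at this
  exact this.elim hux huzx

open Classical in
/-- The points whose orbit is inside a cycle of the pairing. -/
noncomputable def small (z : Perm β) (P : Sylow 2 (Perm β)) : Finset β :=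
  Finset.univ.filter fun x => ∀ p ∈ (P : Subgroup (Perm β)), p x = x ∨ p x = z x

theorem mem_small {z : Perm β} {P : Sylow 2 (Perm β)} {x : β} :
    x ∈ small z P ↔ ∀ p ∈ (P : Subgroup (Perm β)), p x = x ∨ p x = z x := by
  classical
  rw [small, Finset.mem_filter]; simp

open MulAction in
/-- The other points fall into orbits of size divisible by four. -/
theorem four_dvd_card_compl {z : Perm β} (hz : AltSylow.IsPairing z) (P : Sylow 2 (Perm β))
    (hP : (P : Subgroup (Perm β)) ≤ Subgroup.centralizer {z}) : 4 ∣ (small z P)ᶜ.card := by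
  classical
  haveI : Fact (Nat.Prime 2) := ⟨Nat.prime_two⟩
  let o : β → Finset β := fun x => (orbit (P : Subgroup (Perm β)) x).toFinset
  have hzP := AltSylow.pairing_mem z hz P hP
  have horb : ∀ x y, y ∈ o x ↔ orbit (P : Subgroup (Perm β)) y = orbit (P : Subgroup (Perm β)) x :=
    fun x y => by rw [Set.mem_toFinset, orbit_eq_iff]
  have hcomm : ∀ {p : Perm β}, p ∈ (P : Subgroup (Perm β)) → ∀ y, p (z y) = z (p y) := fun hp y =>
    congrArg (fun q : Perm β => q y) (Subgroup.mem_centralizer_singleton_iff.1 (hP hp))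
  have hbig : ∀ x ∈ (small z P)ᶜ, 4 ∣ (o x).card ∧ o x ⊆ (small z P)ᶜ := by
    intro x hx
    simp only [Finset.mem_compl, mem_small] at hx
    push Not at hx
    obtain ⟨p, hp, hpx, hpzx⟩ := hx
    have hzx : z x ≠ x := fun hh => hpx (hz.2 _ _ (by rw [← hcomm hp, hh]) hh)
    have h3 : ({x, z x, p x} : Finset β) ⊆ o x := by
      intro y hy
      simp only [Finset.mem_insert, Finset.mem_singleton] at hy
      rw [Set.mem_toFinset]
      rcases hy with rfl | rfl | rfl
      exacts [mem_orbit_self _, mem_orbit x (⟨z, hzP⟩ : (P : Subgroup (Perm β))),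
        mem_orbit x (⟨p, hp⟩ : (P : Subgroup (Perm β)))]
    have hcard : 3 ≤ (o x).card := by
      refine le_trans ?_ (Finset.card_le_card h3)
      rw [Finset.card_insert_of_notMem (by simp [Ne.symm hzx, Ne.symm hpx]),
        Finset.card_insert_of_notMem (by simp [Ne.symm hpzx]), Finset.card_singleton]
    refine ⟨?_, fun y hy => ?_⟩
    · obtain ⟨k, hk⟩ := P.isPGroup'.card_orbit x
      have e : (o x).card = 2 ^ k := by
        rw [← hk, ← Nat.card_eq_card_toFinset]
      have : 2 ≤ k := by
        by_contra hlt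
        have := Nat.pow_le_pow_right (show 1 ≤ 2 by omega) (show k ≤ 1 by omega)
        omega
      rw [e]
      exact Nat.pow_dvd_pow 2 this
    · simp only [Finset.mem_compl, mem_small]
      intro hys
      have hy' := (horb x y).1 hy
      have hsub : o x ⊆ {y, z y} := fun w hw => by
        rw [Set.mem_toFinset, ← hy'] at hw
        obtain ⟨⟨q, hq⟩, rfl⟩ := hw
        rcases hys q hq with e | e <;> simp [Subgroup.smul_def, e]
      have := (Finset.card_le_card hsub).trans Finset.card_le_two
      omega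
  rw [Finset.card_eq_sum_card_image o (small z P)ᶜ]
  refine Finset.dvd_sum fun O hO => ?_
  obtain ⟨x, hx, rfl⟩ := Finset.mem_image.1 hO
  obtain ⟨h4, hsub⟩ := hbig x hx
  rw [show (Finset.filter (fun a => o a = o x) (small z P)ᶜ) = o x from Finset.ext fun y => ?_]
  · exact h4
  rw [Finset.mem_filter, horb]
  refine ⟨fun h => ?_, fun h => ⟨hsub ((horb x y).2 h), ?_⟩⟩
  · exact Set.toFinset_inj.1 h.2
  · exact Set.toFinset_inj.2 h

/-- The case of eight points, in any coordinates. -/
theorem alternating_le_eight {m : ℕ} (hm : m = 8) {G : Subgroup (Perm (Fin m))} {E : Subgroup G}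
    {z : Perm (Fin m)} (h : Hyp G E z) (h64 : 64 ∣ Nat.card G) : alternatingGroup (Fin m) ≤ G := by
  subst hm
  exact SylowOvergroupCore.alternating_le_of_eight h h64

open MulAction in
/-- The theorem. -/
theorem exists_alternating {n : ℕ} (hn : 8 ≤ n) (H : Subgroup (Perm (Fin n)))
    (hF : Cfsg.IsQuasisimple ↥(Cfsg.generalizedFittingSubgroup ↥H))
    (Q : Sylow 2 ↥(alternatingGroup (Fin n)))
    (hQ : (Q : Subgroup ↥(alternatingGroup (Fin n))).map (alternatingGroup (Fin n)).subtype ≤ H) :
    ∃ m : ℕ, (m = n - 3 ∨ m = n - 2 ∨ m = n - 1 ∨ m = n) ∧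
      Nonempty (↥(Cfsg.generalizedFittingSubgroup ↥H) ≃* ↥(alternatingGroup (Fin m))) := by
  classical
  haveI : Fact (Nat.Prime 2) := ⟨Nat.prime_two⟩
  have hcn : Fintype.card (Fin n) = n := Fintype.card_fin n
  set E := Cfsg.generalizedFittingSubgroup ↥H with hE
  haveI hEn : E.Normal := Subgroup.sup_normal _ _
  have hcent : Subgroup.centralizer (E : Set H) ≤ E := Components.centralizer_generalizedFitting_le_self
  obtain ⟨P, hP⟩ := (Q.isPGroup'.map (alternatingGroup (Fin n)).subtype).exists_le_sylow
  have hPQ : (P : Subgroup (Perm (Fin n))).subgroupOf (alternatingGroup (Fin n)) =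
      (Q : Subgroup ↥(alternatingGroup (Fin n))) :=
    Q.is_maximal' (P.isPGroup'.comap_of_injective _ (Subgroup.subtype_injective _))
      fun x hx => hP ⟨x, hx, rfl⟩
  have hTH : (P : Subgroup (Perm (Fin n))) ⊓ alternatingGroup (Fin n) ≤ H := fun x hx =>
    hQ ⟨⟨x, hx.2⟩, hPQ.le hx.1, rfl⟩
  obtain ⟨z, hz, hPz⟩ := AltSylow.exists_pairing (P : Subgroup (Perm (Fin n))) P.isPGroup'
  have hzP := AltSylow.pairing_mem z hz P hPz
  have hdbl : ∀ {a c}, z a ≠ a → z c ≠ c → dbl z a c ∈ H := fun ha hc =>
    hTH (AltSylow.double_mem hz P hPz ha hc)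
  have hmove : ∀ (x : Fin n) {p : Perm (Fin n)}, p ∈ (P : Subgroup (Perm (Fin n))) →
      ∃ t ∈ H, t x = p x := fun x p hp => by
    obtain ⟨t, ht, e⟩ := exists_even_move (by omega) hz P hPz x hp
    exact ⟨t, hTH ht, e⟩
  have hcomm : ∀ {p : Perm (Fin n)}, p ∈ (P : Subgroup (Perm (Fin n))) → ∀ y, p (z y) = z (p y) :=
    fun hp y => congrArg (fun q : Perm (Fin n) => q y)
      (Subgroup.mem_centralizer_singleton_iff.1 (hPz hp))
  have hEone : ¬ ∀ e ∈ E, ∀ y, (e : Perm (Fin n)) y = y := fun hall => by
    refine Components.IsQuasisimple.center_ne_top hF (top_unique fun e _ => ?_)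
    rw [show e = 1 from Subtype.ext (Subtype.ext (Equiv.ext fun y => hall _ e.2 y))]
    exact one_mem _
  -- a big point pins down the support of `E`
  have key : ∀ x ∈ (small z P)ᶜ, ∀ e ∈ E, ∀ y, y ∉ orbit H x → (e : Perm (Fin n)) y = y := by
    intro x hx
    simp only [Finset.mem_compl, mem_small] at hx
    push Not at hx
    obtain ⟨p, hp, hpx, hpzx⟩ := hx
    have hzx : z x ≠ x := fun hh => hpx (hz.2 _ _ (by rw [← hcomm hp, hh]) hh)
    have hzpx : z (p x) ≠ p x := fun hh => hzx (p.injective (by rw [hcomm hp, hh]))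
    have horb : ∀ {q : Perm (Fin n)}, q ∈ (P : Subgroup (Perm (Fin n))) → q x ∈ orbit H x := by
      intro q hq
      obtain ⟨t, ht, e⟩ := hmove x hq
      exact ⟨⟨t, ht⟩, e⟩
    let N : Subgroup H :=
      { carrier := {h | ∀ y, y ∉ orbit H x → (h : Perm (Fin n)) y = y}
        one_mem' := fun _ _ => rfl
        mul_mem' := fun {u v} hu hv y hy => by
          show (u : Perm (Fin n)) ((v : Perm (Fin n)) y) = y
          rw [hv y hy, hu y hy]
        inv_mem' := fun {u} hu y hy => by
          show ((u : Perm (Fin n)))⁻¹ y = y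
          conv_lhs => rw [← hu y hy]
          exact Equiv.symm_apply_apply _ _ }
    haveI : N.Normal := ⟨fun u hu g y hy => by
      show (g : Perm (Fin n)) ((u : Perm (Fin n)) ((g : Perm (Fin n))⁻¹ y)) = y
      rw [hu _ fun hh => hy ?_, Perm.coe_inv, Equiv.apply_symm_apply]
      obtain ⟨k, hk⟩ := hh
      refine ⟨g * k, ?_⟩
      show (g * k) • x = y
      rw [mul_smul, show k • x = (g : Perm (Fin n))⁻¹ y from hk]
      exact Equiv.apply_symm_apply _ _⟩
    rcases le_or_le_centralizer hF N with hEN | hNC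
    · exact fun e he => hEN he
    exfalso
    set d : H := ⟨dbl z x (p x), hdbl hzx hzpx⟩ with hd
    have hdN : d ∈ N := fun y hy => by
      by_contra hne
      rcases dbl_apply_ne hne with rfl | rfl | rfl | rfl
      · exact hy (mem_orbit_self _)
      · exact hy (horb hzP)
      · exact hy (horb hp)
      · exact hy (by simpa using horb (mul_mem hzP hp))
    have hdC := hNC hdN
    set S := Finset.univ.filter fun w => dbl z x (p x) w ≠ w with hS
    have hSc : S.card ≤ 4 := (Finset.card_le_card (t := {x, z x, p x, z (p x)}) fun w hw => by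
      simpa using dbl_apply_ne (Finset.mem_filter.1 hw).2).trans Finset.card_le_four
    have hxS : x ∈ S := Finset.mem_filter.2 ⟨Finset.mem_univ _, by
      rw [dbl_apply_left hz.1 hpx hpzx]; exact hzx⟩
    have hfix := fix_of_small hF S hSc (fun e he w hw => by
      refine Finset.mem_filter.2 ⟨Finset.mem_univ _, fun heq => (Finset.mem_filter.1 hw).2 ?_⟩
      have h1 : (e : Perm (Fin n)) * dbl z x (p x) = dbl z x (p x) * e :=
        congrArg Subtype.val (Subgroup.mem_centralizer_iff.1 hdC e he)
      have h2 := congrArg (fun q : Perm (Fin n) => q w) h1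
      simp only [Perm.mul_apply, heq] at h2
      exact (e : Perm (Fin n)).injective h2) d (hcent hdC) x hxS
    exact (Finset.mem_filter.1 hxS).2 hfix
  have hsmall := card_small_le hz P hPz (small z P) fun x hx => mem_small.1 hx
  have hfour := four_dvd_card_compl hz P hPz
  have hsum := Finset.card_add_card_compl (small z P)
  rw [hcn] at hsum
  have hB8 : 8 ≤ (small z P)ᶜ.card := by omega
  obtain ⟨x, hx⟩ := Finset.card_pos.1 (show 0 < (small z P)ᶜ.card by omega)
  set O := orbit H x with hO
  have hone : ∀ y ∈ (small z P)ᶜ, y ∈ O := by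
    intro y hy
    by_contra hyO
    refine hEone fun e he w => ?_
    by_cases hw : w ∈ O
    · refine key y hy e he w fun hwy => hyO ?_
      rw [hO, ← orbit_eq_iff.2 hw, orbit_eq_iff.2 hwy]
      exact mem_orbit_self _
    · exact key x hx e he w hw
  -- the action on `O`
  set m := Fintype.card O with hm
  have hmB : (small z P)ᶜ.card ≤ m := by
    rw [hm, ← Set.toFinset_card]
    exact Finset.card_le_card fun y hy => Set.mem_toFinset.2 (hone y hy)
  have hmn : m ≤ n := by
    have := Fintype.card_subtype_le (fun y => y ∈ O)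
    rwa [hcn] at this
  refine ⟨m, by omega, ?_⟩
  have hp : ∀ h : H, ∀ y, (h : Perm (Fin n)) y ∈ O ↔ y ∈ O := fun h y => by
    rw [hO, show (h : Perm (Fin n)) y = h • y from rfl]
    exact ⟨fun hh => by simpa using mem_orbit_of_mem_orbit h⁻¹ hh, mem_orbit_of_mem_orbit h⟩
  let e : {y // y ∈ O} ≃ Fin m := Fintype.equivFinOfCardEq (by rw [hm])
  let ι : Fin m → Fin n := fun i => (e.symm i).1
  have hι : Function.Injective ι := Subtype.val_injective.comp e.symm.injective
  let r : H →* Perm (Fin m) := e.permCongrHom.toMonoidHom.comp (GLFourTwo.restrictHom H (· ∈ O) hp)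
  have hιr : ∀ (h : H) i, ι (r h i) = (h : Perm (Fin n)) (ι i) := fun h i => by
    show (e.symm (e _)).1 = _
    rw [Equiv.symm_apply_apply]
    rfl
  have hEr : ∀ h ∈ E, r h = 1 → h = 1 := fun h hh hr => by
    refine Subtype.ext (Equiv.ext fun y => ?_)
    by_cases hy : y ∈ O
    · have := hιr h (e ⟨y, hy⟩)
      rw [hr] at this
      simpa [ι] using this.symm
    · exact key x hx h hh y hy
  have hr : Function.Injective r := by
    rw [← MonoidHom.ker_eq_bot_iff, eq_bot_iff]
    intro h hh
    rcases le_or_le_centralizer hF r.ker with hEK | hKC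
    · exfalso
      exact hEone fun g hg y => by rw [hEr g hg (hEK hg)]; rfl
    · exact hEr h (hcent (hKC hh)) hh
  have hzO : ∀ y, y ∈ O → z y ∈ O := fun y hy => by
    obtain ⟨t, ht, et⟩ := hmove y hzP
    rw [← et]
    exact (hp ⟨t, ht⟩ y).2 hy
  have hzO' : ∀ y, z y ∈ O ↔ y ∈ O := fun y =>
    ⟨fun hh => by simpa [hz.1] using hzO _ hh, hzO y⟩
  let z' : Perm (Fin m) := e.permCongr (z.subtypePerm hzO')
  have hιz : ∀ i, ι (z' i) = z (ι i) := fun i => by
    show (e.symm (e _)).1 = _
    rw [Equiv.symm_apply_apply]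
    rfl
  set E' : Subgroup r.range := E.map r.rangeRestrict with hE'
  have hrr : Function.Bijective r.rangeRestrict :=
    ⟨fun a b hab => hr (congrArg Subtype.val hab), r.rangeRestrict_surjective⟩
  have hyp : Hyp r.range E' z' := by
    refine ⟨hEn.map _ hrr.2, Components.isQuasisimple_congr (E.equivMapOfInjective _ hrr.1) hF, ?_,
      ?_, fun i => hι (by rw [hιz, hιz, hz.1]), ?_, ?_, by rw [Fintype.card_fin]; omega⟩
    · intro g hg
      obtain ⟨h, rfl⟩ := hrr.2 g
      refine ⟨h, hcent (Subgroup.mem_centralizer_iff.2 fun a ha => hrr.1 ?_), rfl⟩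
      simpa using Subgroup.mem_centralizer_iff.1 hg _ ⟨a, ha, rfl⟩
    · intro i j
      obtain ⟨g, hg⟩ : (e.symm j).1 ∈ orbit H (e.symm i).1 := by
        rw [orbit_eq_iff.2 (e.symm i).2]
        exact (e.symm j).2
      exact ⟨r g, ⟨g, rfl⟩, hι (by rw [hιr]; exact hg)⟩
    · intro i j hi hj
      exact hι (hz.2 _ _ (by rw [← hιz, hi]) (by rw [← hιz, hj]))
    · intro a c ha hc _ _
      have h1 : z (ι a) ≠ ι a := fun hh => ha (hι (by rw [hιz, hh]))
      have h2 : z (ι c) ≠ ι c := fun hh => hc (hι (by rw [hιz, hh]))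
      refine ⟨⟨_, hdbl h1 h2⟩, Equiv.ext fun i => hι ?_⟩
      rw [hιr]
      show dbl z (ι a) (ι c) (ι i) = ι (dbl z' a c i)
      simp only [dbl, Perm.mul_apply, ← hιz, hι.swap_apply]
  have hA : alternatingGroup (Fin m) ≤ r.range := by
    rcases (show m = 8 ∨ 9 ≤ m by omega) with h8 | h9
    · have h64 : 64 ∣ Nat.card r.range := by
        rw [← Nat.card_congr (MonoidHom.ofInjective hr).toEquiv]
        refine dvd_trans ?_ (Subgroup.card_dvd_of_le hQ)
        rw [Subgroup.card_map_of_injective (Subgroup.subtype_injective _), Q.card_eq_multiplicity]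
        refine (show (64 : ℕ) = 2 ^ 6 by norm_num) ▸ Nat.pow_dvd_pow 2 ?_
        refine (Nat.Prime.pow_dvd_iff_le_factorization Nat.prime_two Nat.card_pos.ne').1 ?_
        have := GLFourTwo.card_alt n (by omega)
        have h128 : 2 ^ 7 ∣ n.factorial :=
          (show 2 ^ 7 ∣ (8 : ℕ).factorial by decide).trans (Nat.factorial_dvd_factorial hn)
        rw [← this] at h128
        omega
      exact alternating_le_eight h8 hyp h64
    · exact hyp.alternating_le_of_nine (by rw [Fintype.card_fin]; exact h9)
  have hEm : (E.map r) ≠ ⊥ := fun hb => hEone fun g hg y => by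
    rw [hEr g hg ((Subgroup.eq_bot_iff_forall _).1 hb _ ⟨g, hg, rfl⟩)]; rfl
  haveI hne : ((E.map r).subgroupOf r.range).Normal := by
    rw [show (E.map r).subgroupOf r.range = E' from ?_]
    · exact hyp.normal
    ext ⟨g, h, rfl⟩
    simp [Subgroup.mem_subgroupOf, hE', Subgroup.mem_map, Subtype.ext_iff]
  have hle : alternatingGroup (Fin m) ≤ E.map r := Sims60.le_of_normal (by omega) hA
    ((Subgroup.normal_subgroupOf_iff_le_normalizer (by rintro _ ⟨g, -, rfl⟩; exact ⟨g, rfl⟩)).1 hne) hEm
  have hq : Cfsg.IsQuasisimple (E.map r) :=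
    Components.isQuasisimple_congr (E.equivMapOfInjective r hr) hF
  rcases Components.IsQuasisimple.normal_eq_top_or_le_center hq
    ((alternatingGroup (Fin m)).subgroupOf (E.map r)) with htop | hcen
  · exact ⟨(E.equivMapOfInjective r hr).trans
      (MulEquiv.subgroupCongr (le_antisymm (Subgroup.subgroupOf_eq_top.1 htop) hle))⟩
  · exfalso
    haveI := alternatingGroup.isSimpleGroup (α := Fin m) (by simp; omega)
    have hcomm : ∀ a b : alternatingGroup (Fin m), a * b = b * a := fun a b =>
      Subtype.ext (congrArg (fun u : E.map r => (u : Perm (Fin m)))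
        (Subgroup.mem_center_iff.1 (hcen (x := ⟨b.1, hle b.2⟩) b.2) ⟨a.1, hle a.2⟩) :)
    have h1 := Sims60.centralizer_alternating (n := m) (by omega)
    have h2 : alternatingGroup (Fin m) ≤ Subgroup.centralizer (alternatingGroup (Fin m) : Set _) :=
      fun b hb => Subgroup.mem_centralizer_iff.2 fun a ha => congrArg Subtype.val (hcomm ⟨a, ha⟩ ⟨b, hb⟩)
    rw [h1, le_bot_iff] at h2
    have h3 := GLFourTwo.card_alt m (by omega)
    rw [h2, Subgroup.card_bot] at h3
    have := Nat.self_le_factorial m
    omega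

end CfsgLib.SylowOvergroupMain
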