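import Cfsg.Agent.AltBlocks.ThreeCycles
import Cfsg.Agent.AltSylow.Overgroups
import Cfsg.Agent.BlocksCharsC.PGroupCenter
import Mathlib

/-!
# Two overgroups of a 3-group in an alternating group

Unless the degree is 6, 9 or `3 ^ a + 1`, a non-trivial 3-subgroup of the alternating group lies in
two proper subgroups generating the whole alternating group.
-/

set_option autoImplicit false
set_option linter.style.haveILetI false

namespace CfsgLib.ThreeOvergroups

open Equiv Equiv.Perm MulAction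

variable {β : Type*} [Fintype β] [DecidableEq β] {γ : Type*}

/-- The permutations respecting the partition given by `f`. -/
def relStab (f : β → γ) : Subgroup (Perm β) where
  carrier := {g | ∀ x y, f (g x) = f (g y) ↔ f x = f y}
  one_mem' := fun _ _ => Iff.rfl
  mul_mem' := fun {u v} hu hv x y => (hu (v x) (v y)).trans (hv x y)
  inv_mem' := fun {u} hu x y => by
    have := hu (u⁻¹ x) (u⁻¹ y)
    simp only [Perm.coe_inv, Equiv.apply_symm_apply] at this
    exact this.symm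

theorem mem_relStab_of_fix {f : β → γ} {g : Perm β} (h : ∀ x, f (g x) = f x) : g ∈ relStab f :=
  fun x y => by rw [h, h]

theorem cyc3_apply_ne {a b c x : β} (ha : x ≠ a) (hb : x ≠ b) (hc : x ≠ c) :
    AltSylow.cyc3 a b c x = x := by
  rw [AltSylow.cyc3, Perm.mul_apply, swap_apply_of_ne_of_ne hb hc, swap_apply_of_ne_of_ne ha hb]

theorem cyc3_apply_left {a b c : β} (hab : a ≠ b) (hac : a ≠ c) : AltSylow.cyc3 a b c a = b := by
  rw [AltSylow.cyc3, Perm.mul_apply, swap_apply_of_ne_of_ne hab hac, swap_apply_left]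

theorem mem_support_cyc3 {a b c : β} (hab : a ≠ b) (hac : a ≠ c) (hbc : b ≠ c) :
    a ∈ (AltSylow.cyc3 a b c).support ∧ b ∈ (AltSylow.cyc3 a b c).support := by
  refine ⟨mem_support.2 ?_, mem_support.2 ?_⟩
  · rw [cyc3_apply_left hab hac]; exact hab.symm
  · rw [AltSylow.cyc3, Perm.mul_apply, swap_apply_left, swap_apply_of_ne_of_ne hac.symm hbc.symm]
    exact hbc.symm

/-- A 3-cycle inside one class. -/
theorem cyc3_mem_relStab {f : β → γ} {a b c : β} (hab : a ≠ b) (hbc : b ≠ c) (h1 : f a = f b)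
    (h2 : f a = f c) : AltSylow.cyc3 a b c ∈ relStab f ⊓ alternatingGroup β := by
  refine ⟨mem_relStab_of_fix fun x => ?_, AltSylow.cyc3_mem_alternating hab hbc⟩
  simp only [AltSylow.cyc3, Perm.mul_apply, swap_apply_def]
  split_ifs <;> simp_all

theorem not_alternating_le_relStab (h4 : 4 ≤ Fintype.card β) {f : β → γ} {x y w : β} (hxy : x ≠ y)
    (h1 : f x = f y) (h2 : f w ≠ f x) : ¬ alternatingGroup β ≤ relStab f := by
  intro hle
  have hwy : w ≠ y := fun h => h2 (by rw [h, h1])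
  have hwx : w ≠ x := fun h => h2 (by rw [h])
  obtain ⟨u, hu⟩ := AltSylow.exists_notMem ({x, y, w} : Finset β)
    (Finset.card_le_three.trans_lt (by omega))
  simp only [Finset.mem_insert, Finset.mem_singleton, not_or] at hu
  have := (hle (AltSylow.cyc3_mem_alternating (a := y) (b := w) (c := u) hwy.symm (Ne.symm hu.2.2)) x y).2 h1
  rw [cyc3_apply_ne hxy hwx.symm (Ne.symm hu.1), cyc3_apply_left hwy.symm (Ne.symm hu.2.1)] at this
  exact h2 this.symm

/-- Enough 3-cycles through one point. -/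
theorem alternating_le_of_star (h2 : 2 ≤ Fintype.card β) {H : Subgroup (Perm β)} (x₀ : β)
    (h : ∀ w, w ≠ x₀ → ∃ e : Perm β, IsThreeCycle e ∧ e ∈ H ∧ x₀ ∈ e.support ∧ w ∈ e.support) :
    alternatingGroup β ≤ H := by
  obtain ⟨w₀, hw₀⟩ := AltSylow.exists_notMem ({x₀} : Finset β) (by rw [Finset.card_singleton]; omega)
  obtain ⟨e₀, he₀, he₀H, hx₀, -⟩ := h w₀ (by simpa using hw₀)
  obtain ⟨Δ, hsub, -, hfull, hblock⟩ := AltBlocks.exists_block he₀ he₀H
  have hall : ∀ w, w ∈ Δ := fun w => by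
    by_cases hw : w = x₀
    · rw [hw]; exact hsub hx₀
    obtain ⟨e, he, heH, hxe, hwe⟩ := h w hw
    rcases hblock e he heH with h' | h'
    · exact h' hwe
    · exact absurd (hsub hx₀) (Finset.disjoint_left.1 h' hxe)
  rw [← closure_three_cycles_eq_alternating, Subgroup.closure_le]
  exact fun c hc => hfull c hc fun z _ => hall z

/-- `T` lies in two proper subgroups generating the alternating group. -/
def TwoOver (T : Subgroup (Perm β)) : Prop :=
  ∃ M₁ M₂ : Subgroup (Perm β), T ≤ M₁ ∧ T ≤ M₂ ∧ ¬ alternatingGroup β ≤ M₁ ∧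
    ¬ alternatingGroup β ≤ M₂ ∧
    alternatingGroup β ≤ (M₁ ⊓ alternatingGroup β) ⊔ (M₂ ⊓ alternatingGroup β)

/-- A partition refining the cycles of a fixed-point-free centralising element of order 3. -/
theorem twoOver_of_cycles {T : Subgroup (Perm β)} (f : β → γ) (z : Perm β)
    (hz3 : ∀ x, z (z (z x)) = x) (hz1 : ∀ x, z x ≠ x) (hTz : ∀ t ∈ T, ∀ x, t (z x) = z (t x))
    (hTf : T ≤ relStab f) (hfz : ∀ x, f (z x) = f x) (x₀ w₀ : β) (hw₀ : f w₀ ≠ f x₀)
    [DecidablePred fun y => f y = f x₀]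
    (hU : 6 < (Finset.univ.filter fun y => f y = f x₀).card) : TwoOver T := by
  have hn : 6 < Fintype.card β := hU.trans_le (Finset.card_le_univ _)
  have hz12 : ∀ x, z (z x) ≠ x := fun x h => hz1 x (by
    have := hz3 x; rw [h] at this; exact this)
  have hfz2 : ∀ x, f (z (z x)) = f x := fun x => by rw [hfz, hfz]
  have hTC : T ≤ Subgroup.centralizer {z} := fun t ht =>
    Subgroup.mem_centralizer_singleton_iff.2 (Equiv.ext fun x => hTz t ht x)
  refine ⟨relStab f, Subgroup.centralizer {z}, hTf, hTC, ?_, ?_, ?_⟩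
  · exact not_alternating_le_relStab (by omega) (hz1 x₀).symm (hfz x₀).symm hw₀
  · intro hle
    obtain ⟨u, hu⟩ := AltSylow.exists_notMem ({x₀, z x₀, w₀} : Finset β)
      (Finset.card_le_three.trans_lt (by omega))
    simp only [Finset.mem_insert, Finset.mem_singleton, not_or] at hu
    have hwz : w₀ ≠ z x₀ := fun h => hw₀ (by rw [h, hfz])
    have hwx : w₀ ≠ x₀ := fun h => hw₀ (by rw [h])
    have h1 := congrArg (fun g : Perm β => g x₀) (Subgroup.mem_centralizer_singleton_iff.1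
      (hle (AltSylow.cyc3_mem_alternating (a := z x₀) (b := w₀) (c := u) hwz.symm (Ne.symm hu.2.2))))
    simp only [Perm.mul_apply] at h1
    rw [cyc3_apply_left hwz.symm (Ne.symm hu.2.1), cyc3_apply_ne (hz1 x₀).symm hwx.symm (Ne.symm hu.1)] at h1
    exact hwz h1
  set U := Finset.univ.filter fun y => f y = f x₀ with hUdef
  have hmemU : ∀ {y}, y ∈ U ↔ f y = f x₀ := fun {y} => by simp [hUdef]
  refine alternating_le_of_star (by omega) x₀ fun w hw => ?_
  by_cases hwU : f w = f x₀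
  · obtain ⟨v, hv, hvn⟩ : ∃ v ∈ U, v ∉ ({x₀, w} : Finset β) :=
      Finset.exists_mem_notMem_of_card_lt_card (Finset.card_le_two.trans_lt (by omega))
    simp only [Finset.mem_insert, Finset.mem_singleton, not_or] at hvn
    exact ⟨_, AltSylow.cyc3_isThreeCycle (Ne.symm hw) (Ne.symm hvn.1) (Ne.symm hvn.2),
      Subgroup.mem_sup_left (cyc3_mem_relStab (Ne.symm hw) (Ne.symm hvn.2) hwU.symm (hmemU.1 hv).symm),
      mem_support_cyc3 (Ne.symm hw) (Ne.symm hvn.1) (Ne.symm hvn.2)⟩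
  obtain ⟨q, hq, hqn⟩ : ∃ q ∈ U, q ∉ ({x₀, z x₀, z (z x₀)} : Finset β) :=
    Finset.exists_mem_notMem_of_card_lt_card (Finset.card_le_three.trans_lt (by omega))
  simp only [Finset.mem_insert, Finset.mem_singleton, not_or] at hqn
  obtain ⟨q', hq', hq'n⟩ : ∃ q' ∈ U, q' ∉ ({x₀, z x₀, z (z x₀)} ∪ {q, z q, z (z q)} : Finset β) :=
    Finset.exists_mem_notMem_of_card_lt_card (((Finset.card_union_le _ _).trans
      (Nat.add_le_add Finset.card_le_three Finset.card_le_three)).trans_lt (by omega))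
  simp only [Finset.mem_union, Finset.mem_insert, Finset.mem_singleton, not_or] at hq'n
  rw [hmemU] at hq hq'
  set k₀ := AltSylow.cyc3 q w q' with hk₀
  set k₁ := AltSylow.cyc3 (z q) (z w) (z q') with hk₁
  set k₂ := AltSylow.cyc3 (z (z q)) (z (z w)) (z (z q')) with hk₂
  have dist : ∀ a b : β, a ≠ b → a ≠ z b → a ≠ z (z b) →
      z a ≠ b ∧ z a ≠ z b ∧ z (z a) ≠ b ∧ z a ≠ z (z b) ∧ z (z a) ≠ z b ∧ z (z a) ≠ z (z b) :=
    fun a b h0 h1 h2 =>
      ⟨fun h => h2 (by rw [← h, hz3]), fun h => h0 (z.injective h), fun h => h1 (by rw [← h, hz3]),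
        fun h => h1 (z.injective h), fun h => h2 (by rw [← z.injective h, hz3]),
        fun h => h0 (z.injective (z.injective h))⟩
  have dUW : ∀ a, f a = f x₀ → a ≠ w ∧ a ≠ z w ∧ a ≠ z (z w) := fun a ha =>
    ⟨fun h => hwU (by rw [← h, ha]), fun h => hwU (by rw [← hfz w, ← h, ha]),
      fun h => hwU (by rw [← hfz2 w, ← h, ha])⟩
  have dqq : q' ≠ q ∧ q' ≠ z q ∧ q' ≠ z (z q) := hq'n.2
  have dxq : q ≠ x₀ ∧ q ≠ z x₀ ∧ q ≠ z (z x₀) := hqn
  have dxq' : q' ≠ x₀ ∧ q' ≠ z x₀ ∧ q' ≠ z (z x₀) := hq'n.1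
  have e1 := dist q w (dUW q hq).1 (dUW q hq).2.1 (dUW q hq).2.2
  have e2 := dist q' w (dUW q' hq').1 (dUW q' hq').2.1 (dUW q' hq').2.2
  have e3 := dist q' q dqq.1 dqq.2.1 dqq.2.2
  have hqw := dUW q hq
  have hq'w := dUW q' hq'
  have hdis : ∀ {a b c a' b' c' : β}, (a ≠ a' ∧ a ≠ b' ∧ a ≠ c') → (b ≠ a' ∧ b ≠ b' ∧ b ≠ c') →
      (c ≠ a' ∧ c ≠ b' ∧ c ≠ c') → Commute (AltSylow.cyc3 a b c) (AltSylow.cyc3 a' b' c') := by
    intro a b c a' b' c' ha hb hc
    refine Perm.Disjoint.commute fun x => ?_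
    by_cases h : x = a ∨ x = b ∨ x = c
    · rcases h with rfl | rfl | rfl
      exacts [Or.inr (cyc3_apply_ne ha.1 ha.2.1 ha.2.2), Or.inr (cyc3_apply_ne hb.1 hb.2.1 hb.2.2),
        Or.inr (cyc3_apply_ne hc.1 hc.2.1 hc.2.2)]
    · push Not at h
      exact Or.inl (cyc3_apply_ne h.1 h.2.1 h.2.2)
  have hz12' : ∀ x, x ≠ z x := fun x => (hz1 x).symm
  have hz13' : ∀ x, x ≠ z (z x) := fun x => (hz12 x).symm
  have c01 : Commute k₀ k₁ := hdis ⟨hz12' q, hqw.2.1, e3.1.symm⟩ ⟨e1.1.symm, hz12' w, e2.1.symm⟩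
    ⟨dqq.2.1, hq'w.2.1, hz12' q'⟩
  have c02 : Commute k₀ k₂ := hdis ⟨hz13' q, hqw.2.2, e3.2.2.1.symm⟩
    ⟨e1.2.2.1.symm, hz13' w, e2.2.2.1.symm⟩ ⟨dqq.2.2, hq'w.2.2, hz13' q'⟩
  set g := k₀ * k₁ * k₂ with hg
  have hgz : g ∈ Subgroup.centralizer {z} := by
    rw [Subgroup.mem_centralizer_singleton_iff]
    have s0 : z * k₀ * z⁻¹ = k₁ := AltSylow.conj_cyc3 z q w q'
    have s1 : z * k₁ * z⁻¹ = k₂ := AltSylow.conj_cyc3 z (z q) (z w) (z q')
    have s2 : z * k₂ * z⁻¹ = k₀ := by rw [hk₂, AltSylow.conj_cyc3, hz3, hz3, hz3]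
    have h1 : z * g * z⁻¹ = g := by
      rw [hg, show z * (k₀ * k₁ * k₂) * z⁻¹ = z * k₀ * z⁻¹ * (z * k₁ * z⁻¹) * (z * k₂ * z⁻¹) by group,
        s0, s1, s2]
      exact ((c01.mul_right c02).eq.symm.trans (mul_assoc _ _ _).symm)
    exact (mul_inv_eq_iff_eq_mul.1 h1).symm
  have hgA : g ∈ alternatingGroup β := by
    refine mul_mem (mul_mem ?_ ?_) ?_
    · exact AltSylow.cyc3_mem_alternating hqw.1 hq'w.1.symm
    · exact AltSylow.cyc3_mem_alternating (z.injective.ne hqw.1) (z.injective.ne hq'w.1.symm)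
    · exact AltSylow.cyc3_mem_alternating (z.injective.ne (z.injective.ne hqw.1))
        (z.injective.ne (z.injective.ne hq'w.1.symm))
  have ex := dist q x₀ dxq.1 dxq.2.1 dxq.2.2
  have ex' := dist q' x₀ dxq'.1 dxq'.2.1 dxq'.2.2
  have ew := dUW x₀ rfl
  have hgx : g x₀ = x₀ := by
    rw [hg, Perm.mul_apply, Perm.mul_apply, hk₂, cyc3_apply_ne ex.2.2.1.symm ew.2.2 ex'.2.2.1.symm, hk₁,
      cyc3_apply_ne ex.1.symm ew.2.1 ex'.1.symm, hk₀, cyc3_apply_ne dxq.1.symm ew.1 dxq'.1.symm]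
  have hgzx : g (z x₀) = z x₀ := by
    have h1 := congrArg (fun p : Perm β => p x₀) (Subgroup.mem_centralizer_singleton_iff.1 hgz)
    simp only [Perm.mul_apply, hgx] at h1
    exact h1
  have hgq : g q = w := by
    rw [hg, Perm.mul_apply, Perm.mul_apply, hk₂, cyc3_apply_ne (hz13' q) hqw.2.2 e3.2.2.1.symm, hk₁,
      cyc3_apply_ne (hz12' q) hqw.2.1 e3.1.symm, hk₀, cyc3_apply_left hqw.1 dqq.1.symm]
  refine ⟨AltSylow.cyc3 x₀ w (z x₀), AltSylow.cyc3_isThreeCycle (Ne.symm hw) (hz12' x₀) ?_, ?_,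
    mem_support_cyc3 (Ne.symm hw) (hz12' x₀) ?_⟩
  rotate_left 1
  · rw [show AltSylow.cyc3 x₀ w (z x₀) = g * AltSylow.cyc3 x₀ q (z x₀) * g⁻¹ from by
      rw [AltSylow.conj_cyc3, hgx, hgq, hgzx]]
    exact mul_mem (mul_mem (Subgroup.mem_sup_right ⟨hgz, hgA⟩)
      (Subgroup.mem_sup_left (cyc3_mem_relStab dxq.1.symm dxq.2.1 hq.symm (hfz x₀).symm)))
      (inv_mem (Subgroup.mem_sup_right ⟨hgz, hgA⟩))
  all_goals exact fun h => hwU (by rw [h, hfz])

theorem apply_mem_orbit_iff {T : Subgroup (Perm β)} (g : T) (i a : β) :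
    (g : Perm β) i ∈ orbit T a ↔ i ∈ orbit T a := by
  rw [show (g : Perm β) i = g • i from rfl]
  exact ⟨fun h => by rw [← inv_smul_smul g i]; exact mem_orbit_of_mem_orbit g⁻¹ h,
    mem_orbit_of_mem_orbit g⟩

/-- Three orbits, one of them non-trivial. -/
theorem twoOver_of_three_orbits {T : Subgroup (Perm β)} (h4 : 4 ≤ Fintype.card β) {m x y : β}
    {t : Perm β} (ht : t ∈ T) (htm : t m ≠ m) (hxm : m ∉ orbit T x) (hym : m ∉ orbit T y)
    (hxy : y ∉ orbit T x) : TwoOver T := by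
  let f : β → β → Prop := fun a i => i ∈ orbit T a
  have hinv : ∀ a, T ≤ relStab (f a) := fun a g hg => mem_relStab_of_fix fun i =>
    propext (apply_mem_orbit_iff ⟨g, hg⟩ i a)
  have hm2 : ∀ a, m ∉ orbit T a → t m ∉ orbit T a := fun a ha h => ha
    ((apply_mem_orbit_iff ⟨t, ht⟩ m a).1 h)
  have hyx : x ∉ orbit T y := fun h => hxy (by rw [orbit_eq_iff.2 h]; exact mem_orbit_self _)
  have hproper : ∀ a, m ∉ orbit T a → ¬ alternatingGroup β ≤ relStab (f a) := fun a ha => by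
    refine not_alternating_le_relStab h4 (x := m) (y := t m) (w := a) htm.symm ?_ ?_
    · simp [f, ha, hm2 a ha]
    · intro h; exact ha (h ▸ mem_orbit_self a : f a m)
  refine ⟨relStab (f x), relStab (f y), hinv x, hinv y, hproper x hxm, hproper y hym, ?_⟩
  refine alternating_le_of_star (by omega) m fun w hw => ?_
  have main : ∀ a b, m ∉ orbit T a → b ∉ orbit T a → b ∉ orbit T m → w ∉ orbit T a →
      ∃ e : Perm β, IsThreeCycle e ∧ e ∈ relStab (f a) ⊓ alternatingGroup β ∧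
        m ∈ e.support ∧ w ∈ e.support := by
    intro a b hma hba hbm hwa
    obtain ⟨v, hva, hvm, hvw⟩ : ∃ v, v ∉ orbit T a ∧ v ≠ m ∧ v ≠ w := by
      by_cases hwb : w = b
      · exact ⟨t m, hm2 a hma, htm, fun h => hbm (by
          rw [← hwb, ← h]; exact mem_orbit m (⟨t, ht⟩ : T))⟩
      · exact ⟨b, hba, fun h => hbm (h ▸ mem_orbit_self _), fun h => hwb h.symm⟩
    exact ⟨_, AltSylow.cyc3_isThreeCycle (Ne.symm hw) hvm.symm hvw.symm,
      cyc3_mem_relStab (Ne.symm hw) hvw.symm (by simp [f, hma, hwa]) (by simp [f, hma, hva]),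
      mem_support_cyc3 (Ne.symm hw) hvm.symm hvw.symm⟩
  by_cases hwx : w ∈ orbit T x
  · obtain ⟨e, h1, h2, h3⟩ := main y x hym hyx (fun h => hxm (by rw [orbit_eq_iff.2 h]; exact mem_orbit_self _))
      (fun h => hyx (by rw [← orbit_eq_iff.2 h, orbit_eq_iff.2 hwx]; exact mem_orbit_self _))
    exact ⟨e, h1, Subgroup.mem_sup_right h2, h3⟩
  · obtain ⟨e, h1, h2, h3⟩ := main x y hxm hxy (fun h => hym (by rw [orbit_eq_iff.2 h]; exact mem_orbit_self _)) hwx
    exact ⟨e, h1, Subgroup.mem_sup_left h2, h3⟩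

/-- On a non-trivial orbit some element acts as a central element of order three. -/
theorem exists_orbit_central {T : Subgroup (Perm β)} (hT : IsPGroup 3 T) {x : β}
    (hx : ∃ t ∈ T, t x ≠ x) :
    ∃ t ∈ T, ∀ y ∈ orbit T x, t (t (t y)) = y ∧ t y ≠ y ∧ ∀ s ∈ T, t (s y) = s (t y) := by
  classical
  haveI : Fact (Nat.Prime 3) := ⟨Nat.prime_three⟩
  set φ := MulAction.toPermHom T (orbit T x) with hφ
  have hR : IsPGroup 3 φ.range := hT.of_surjective φ.rangeRestrict φ.rangeRestrict_surjective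
  haveI : Nontrivial φ.range := by
    rw [Subgroup.nontrivial_iff_ne_bot]
    intro h
    obtain ⟨t, ht, htx⟩ := hx
    have h1 : φ ⟨t, ht⟩ = 1 := (Subgroup.eq_bot_iff_forall _).1 h _ ⟨_, rfl⟩
    have h2 := DFunLike.congr_fun h1 (⟨x, mem_orbit_self x⟩ : orbit T x)
    exact htx (congrArg Subtype.val h2)
  haveI := hR.center_nontrivial
  have hd : 3 ∣ Nat.card (Subgroup.center φ.range) := (hR.to_subgroup _).card_eq_or_dvd.resolve_left
    (Finite.one_lt_card_iff_nontrivial.2 inferInstance).ne'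
  obtain ⟨c, hc⟩ := exists_prime_orderOf_dvd_card' 3 hd
  obtain ⟨⟨t, ht⟩, htc⟩ := φ.rangeRestrict_surjective c.1
  have htc' : φ ⟨t, ht⟩ = ((c : φ.range) : Perm (orbit T x)) := congrArg Subtype.val htc
  have hev : ∀ y : orbit T x, ((((c : φ.range) : Perm (orbit T x)) y) : β) = t y := fun y => by
    rw [← htc']; rfl
  refine ⟨t, ht, fun y hy => ⟨?_, ?_, fun s hs => ?_⟩⟩
  · have h3 : ((c : φ.range) : Perm (orbit T x)) ^ 3 = 1 := by
      have := pow_orderOf_eq_one c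
      rw [hc] at this
      exact_mod_cast congrArg (fun u : Subgroup.center φ.range => ((u : φ.range) : Perm (orbit T x))) this
    have := congrArg (fun p : Perm (orbit T x) => ((p ⟨y, hy⟩ : orbit T x) : β)) h3
    simp only [pow_succ, pow_zero, one_mul, Perm.mul_apply, hev, Perm.one_apply] at this
    exact this
  · intro hfix
    have hc1 : ((c : φ.range) : Perm (orbit T x)) = 1 := Equiv.ext fun u => Subtype.ext (by
      obtain ⟨s, hs⟩ : (u : β) ∈ orbit T y := by rw [orbit_eq_iff.2 hy]; exact u.2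
      have h2 := congrArg (fun p : φ.range => ((((p : Perm (orbit T x))) ⟨y, hy⟩ : orbit T x) : β))
        (Subgroup.mem_center_iff.1 c.2 (φ.rangeRestrict s))
      change (s : Perm β) (((c : φ.range) : Perm (orbit T x)) ⟨y, hy⟩).1 =
        (((c : φ.range) : Perm (orbit T x)) (φ s ⟨y, hy⟩)).1 at h2
      rw [hev, hev, hfix] at h2
      rw [hev, Perm.one_apply, ← hs]
      exact h2.symm)
    have : c = 1 := Subtype.ext (Subtype.ext hc1)
    rw [this, orderOf_one] at hc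
    omega
  · have h2 := congrArg (fun p : φ.range => ((((p : Perm (orbit T x))) ⟨y, hy⟩ : orbit T x) : β))
      (Subgroup.mem_center_iff.1 c.2 (φ.rangeRestrict ⟨s, hs⟩))
    change s (((c : φ.range) : Perm (orbit T x)) ⟨y, hy⟩).1 =
      (((c : φ.range) : Perm (orbit T x)) (φ ⟨s, hs⟩ ⟨y, hy⟩)).1 at h2
    rw [hev, hev] at h2
    exact h2.symm

/-- A fixed-point-free element of order three commuting with `T`. -/
theorem exists_cycles {T : Subgroup (Perm β)} (hT : IsPGroup 3 T) (hmov : ∀ x, ∃ t ∈ T, t x ≠ x) :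
    ∃ z : Perm β, (∀ x, z (z (z x)) = x) ∧ (∀ x, z x ≠ x) ∧ (∀ t ∈ T, ∀ x, t (z x) = z (t x)) ∧
      ∀ x, z x ∈ orbit T x := by
  classical
  have key : ∀ O : Set β, ∃ t : Perm β, (∃ x, O = orbit T x) → t ∈ T ∧
      ∀ y ∈ O, t (t (t y)) = y ∧ t y ≠ y ∧ ∀ s ∈ T, t (s y) = s (t y) := fun O => by
    by_cases h : ∃ x, O = orbit T x
    · obtain ⟨x, rfl⟩ := h
      obtain ⟨t, h1, h2⟩ := exists_orbit_central hT (hmov x)
      exact ⟨t, fun _ => ⟨h1, h2⟩⟩
    · exact ⟨1, fun h' => absurd h' h⟩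
  choose F hF using key
  let Z : β → β := fun x => F (orbit T x) x
  have hZ : ∀ x, Z x ∈ orbit T x := fun x =>
    mem_orbit x (⟨_, (hF _ ⟨x, rfl⟩).1⟩ : T)
  have horb : ∀ x, orbit T (Z x) = orbit T x := fun x => orbit_eq_iff.2 (hZ x)
  have h3 : ∀ x, Z (Z (Z x)) = x := fun x => by
    have h1 : Z (Z x) = F (orbit T x) (Z x) := by show F (orbit T (Z x)) (Z x) = _; rw [horb]
    have h2 : Z (Z (Z x)) = F (orbit T x) (Z (Z x)) := by
      show F (orbit T (Z (Z x))) (Z (Z x)) = _; rw [horb, horb]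
    rw [h2, h1]
    exact ((hF _ ⟨x, rfl⟩).2 x (mem_orbit_self x)).1
  refine ⟨⟨Z, fun x => Z (Z x), h3, h3⟩, h3, fun x => ((hF _ ⟨x, rfl⟩).2 x (mem_orbit_self x)).2.1,
    fun t ht x => ?_, hZ⟩
  show t (Z x) = F (orbit T (t x)) (t x)
  rw [show orbit T (t x) = orbit T x from orbit_eq_iff.2 (mem_orbit x (⟨t, ht⟩ : T))]
  exact (((hF _ ⟨x, rfl⟩).2 x (mem_orbit_self x)).2.2 t ht).symm

/-- The transitive case. -/
theorem twoOver_of_transitive {T : Subgroup (Perm β)} (hT : IsPGroup 3 T) {x₀ : β}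
    (htr : ∀ y, y ∈ orbit T x₀) {a : ℕ} (ha : 3 ≤ a) (hn : Fintype.card β = 3 ^ a) : TwoOver T := by
  classical
  haveI : Fact (Nat.Prime 3) := ⟨Nat.prime_three⟩
  obtain ⟨e, he⟩ := IsPGroup.iff_card.1 hT
  set S := stabilizer T x₀ with hS
  obtain ⟨k, hk⟩ := IsPGroup.iff_card.1 (hT.to_subgroup S)
  have hidx : S.index = 3 ^ a := by
    rw [hS, MulAction.index_stabilizer, show orbit T x₀ = Set.univ from Set.eq_univ_of_forall htr,
      Set.ncard_univ, Nat.card_eq_fintype_card, hn]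
  have hek : k + a = e := Nat.pow_right_injective (show 2 ≤ 3 by norm_num) (by
    show 3 ^ (k + a) = 3 ^ e
    rw [pow_add, ← hk, ← hidx, S.card_mul_index, he])
  obtain ⟨K, hK, hSK⟩ := Sylow.exists_subgroup_card_pow_prime_le 3 (m := e - 1)
    (by rw [he]; exact Nat.pow_dvd_pow 3 (Nat.sub_le e 1)) S hk (by omega)
  have hKi : K.index = 3 := by
    have := K.card_mul_index
    rw [hK, he, show e = e - 1 + 1 by omega, pow_succ, Nat.add_sub_cancel] at this
    exact Nat.eq_of_mul_eq_mul_left (by positivity) this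
  haveI hKn : K.Normal := Subgroup.normal_of_index_eq_minFac_card (by
    rw [hKi, he, Nat.pow_minFac (by omega), Nat.Prime.minFac_eq Nat.prime_three])
  haveI : Nontrivial K := by
    rw [← Finite.one_lt_card_iff_nontrivial, hK]
    exact Nat.one_lt_pow (by omega) (by norm_num)
  have hne := BlocksCharsC.inf_center_ne_bot hT K
  have hd : 3 ∣ Nat.card ↥(K ⊓ Subgroup.center T) :=
    (hT.to_subgroup _).card_eq_or_dvd.resolve_left (fun h => hne (Subgroup.card_eq_one.1 h))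
  obtain ⟨c, hc⟩ := exists_prime_orderOf_dvd_card' 3 hd
  set z : Perm β := ((c : T) : Perm β) with hz
  have hcomm : ∀ t ∈ T, ∀ x, t (z x) = z (t x) := fun t ht x =>
    congrArg (fun p : T => (p : Perm β) x) (Subgroup.mem_center_iff.1 c.2.2 ⟨t, ht⟩)
  have hz1 : ∀ x, z x ≠ x := by
    intro x hx
    have hall : ∀ y, z y = y := fun y => by
      obtain ⟨⟨s, hs⟩, rfl⟩ : y ∈ orbit T x := by
        rw [orbit_eq_iff.2 (htr x)]; exact htr y
      show z (s x) = s x
      rw [← hcomm s hs, hx]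
    have : c = 1 := Subtype.ext (Subtype.ext (Equiv.ext hall))
    rw [this, orderOf_one] at hc
    omega
  have hz3 : ∀ x, z (z (z x)) = x := fun x => by
    have h3 := pow_orderOf_eq_one c
    rw [hc] at h3
    have h3' : z ^ 3 = 1 := by
      simpa [z] using congrArg (fun u : ↥(K ⊓ Subgroup.center T) => ((u : T) : Perm β)) h3
    simpa [pow_succ] using congrArg (fun p : Perm β => p x) h3'
  have hcard : (orbit K x₀).ncard = 3 ^ (a - 1) := by
    rw [← MulAction.index_stabilizer]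
    have h1 : stabilizer K x₀ = S.subgroupOf K := rfl
    have h2 := (S.subgroupOf K).card_mul_index
    rw [Nat.card_congr (Subgroup.subgroupOfEquivOfLe hSK).toEquiv, hk, hK,
      show e - 1 = k + (a - 1) by omega, pow_add] at h2
    rw [h1]
    exact Nat.eq_of_mul_eq_mul_left (by positivity) h2
  let f : β → Set β := fun x => orbit K x
  have hfT : T ≤ relStab f := by
    have one : ∀ t ∈ T, ∀ x y, f x = f y → f (t x) = f (t y) := by
      intro t ht x y hxy
      obtain ⟨⟨u, hu⟩, hux⟩ := orbit_eq_iff.1 hxy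
      refine orbit_eq_iff.2 ⟨⟨⟨t, ht⟩ * u * ⟨t, ht⟩⁻¹, hKn.conj_mem u hu _⟩, ?_⟩
      change (u : Perm β) y = x at hux
      show t ((u : Perm β) (t⁻¹ (t y))) = t x
      rw [Perm.coe_inv, Equiv.symm_apply_apply, hux]
    intro t ht x y
    refine ⟨fun h => ?_, one t ht x y⟩
    simpa using one t⁻¹ (inv_mem ht) _ _ h
  have hfz : ∀ x, f (z x) = f x := fun x => orbit_eq_iff.2 (mem_orbit x (⟨c, c.2.1⟩ : K))
  have hU : (Finset.univ.filter fun y => f y = f x₀).card = 3 ^ (a - 1) := by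
    rw [← hcard, ← Set.ncard_coe_finset]
    congr 1
    ext y
    simp only [Finset.coe_filter, Finset.mem_univ, true_and, Set.mem_setOf_eq, f]
    exact orbit_eq_iff
  have h9 : 9 ≤ 3 ^ (a - 1) := le_trans (by norm_num) (Nat.pow_le_pow_right (by norm_num) (show 2 ≤ a - 1 by omega))
  obtain ⟨w₀, hw₀⟩ : ∃ w₀, f w₀ ≠ f x₀ := by
    by_contra! hall
    rw [Finset.filter_true_of_mem fun y _ => hall y, Finset.card_univ, hn] at hU
    have := Nat.pow_right_injective (show 2 ≤ 3 by norm_num) hU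
    omega
  exact twoOver_of_cycles f z hz3 hz1 hcomm hfT hfz x₀ w₀ hw₀ (by omega)

/-- The combinatorial theorem. -/
theorem exists_two {T : Subgroup (Perm β)} (hT : IsPGroup 3 T) (hne : T ≠ ⊥)
    (h5 : 5 ≤ Fintype.card β) (h6 : Fintype.card β ≠ 6) (h9 : Fintype.card β ≠ 9)
    (hpow : ¬ ∃ a : ℕ, 2 ≤ a ∧ Fintype.card β = 3 ^ a + 1) : TwoOver T := by
  classical
  haveI : Fact (Nat.Prime 3) := ⟨Nat.prime_three⟩
  obtain ⟨m, t, ht, htm⟩ : ∃ m, ∃ t ∈ T, t m ≠ m := by
    by_contra! hall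
    exact hne ((Subgroup.eq_bot_iff_forall _).2 fun t ht => Equiv.ext fun x => hall x t ht)
  have sym : ∀ {u v : β}, u ∈ orbit T v → v ∈ orbit T u := fun h => by
    rw [orbit_eq_iff.2 h]; exact mem_orbit_self _
  by_cases htr : ∀ y, y ∈ orbit T m
  · obtain ⟨a, ha⟩ := hT.card_orbit m
    rw [show orbit T m = Set.univ from Set.eq_univ_of_forall htr, Nat.card_coe_set_eq, Set.ncard_univ,
      Nat.card_eq_fintype_card] at ha
    refine twoOver_of_transitive hT htr ?_ ha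
    rcases a with _ | _ | _ | a <;> norm_num at ha <;> omega
  push Not at htr
  obtain ⟨y, hy⟩ := htr
  by_cases h3 : ∃ x, x ∉ orbit T m ∧ x ∉ orbit T y
  · obtain ⟨x, hxm, hxy⟩ := h3
    exact twoOver_of_three_orbits (by omega) ht htm (fun h => hxm (sym h)) (fun h => hy (sym h))
      (fun h => hxy (sym h))
  push Not at h3
  obtain ⟨a, ha⟩ := hT.card_orbit m
  obtain ⟨b, hb⟩ := hT.card_orbit y
  rw [Nat.card_coe_set_eq] at ha hb
  have hdis : Disjoint (orbit T m) (orbit T y) := Set.disjoint_left.2 fun u h1 h2 => hy (by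
    rw [← orbit_eq_iff.2 h1, orbit_eq_iff.2 h2]; exact mem_orbit_self _)
  have hsum : 3 ^ a + 3 ^ b = Fintype.card β := by
    rw [← ha, ← hb, ← Set.ncard_union_eq hdis, ← Nat.card_eq_fintype_card, ← Set.ncard_univ]
    refine congrArg Set.ncard (Set.eq_univ_of_forall fun u => ?_)
    by_cases hu : u ∈ orbit T m
    · exact Or.inl hu
    · exact Or.inr (h3 u hu)
  have ha1 : 1 ≤ a := by
    rcases Nat.eq_zero_or_pos a with rfl | h
    · exfalso
      obtain ⟨u, hu⟩ := Set.ncard_eq_one.1 (ha.trans (pow_zero 3))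
      have e1 : t m ∈ orbit T m := mem_orbit m (⟨t, ht⟩ : T)
      have e2 := mem_orbit_self (M := T) m
      rw [hu] at e1 e2
      exact htm (e1.trans e2.symm)
    · exact h
  have hb1 : 1 ≤ b := by
    rcases Nat.eq_zero_or_pos b with rfl | h
    · exfalso
      rw [pow_zero] at hsum
      rcases Nat.lt_or_ge a 2 with h' | h'
      · rw [show a = 1 by omega] at hsum; omega
      · exact hpow ⟨a, h', hsum.symm⟩
    · exact h
  obtain ⟨s, hs, hsy⟩ : ∃ s ∈ T, s y ≠ y := by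
    by_contra! hall
    have : orbit T y ⊆ {y} := by rintro _ ⟨⟨s, hs⟩, rfl⟩; exact hall s hs
    have := Set.ncard_le_ncard this
    rw [hb, Set.ncard_singleton] at this
    have := Nat.pow_le_pow_right (show 1 ≤ 3 by norm_num) hb1
    omega
  have hmov : ∀ x, ∃ t ∈ T, t x ≠ x := fun x => by
    have : ∀ {u : β}, x ∈ orbit T u → (∃ t ∈ T, t u ≠ u) → ∃ t ∈ T, t x ≠ x := by
      rintro u ⟨⟨v, hv⟩, rfl⟩ ⟨s, hs, hsu⟩
      refine ⟨v * s * v⁻¹, mul_mem (mul_mem hv hs) (inv_mem hv), ?_⟩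
      show v (s (v⁻¹ (v u))) ≠ v u
      rw [Perm.coe_inv, Equiv.symm_apply_apply]
      exact v.injective.ne hsu
    by_cases hx : x ∈ orbit T m
    · exact this hx ⟨t, ht, htm⟩
    · exact this (h3 x hx) ⟨s, hs, hsy⟩
  obtain ⟨z, hz3, hz1, hzT, hzo⟩ := exists_cycles hT hmov
  have finish : ∀ {x₀ w₀ : β} {c : ℕ}, 2 ≤ c → (orbit T x₀).ncard = 3 ^ c → w₀ ∉ orbit T x₀ → TwoOver T := by
    intro x₀ w₀ c hc hcard hw₀
    let f : β → Prop := fun i => i ∈ orbit T x₀
    have hinv : ∀ g : T, ∀ i, f ((g : Perm β) i) = f i := fun g i =>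
      propext (apply_mem_orbit_iff g i x₀)
    refine twoOver_of_cycles f z hz3 hz1 hzT (fun g hg => mem_relStab_of_fix (hinv ⟨g, hg⟩))
      (fun i => ?_) x₀ w₀ (fun h => hw₀ (h ▸ mem_orbit_self x₀ : f w₀)) ?_
    · obtain ⟨g, hg⟩ := hzo i
      change (g : Perm β) i = z i at hg
      rw [← hg]; exact hinv g i
    · have he : ((Finset.univ.filter fun i => f i = f x₀) : Set β) = orbit T x₀ := by
        ext i
        simp only [Finset.coe_filter, Finset.mem_univ, true_and, Set.mem_setOf_eq, f]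
        exact ⟨fun h => h ▸ mem_orbit_self x₀, fun h => propext ⟨fun _ => mem_orbit_self x₀, fun _ => h⟩⟩
      rw [← Set.ncard_coe_finset, he, hcard]
      exact lt_of_lt_of_le (by norm_num) (Nat.pow_le_pow_right (by norm_num) hc)
  rcases Nat.lt_or_ge a 2 with h' | h'
  · rcases Nat.lt_or_ge b 2 with h'' | h''
    · rw [show a = 1 by omega, show b = 1 by omega] at hsum; omega
    · exact finish h'' hb fun h => hy (sym h)
  · exact finish h' ha hy

end CfsgLib.ThreeOvergroups
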