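import Cfsg.Agent.LocalEven49.AltSixOddAut
import Cfsg.Agent.LocalEven49.ThreeOvergroups
import Cfsg.Agent.Components.FStar
import Cfsg.Agent.Sims60.AltBig
import Cfsg.Prelude.Def_LocalEven

/-!
# 3-minimal groups with alternating generalized Fitting subgroup
-/

set_option autoImplicit false
set_option linter.style.haveILetI false

namespace CfsgLib.ThreeMinimalAlt

open Equiv Subgroup

variable {X : Type*} [Group X] [Finite X] {n : ℕ}

theorem fstar_eq_top (hX : Cfsg.IsPMinimal 3 X) (hn : 5 ≤ n)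
    (e : ↥(Cfsg.generalizedFittingSubgroup X) ≃* alternatingGroup (Fin n)) :
    Cfsg.generalizedFittingSubgroup X = ⊤ := by
  haveI : Fact (Nat.Prime 3) := ⟨Nat.prime_three⟩
  set F := Cfsg.generalizedFittingSubgroup X with hF
  haveI : F.Normal := Subgroup.sup_normal _ _
  set A := alternatingGroup (Fin n)
  have hcF : centralizer (F : Set X) = ⊥ := by
    rw [eq_bot_iff_forall]
    intro x hx
    have hxF := Components.centralizer_generalizedFitting_le_self hx
    have h1 : ((e ⟨x, hxF⟩ : A) : Perm (Fin n)) ∈ centralizer (A : Set (Perm (Fin n))) := by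
      rw [mem_centralizer_iff]
      intro a ha
      have h2 : e.symm ⟨a, ha⟩ * ⟨x, hxF⟩ = ⟨x, hxF⟩ * e.symm ⟨a, ha⟩ :=
        Subtype.ext (mem_centralizer_iff.1 hx _ (e.symm ⟨a, ha⟩).2)
      have h3 := congrArg (fun u => ((e u : A) : Perm (Fin n))) h2
      simpa using h3
    rw [Sims60.centralizer_alternating (by omega), mem_bot] at h1
    have h4 : e ⟨x, hxF⟩ = 1 := Subtype.ext h1
    exact congrArg Subtype.val (e.injective (h4.trans e.map_one.symm))
  have hcA : ∀ σ : Perm (Fin n), (MulAut.conjNormal σ : MulAut A) = 1 → σ = 1 := by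
    intro σ hσ
    have h : σ ∈ centralizer (A : Set (Perm (Fin n))) := mem_centralizer_iff.2 fun a ha => by
      have := congrArg (fun u : MulAut A => ((u ⟨a, ha⟩ : A) : Perm (Fin n))) hσ
      simp only [MulAut.conjNormal_apply, MulAut.one_apply] at this
      exact (mul_inv_eq_iff_eq_mul.1 this).symm
    rwa [Sims60.centralizer_alternating (by omega), mem_bot] at h
  let f : X →* MulAut A := (MulAut.congr e).toMonoidHom.comp MulAut.conjNormal
  have hf : ∀ (x : X) (w : F), ((f x (e w) : A)) = e (MulAut.conjNormal x w) := fun x w => by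
    show e (MulAut.conjNormal x (e.symm (e w))) = _
    rw [e.symm_apply_apply]
  have hfinj : Function.Injective f := by
    rw [injective_iff_map_eq_one]
    intro x hx
    have h : x ∈ centralizer (F : Set X) := mem_centralizer_iff.2 fun a ha => by
      have h1 := hf x ⟨a, ha⟩
      rw [hx, MulAut.one_apply] at h1
      have h2 := congrArg Subtype.val (e.injective h1)
      rw [MulAut.conjNormal_apply] at h2
      exact (mul_inv_eq_iff_eq_mul.1 h2.symm).symm
    rwa [hcF, mem_bot] at h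
  -- elements of 3-power order lie in `F`
  have hthree : ∀ (x : X) (k : ℕ), x ^ 3 ^ k = 1 → x ∈ F := by
    intro x k hk
    obtain ⟨σ, hσ⟩ := AltOddAut.exists_conjNormal (by omega) (f x) (k := k) (by rw [← map_pow, hk, map_one])
    have hσ3 : σ ^ 3 ^ k = 1 := hcA _ (by rw [map_pow, hσ, ← map_pow, hk, map_one])
    have hs : Perm.sign σ = 1 := by
      rcases Int.units_eq_one_or (Perm.sign σ) with h | h
      · exact h
      · have h2 := congrArg Perm.sign hσ3
        rw [map_pow, h, map_one, Odd.neg_one_pow (Odd.pow (by decide))] at h2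
        exact h.trans h2
    have : x = (e.symm ⟨σ, Perm.mem_alternatingGroup.2 hs⟩ : F) := hfinj (MulEquiv.ext fun a => by
      obtain ⟨w, rfl⟩ := e.surjective a
      rw [hf (e.symm ⟨σ, Perm.mem_alternatingGroup.2 hs⟩ : F) w, ← hσ]
      refine Subtype.ext ?_
      rw [show MulAut.conjNormal ((e.symm ⟨σ, Perm.mem_alternatingGroup.2 hs⟩ : F) : X) w =
        e.symm ⟨σ, Perm.mem_alternatingGroup.2 hs⟩ * w * (e.symm ⟨σ, Perm.mem_alternatingGroup.2 hs⟩)⁻¹ from
          Subtype.ext (MulAut.conjNormal_apply _ _)]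
      simp [MulAut.conjNormal_apply])
    rw [this]
    exact SetLike.coe_mem _
  obtain ⟨T⟩ : Nonempty (Sylow 3 X) := inferInstance
  have hTF : (T : Subgroup X) ≤ F := fun x hx => by
    obtain ⟨k, hk⟩ := T.isPGroup' ⟨x, hx⟩
    exact hthree x k (by simpa using congrArg Subtype.val hk)
  obtain ⟨hnn, M, ⟨hM, hTM⟩, huniq⟩ := hX T
  have htop := Sylow.normalizer_sup_eq_top' T hTF
  by_contra hne
  obtain ⟨M', hM', hle⟩ := (eq_top_or_exists_le_coatom F).resolve_left hne
  obtain rfl := huniq M' ⟨hM', hTF.trans hle⟩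
  rcases eq_top_or_exists_le_coatom (normalizer ((T : Subgroup X) : Set X)) with h | ⟨M'', hM'', hle'⟩
  · exact hnn (normalizer_eq_top_iff.1 h)
  · obtain rfl := huniq M'' ⟨hM'', le_normalizer.trans hle'⟩
    exact hM.1 (eq_top_iff.2 (htop ▸ sup_le hle' hle))

theorem degree_cases (hX : Cfsg.IsPMinimal 3 X) (hn : 5 ≤ n) (ψ : X ≃* alternatingGroup (Fin n)) :
    n = 6 ∨ n = 9 ∨ ∃ a : ℕ, 2 ≤ a ∧ n = 3 ^ a + 1 := by
  haveI : Fact (Nat.Prime 3) := ⟨Nat.prime_three⟩
  by_contra! hcon
  obtain ⟨h6, h9, hpow⟩ := hcon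
  obtain ⟨T⟩ : Nonempty (Sylow 3 X) := inferInstance
  obtain ⟨hnn, M, ⟨hM, hTM⟩, huniq⟩ := hX T
  set ι : X →* Perm (Fin n) := (alternatingGroup (Fin n)).subtype.comp ψ.toMonoidHom with hι
  have hinj : Function.Injective ι := (subtype_injective _).comp ψ.injective
  have hne : (T : Subgroup X).map ι ≠ ⊥ := fun h => hnn (by
    rw [(map_eq_bot_iff_of_injective _ hinj).1 h]; infer_instance)
  obtain ⟨M₁, M₂, hT1, hT2, hp1, hp2, hjoin⟩ := ThreeOvergroups.exists_two (T.isPGroup'.map ι) hne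
    (by simpa using hn) (by simpa using h6) (by simpa using h9)
    (by simpa using fun a ha => hpow a ha)
  have hmap : ∀ N : Subgroup (Perm (Fin n)), (T : Subgroup X).map ι ≤ N →
      ¬ alternatingGroup (Fin n) ≤ N → N ⊓ alternatingGroup (Fin n) ≤ M.map ι := by
    intro N hTN hp
    have hsub : N ⊓ alternatingGroup (Fin n) ≤ (N.comap ι).map ι := fun g hg =>
      ⟨ψ.symm ⟨g, hg.2⟩, by simpa [hι] using hg.1, by simp [hι]⟩
    refine hsub.trans (map_mono ?_)
    rcases eq_top_or_exists_le_coatom (N.comap ι) with h | ⟨M', hM', hle⟩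
    · refine absurd (fun g hg => ?_) hp
      have := (h ▸ mem_top _ : ψ.symm ⟨g, hg⟩ ∈ N.comap ι)
      simpa [hι] using this
    · rw [← huniq M' ⟨hM', (map_le_iff_le_comap.1 hTN).trans hle⟩]
      exact hle
  refine hM.1 (eq_top_iff.2 fun x _ => ?_)
  have := (hjoin.trans (sup_le (hmap M₁ hT1 hp1) (hmap M₂ hT2 hp2))) (ψ x).2
  obtain ⟨y, hy, hyx⟩ := this
  rwa [← hinj (show ι y = ι x from hyx)]

end CfsgLib.ThreeMinimalAlt
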